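import Groth.Agent.DComplete.Module
import Mathlib.RingTheory.AdicCompletion.Basic
import Mathlib.RingTheory.Ideal.Operations
import Mathlib.RingTheory.Nilpotent.Basic
import Mathlib.RingTheory.Finiteness.Ideal

/-!
Derived completeness and adic completeness of modules.
-/

set_option autoImplicit false
universe u v

open CategoryTheory CategoryTheory.Limits

attribute [local instance] HasDerivedCategory.standard

namespace Groth.Agent.DComplete

variable {A : Type u} [CommRing A] {M : Type*} [AddCommGroup M] [Module A M]

/-- Adically complete modules satisfy the telescope condition. -/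
lemma tele_of_isAdicComplete (I : Ideal A) [IsAdicComplete I M] {f : A} (hf : f ∈ I) :
    Tele (smulEnd M f) := by
  have hz : ∀ x : M, (∀ n, x ∈ (I ^ n • ⊤ : Submodule A M)) → x = 0 := fun x hx =>
    IsHausdorff.haus' (I := I) x fun n => SModEq.zero.2 (hx n)
  refine ⟨fun x y hxy => sub_eq_zero.1 ?_, fun m => ?_⟩
  · funext n
    have hn : ∀ n, (x - y) n = f • (x - y) (n + 1) := fun n => by
      have := congrFun hxy n
      simp only [teleMap, DistribSMul.toAddMonoidHom_apply] at this
      simp only [Pi.sub_apply, smul_sub]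
      rwa [sub_eq_sub_iff_sub_eq_sub] at this
    refine hz _ fun k => ?_
    have hk : ∀ k, (x - y) n = f ^ k • (x - y) (n + k) := fun k => by
      induction k with
      | zero => simp
      | succ k ih => rw [ih, hn (n + k), smul_smul, ← pow_succ, add_assoc]
    rw [hk k]
    exact Submodule.smul_mem_smul (Ideal.pow_mem_pow hf k) trivial
  · let S : ℕ → ℕ → M := fun n k => ∑ j ∈ Finset.range k, f ^ j • m (n + j)
    have hS : ∀ n a b, a ≤ b → S n a ≡ S n b [SMOD (I ^ a • ⊤ : Submodule A M)] := fun n a b hab => by
      rw [SModEq.sub_mem, ← neg_sub, Submodule.neg_mem_iff, ← Finset.sum_Ico_eq_sub _ hab]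
      refine Submodule.sum_mem _ fun j hj => Submodule.smul_mem_smul ?_ trivial
      exact Ideal.pow_le_pow_right (Finset.mem_Ico.1 hj).1 (Ideal.pow_mem_pow hf j)
    choose L hL using fun n => IsPrecomplete.prec' (I := I) (S n) fun h => hS n _ _ h
    refine ⟨L, funext fun n => sub_eq_zero.1 (hz _ fun k => ?_)⟩
    have h0 : S n (k + 1) = m n + f • S (n + 1) k := by
      simp only [S, Finset.sum_range_succ', Finset.smul_sum, smul_smul, ← pow_succ']
      rw [add_comm, pow_zero, one_smul, add_zero]
      exact congrArg _ (Finset.sum_congr rfl fun j _ => by rw [add_right_comm, add_assoc])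
    have h1 : L n - S n (k + 1) ∈ (I ^ k • ⊤ : Submodule A M) :=
      Submodule.smul_mono_left (Ideal.pow_le_pow_right k.le_succ)
        (SModEq.sub_mem.1 (hL n (k + 1)).symm)
    have h2 : f • (L (n + 1) - S (n + 1) k) ∈ (I ^ k • ⊤ : Submodule A M) :=
      Submodule.smul_mem _ _ (SModEq.sub_mem.1 (hL (n + 1) k).symm)
    have := Submodule.sub_mem _ h1 h2
    show L n - f • L (n + 1) - m n ∈ _
    convert this using 1
    rw [h0, smul_sub]
    abel

lemma mem_decomp (J : Ideal A) (f : A) :
    ∀ (n : ℕ) (x : M), x ∈ ((J ⊔ Ideal.span {f}) ^ n • ⊤ : Submodule A M) →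
      ∃ e : ℕ → M, (∀ a, a ≤ n → e a ∈ (J ^ (n - a) • ⊤ : Submodule A M)) ∧
        x = ∑ a ∈ Finset.range (n + 1), f ^ a • e a := by
  intro n
  induction n with
  | zero => exact fun x _ => ⟨fun _ => x, fun a _ => by simp, by simp⟩
  | succ n ih =>
    intro x hx
    rw [pow_succ', ← smul_eq_mul, Submodule.smul_assoc] at hx
    refine Submodule.smul_induction_on hx (fun r hr y hy => ?_) (fun x y hx hy => ?_)
    · obtain ⟨j, hj, g, hg, rfl⟩ := Submodule.mem_sup.1 hr
      obtain ⟨c, rfl⟩ := Ideal.mem_span_singleton'.1 hg
      obtain ⟨e, he, rfl⟩ := ih y hy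
      refine ⟨fun a => (if a ≤ n then j • e a else 0) + (if 1 ≤ a then c • e (a - 1) else 0),
        fun a ha => Submodule.add_mem _ ?_ ?_, ?_⟩
      · split
        · next h =>
          rw [show n + 1 - a = n - a + 1 by lia, pow_succ', ← smul_eq_mul, Submodule.smul_assoc]
          exact Submodule.smul_mem_smul hj (he a h)
        · exact Submodule.zero_mem _
      · split
        · next h =>
          rw [show n + 1 - a = n - (a - 1) by lia]
          exact Submodule.smul_mem _ _ (he _ (by lia))
        · exact Submodule.zero_mem _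
      · simp only [smul_add, Finset.sum_add_distrib, add_smul, Finset.smul_sum]
        congr 1
        · rw [Finset.sum_range_succ _ (n + 1), if_neg (by lia), smul_zero, add_zero]
          refine Finset.sum_congr rfl fun a ha => ?_
          rw [if_pos (by simpa using ha), smul_comm]
        · rw [Finset.sum_range_succ' _ (n + 1), if_neg (by lia), smul_zero, add_zero]
          refine Finset.sum_congr rfl fun a _ => ?_
          rw [if_pos (by lia), Nat.add_sub_cancel, smul_smul, smul_smul]
          congr 1
          ring
    · obtain ⟨e, he, rfl⟩ := hx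
      obtain ⟨e', he', rfl⟩ := hy
      exact ⟨e + e', fun a ha => Submodule.add_mem _ (he a ha) (he' a ha), by
        simp [Finset.sum_add_distrib]⟩

/-- Convergence of series in a derived complete module. -/
lemma exists_series (s : List A) (h : ∀ f ∈ s, Tele (smulEnd M f)) :
    ∀ d : ℕ → M, (∀ n, d n ∈ (Ideal.span {x | x ∈ s} ^ n • ⊤ : Submodule A M)) →
      ∃ v : M, ∀ N, v - ∑ n ∈ Finset.range N, d n ∈
        (Ideal.span {x | x ∈ s} ^ N • ⊤ : Submodule A M) := by
  induction s with
  | nil =>
    intro d hd
    refine ⟨d 0, fun N => ?_⟩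
    rcases N with _ | N
    · simp
    · have hb : Ideal.span {x : A | x ∈ ([] : List A)} = 0 := by simp
      have : ∀ n, d (n + 1) = 0 := fun n => by
        have h1 := hd (n + 1)
        rwa [hb, zero_pow n.succ_ne_zero, zero_smul, Submodule.zero_eq_bot, Submodule.mem_bot] at h1
      simp [Finset.sum_range_succ', this]
  | cons f s ih =>
    intro d hd
    have hsup : Ideal.span {x | x ∈ f :: s} = Ideal.span {x | x ∈ s} ⊔ Ideal.span {f} := by
      rw [← Ideal.span_union]
      congr 1
      ext x
      simp [or_comm]
    rw [hsup] at hd ⊢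
    generalize hJ : Ideal.span {x | x ∈ s} = J at hd ih ⊢
    have hfT := h f List.mem_cons_self
    choose e he hde using fun n => mem_decomp J f n (d n) (hd n)
    choose v hv using fun a => ih (fun g hg => h g (List.mem_cons_of_mem _ hg))
      (fun b => e (a + b) a) fun b => by simpa using he (a + b) a le_self_add
    refine ⟨hfT.sol v, fun N => ?_⟩
    have hs : ∀ N, ∀ w : ℕ → M, hfT.sol w =
        (∑ a ∈ Finset.range N, f ^ a • w a) + f ^ N • hfT.sol fun k => w (N + k) := by
      intro N
      induction N with
      | zero => simp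
      | succ N ihN =>
        intro w
        conv_lhs => rw [ihN w, hfT.sol_succ]
        simp only [DistribSMul.toAddMonoidHom_apply, smul_add, smul_smul, ← pow_succ, add_zero,
          Finset.sum_range_succ, add_assoc, add_comm 1]
    have hsum : ∑ n ∈ Finset.range N, d n =
        ∑ a ∈ Finset.range N, f ^ a • ∑ b ∈ Finset.range (N - a), e (a + b) a := by
      clear hs
      induction N with
      | zero => simp
      | succ N ihN =>
        rw [Finset.sum_range_succ, ihN, hde, Finset.sum_range_succ _ N,
          Finset.sum_range_succ (fun a => f ^ a • ∑ b ∈ Finset.range (N + 1 - a), e (a + b) a) N,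
          ← add_assoc, ← Finset.sum_add_distrib]
        refine congrArg₂ _ (Finset.sum_congr rfl fun a ha => ?_) (by simp)
        have ha' := Finset.mem_range.1 ha
        rw [show N + 1 - a = N - a + 1 by lia, Finset.sum_range_succ, smul_add,
          show a + (N - a) = N by lia]
    rw [hs N v, hsum, add_sub_right_comm, ← Finset.sum_sub_distrib]
    have hf0 : f ∈ J ⊔ Ideal.span {f} := Ideal.mem_sup_right (Ideal.mem_span_singleton_self f)
    refine Submodule.add_mem _ (Submodule.sum_mem _ fun a ha => ?_)
      (Submodule.smul_mem_smul (Ideal.pow_mem_pow hf0 N) (Submodule.mem_top (x := hfT.sol _)))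
    rw [← smul_sub]
    have h3 := Submodule.smul_mono_left
      (Ideal.pow_right_mono (le_sup_left : J ≤ J ⊔ Ideal.span {f}) (N - a)) (hv a (N - a))
    have h4 := Submodule.smul_mem_smul
      (Ideal.pow_mem_pow hf0 a) h3
    rw [← Submodule.smul_assoc, smul_eq_mul, ← pow_add,
      show a + (N - a) = N by have := Finset.mem_range.1 ha; lia] at h4
    exact h4

lemma exists_list_of_fg {I : Ideal A} (hI : I.FG) : ∃ s : List A, Ideal.span {x | x ∈ s} = I := by
  obtain ⟨t, rfl⟩ := hI
  exact ⟨t.toList, congrArg _ (Set.ext fun x => Finset.mem_toList)⟩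

lemma surjective_of (I : Ideal A) (hI : I.FG) (h : ∀ f ∈ I, Tele (smulEnd M f)) :
    Function.Surjective (AdicCompletion.of I M) := by
  intro x
  obtain ⟨s, rfl⟩ := exists_list_of_fg hI
  choose c hc using fun n => Submodule.Quotient.mk_surjective _ (x.val n)
  have hd : ∀ n, c (n + 1) - c n ∈ (Ideal.span {x | x ∈ s} ^ n • ⊤ : Submodule A M) := fun n => by
    refine (Submodule.Quotient.eq _).1 ?_
    rw [hc n, ← x.property n.le_succ, ← hc (n + 1)]
    rfl
  obtain ⟨v, hv⟩ := exists_series s (fun f hf => h f (Ideal.subset_span hf)) _ hd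
  refine ⟨c 0 + v, AdicCompletion.ext fun N => ?_⟩
  rw [AdicCompletion.of_apply, Submodule.mkQ_apply, ← hc N, Submodule.Quotient.eq]
  have := hv N
  rw [Finset.sum_range_sub c N] at this
  convert this using 1
  abel

/-- Nakayama for derived complete modules. -/
lemma subsingleton_of_smul_top_eq {M : Type u} [AddCommGroup M] [Module A M] (s : List A)
    (h : ∀ f ∈ s, Tele (smulEnd M f))
    (hM : (Ideal.span {x | x ∈ s} • ⊤ : Submodule A M) = ⊤) : Subsingleton M := by
  induction s generalizing M with
  | nil =>
    simp only [List.not_mem_nil, Set.setOf_false, Ideal.span_empty, Submodule.bot_smul] at hM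
    exact (Submodule.subsingleton_iff A).1 (subsingleton_of_bot_eq_top hM)
  | cons f s ih =>
    let u := LinearMap.lsmul A M f
    have hfT := h f List.mem_cons_self
    have hN : Subsingleton (M ⧸ LinearMap.range u) := by
      refine ih (fun g hg => tele_coker g u (h g (List.mem_cons_of_mem _ hg))
        (h g (List.mem_cons_of_mem _ hg))) ?_
      have h1 := congrArg (Submodule.map (LinearMap.range u).mkQ) hM
      rw [Submodule.map_smul'', Submodule.map_top, Submodule.range_mkQ] at h1
      refine eq_top_iff.2 (h1.ge.trans (Submodule.smul_le.2 ?_))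
      rintro r hr y -
      have hr' : r ∈ Ideal.span {x | x ∈ s} ⊔ Ideal.span {f} := by
        rw [← Ideal.span_union]
        refine Ideal.span_mono (fun x hx => ?_) hr
        simpa [or_comm] using hx
      obtain ⟨j, hj, g, hg, rfl⟩ := Submodule.mem_sup.1 hr'
      obtain ⟨c, rfl⟩ := Ideal.mem_span_singleton'.1 hg
      obtain ⟨m, rfl⟩ := Submodule.Quotient.mk_surjective _ y
      rw [add_smul]
      refine Submodule.add_mem _ (Submodule.smul_mem_smul hj trivial) ?_
      have : (c * f) • (Submodule.Quotient.mk m : M ⧸ LinearMap.range u) = 0 := by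
        rw [← Submodule.Quotient.mk_smul, Submodule.Quotient.mk_eq_zero]
        exact ⟨c • m, by simp [u, smul_smul, mul_comm]⟩
      rw [this]
      exact Submodule.zero_mem _
    have hsurj : ∀ m : M, ∃ m', f • m' = m := fun m =>
      LinearMap.mem_range.1 ((Submodule.Quotient.mk_eq_zero (LinearMap.range u)).1
        (Subsingleton.elim (Submodule.Quotient.mk m) 0))
    choose g hg using hsurj
    refine subsingleton_of_forall_eq 0 fun m => ?_
    refine (congrFun (hfT.eq_zero (fun n => g^[n] m) fun n => ?_) 0)
    rw [Function.iterate_succ_apply']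
    exact (hg _).symm

/-- The intersection of the powers annihilates the intersection of `f ^ n • M`. -/
lemma smul_iInf_eq_bot {f : A} (h : Tele (smulEnd M f)) :
    (⨅ n : ℕ, Ideal.span {f ^ n}) •
      (⨅ n : ℕ, (Ideal.span {f ^ n}) • (⊤ : Submodule A M)) = (⊥ : Submodule A M) := by
  rw [eq_bot_iff, Submodule.smul_le]
  intro a ha m hm
  simp only [Submodule.mem_iInf, Ideal.mem_span_singleton', Submodule.ideal_span_singleton_smul,
    Submodule.mem_smul_pointwise_iff_exists] at ha hm
  choose an han using ha
  choose mn hmn using hm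
  rw [Submodule.mem_bot]
  have := congrFun (h.eq_zero (fun n => an n • m) fun n => ?_) 0
  · rw [← han 0, mul_smul, pow_zero, one_smul]
    exact this
  · show an n • m = f • an (n + 1) • m
    rw [smul_smul, ← sub_eq_zero, ← sub_smul, ← (hmn n).2, smul_smul]
    rw [show (an n - f * an (n + 1)) * f ^ n = an n * f ^ n - an (n + 1) * f ^ (n + 1) by ring,
      han, han, sub_self, zero_smul]

/-- The intersection of the powers of a finitely generated ideal is nilpotent. -/
lemma iInf_pow_eq_bot : ∀ (r : ℕ) {A : Type u} [CommRing A] (s : List A), s.length = r →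
    (∀ f ∈ s, Tele (smulEnd A f)) → (⨅ n : ℕ, Ideal.span {x | x ∈ s} ^ n) ^ (2 ^ r) = ⊥ := by
  intro r
  induction r with
  | zero =>
    intro A _ s hs _
    rw [List.length_eq_zero_iff] at hs
    subst hs
    rw [eq_bot_iff, pow_zero, pow_one]
    refine (iInf_le _ 1).trans ?_
    simp
  | succ r ih =>
    intro A _ s hs h
    rcases s with _ | ⟨f, s⟩
    · simp at hs
    have hfT := h f List.mem_cons_self
    set J := ⨅ n : ℕ, Ideal.span {x | x ∈ f :: s} ^ n with hJ
    have key : ∀ n, J ^ (2 ^ r) ≤ Ideal.span {f ^ n} := fun n => by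
      let q := Ideal.Quotient.mk (Ideal.span {f ^ n})
      have h1 := ih (A := A ⧸ Ideal.span {f ^ n}) (s.map q) (by simpa using hs) (by
        intro g hg
        obtain ⟨g₀, hg₀, rfl⟩ := List.mem_map.1 hg
        have hgT := tele_coker g₀ (LinearMap.lsmul A A (f ^ n)) (h g₀ (List.mem_cons_of_mem _ hg₀))
          (h g₀ (List.mem_cons_of_mem _ hg₀))
        have he : LinearMap.range (LinearMap.lsmul A A (f ^ n)) = Ideal.span {f ^ n} := by
          ext x
          simp [Ideal.mem_span_singleton', mul_comm, eq_comm]
        exact tele_of_bijective hgT (Submodule.quotEquivOfEq _ _ he).toAddEquiv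
          fun x => map_smul (Submodule.quotEquivOfEq _ _ he) g₀ x)
      have h2 : J.map q ≤ ⨅ k : ℕ, Ideal.span {x | x ∈ s.map q} ^ k := le_iInf fun k => by
        have h3 : J ≤ Ideal.span {f} ^ n ⊔ Ideal.span {x | x ∈ s} ^ k := by
          refine (iInf_le _ (n + k)).trans ((Ideal.pow_right_mono ?_ _).trans
            Ideal.sup_pow_add_le_pow_sup_pow)
          rw [← Ideal.span_union]
          exact Ideal.span_mono fun x hx => by simpa using hx
        refine (Ideal.map_mono h3).trans ?_
        rw [Ideal.map_sup, Ideal.span_singleton_pow, Ideal.map_quotient_self, bot_sup_eq,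
          Ideal.map_pow, Ideal.map_span]
        refine Ideal.pow_right_mono (Ideal.span_mono ?_) k
        rintro _ ⟨x, hx, rfl⟩
        exact List.mem_map_of_mem hx
      have h4 : (J ^ (2 ^ r)).map q = ⊥ := by
        rw [Ideal.map_pow, eq_bot_iff]
        exact (Ideal.pow_right_mono h2 _).trans h1.le
      rwa [Ideal.map_eq_bot_iff_le_ker, Ideal.mk_ker] at h4
    rw [pow_succ, pow_mul, eq_bot_iff, sq]
    refine (Ideal.mul_mono (le_iInf key) (le_iInf fun n => (key n).trans ?_)).trans
      (smul_iInf_eq_bot hfT).le
    rw [smul_eq_mul, Ideal.mul_top]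

end Groth.Agent.DComplete
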