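import Groth.Agent.DComplete.Exists

/-!
# Cohomological amplitude of derived completion, and completion of cones
-/

set_option autoImplicit false
set_option linter.style.haveILetI false
universe u

open CategoryTheory CategoryTheory.Limits CategoryTheory.Pretriangulated

attribute [local instance] HasDerivedCategory.standard

namespace Groth.Agent.DComplete

variable {A : Type u} [CommRing A]

local notation "φ_ " f:max => algebraMap A (Localization.Away f)
local notation "H" => DerivedCategory.homologyFunctor (ModuleCat A)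

/-- Cohomology in degree `n` vanishes. -/
abbrev Van (K : Dual.D A) (n : ℤ) : Prop := IsZero ((H n).obj K)

theorem subsingleton_projective_hom (P : ModuleCat.{u} A) (hP : Module.Projective A P) (K : Dual.D A) (n : ℤ)
    (h : Van K n) : Subsingleton ((DerivedCategory.singleFunctor (ModuleCat.{u} A) 0).obj P ⟶ K⟦n⟧) := by
  have hz : IsZero ((H 0).obj (K⟦n⟧)) :=
    h.of_iso (((H 0).shiftIso n 0 n (by lia)).app K)
  exact ⟨fun a b => (homZero_bijective hP (K⟦n⟧)).1 (hz.eq_of_tgt _ _)⟩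

theorem subsingleton_away_hom (f : A) (K : Dual.D A) (n : ℤ) (h0 : Van K n) (h1 : Van K (n - 1)) :
    Subsingleton (Dual.inD A (Localization.Away f) ⟶ K⟦n⟧) := by
  haveI : Mono (teleP f) := (ModuleCat.mono_iff_injective _).2 (teleP_injective f)
  haveI : Epi (awayP f) := (ModuleCat.epi_iff_surjective _).2 (awayP_surjective f)
  let S := ShortComplex.mk (teleP f) (awayP f)
    (ModuleCat.hom_ext (LinearMap.ext fun p => (tele_exact f).apply_apply_eq_zero p))
  have hS : S.ShortExact :=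
    { exact := (ShortComplex.ShortExact.moduleCat_exact_iff_function_exact S).2 (tele_exact f) }
  have hproj : Module.Projective A (Polynomial A) :=
    Module.Projective.of_basis (Polynomial.basisMonomials A)
  let T := hS.singleTriangle
  have hT := hS.singleTriangle_distinguished
  have hP2 : Subsingleton (T.obj₂ ⟶ K⟦n⟧) :=
    subsingleton_projective_hom (ModuleCat.of A (Polynomial A)) hproj K n h0
  have hP1 : Subsingleton (T.obj₁⟦(1 : ℤ)⟧ ⟶ K⟦n⟧) := by
    have h : Subsingleton (T.obj₁ ⟶ K⟦n - 1⟧) :=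
      subsingleton_projective_hom (ModuleCat.of A (Polynomial A)) hproj K (n - 1) h1
    have h' : Subsingleton (T.obj₁ ⟶ (K⟦n⟧)⟦(-1 : ℤ)⟧) :=
      ((Iso.refl T.obj₁).homCongr ((shiftFunctorAdd' (Dual.D A) n (-1) (n - 1) (by lia)).app K)).subsingleton_congr.1 h
    have h'' := (subsingleton_shift_neg_iff T.obj₁ (K⟦n⟧) (-1)).2 h'
    rwa [neg_neg] at h''
  refine ⟨fun a b => sub_eq_zero.1 ?_⟩
  obtain ⟨γ, hγ⟩ := T.yoneda_exact₃ hT (show T.obj₃ ⟶ K⟦n⟧ from a - b) (hP2.elim _ _)
  exact hγ.trans ((congrArg (T.mor₃ ≫ ·) (hP1.elim γ 0)).trans comp_zero)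

theorem van_restrict (f : A) (K : Dual.D A) {R : Dual.D A ⥤ Dual.D (Localization.Away f)}
    (adj : DRing.restrictD (φ_ f) ⊣ R) (n : ℤ) (h0 : Van K n) (h1 : Van K (n - 1)) :
    Van ((DRing.restrictD (φ_ f)).obj (R.obj K)) n := by
  let B := Localization.Away f
  let P := (DerivedCategory.singleFunctor (ModuleCat.{u} B) 0).obj (ModuleCat.of B B)
  have hsub : Subsingleton ((DRing.restrictD (φ_ f)).obj P ⟶ K⟦n⟧) :=
    ((restrictSelfIso (A := A) (B := B)).homCongr (Iso.refl _)).subsingleton_congr.2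
      (subsingleton_away_hom f K n h0 h1)
  have h2 : Subsingleton (P⟦-n⟧ ⟶ R.obj K) := (adj.homEquiv _ _).subsingleton_congr.1
    (((((DRing.restrictD (φ_ f)).commShiftIso (-n)).app P).homCongr (Iso.refl K)).subsingleton_congr.2
      ((subsingleton_shift_neg_iff _ K n).2 hsub))
  have h3 : Subsingleton (P ⟶ (R.obj K)⟦n⟧) := (subsingleton_shift_neg_iff _ _ n).1 h2
  have h4 := (homZero_bijective (P := ModuleCat.of B B) inferInstance ((R.obj K)⟦n⟧)).2.subsingleton
  have h5 : Subsingleton ((DerivedCategory.homologyFunctor (ModuleCat.{u} B) 0).obj ((R.obj K)⟦n⟧)) :=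
    ⟨fun x y => by
      have := h4.elim (ModuleCat.ofHom (LinearMap.toSpanSingleton B _ x))
        (ModuleCat.ofHom (LinearMap.toSpanSingleton B _ y))
      simpa using congrArg (fun u => ModuleCat.Hom.hom u (1 : B)) this⟩
  exact ((ModuleCat.restrictScalars.{u} (φ_ f)).map_isZero
    ((@ModuleCat.isZero_of_subsingleton _ _ _ h5).of_iso
      (((DerivedCategory.homologyFunctor (ModuleCat.{u} B) 0).shiftIso n 0 n (by lia)).app (R.obj K)).symm)).of_iso
    (DerAdj.homology_mapDerivedCategory (ModuleCat.restrictScalars.{u} (φ_ f)) (R.obj K) n).some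

theorem exists_completion' (l : List A) (K : Dual.D A) : ∃ (C : Dual.D A) (η : K ⟶ C),
    (∀ f ∈ l, IsC f C) ∧
    (∀ L, (∀ f ∈ l, IsC f L) → Function.Bijective (fun α : C ⟶ L => η ≫ α)) ∧
    ∀ n : ℤ, (∀ j : ℕ, j ≤ l.length → Van K (n + j)) → Van C n := by
  induction l with
  | nil => exact ⟨K, 𝟙 K, fun f hf => absurd hf List.not_mem_nil, fun L _ => by
      simp only [Category.id_comp]; exact Function.bijective_id,
      fun n hn => by simpa using hn 0 le_rfl⟩
  | cons f l ih =>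
    obtain ⟨C, η, hC, hL, hv⟩ := ih
    obtain ⟨C', η', h1, h2, h3, R, adj, δ, hT⟩ := exists_step f C
    refine ⟨C', η ≫ η', fun g hg => ?_, fun L h => ?_, fun n hn => ?_⟩
    · rcases List.mem_cons.1 hg with rfl | hg
      · exact h1
      · exact h2 g (hC g hg)
    · have := (hL L fun g hg => h g (List.mem_cons_of_mem _ hg)).comp
        (h3 L (h f List.mem_cons_self))
      simpa [Function.comp_def] using this
    · have hC0 : Van C n := hv n fun j hj => hn j (by simp only [List.length_cons]; lia)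
      have hC1 : Van C (n + 1) := hv (n + 1) fun j hj => by
        have := hn (j + 1) (by simp only [List.length_cons]; lia)
        rwa [Nat.cast_add, Nat.cast_one, show n + ((j : ℤ) + 1) = n + 1 + (j : ℤ) by lia] at this
      have hZ := van_restrict f C adj (n + 1) hC1 (by rwa [add_sub_cancel_right])
      exact ShortComplex.Exact.isZero_X₂
        (DerivedCategory.HomologySequence.exact₃ _ hT n (n + 1) rfl)
        (hC0.eq_of_src _ _) (hZ.eq_of_tgt _ _)

variable {I : Ideal A}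

theorem isC_of_mem {E : Dual.D A} (hE : DRing.IsDerivedComplete I E) {f : A} (hf : f ∈ I) : IsC f E :=
  fun n => hE f hf n

theorem unit_bijective [DRing.HasDerivedCompletion I] (K : Dual.D A) {E : Dual.D A}
    (hE : DRing.IsDerivedComplete I E) : Function.Bijective
      (fun α : ((DRing.derivedCompletion I).obj K).obj ⟶ E => DRing.toDerivedCompletion I K ≫ α) := by
  let X : DRing.DComp I := ⟨E, hE⟩
  let e := (((ObjectProperty.fullyFaithfulι (DRing.IsDerivedComplete I)).homEquiv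
    (X := (DRing.derivedCompletion I).obj K) (Y := X)).symm).trans
      ((DRing.derivedCompletionAdj I).homEquiv K X)
  have : (fun α : ((DRing.derivedCompletion I).obj K).obj ⟶ E => DRing.toDerivedCompletion I K ≫ α) = e :=
    funext fun α => by
      simp [e, Adjunction.homEquiv_unit]
      rfl
  exact this ▸ e.bijective

/-- The chosen completion is any other one. -/
theorem completion_iso [DRing.HasDerivedCompletion I] (K C : Dual.D A) (η : K ⟶ C)
    (hC : DRing.IsDerivedComplete I C)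
    (h : ∀ E, DRing.IsDerivedComplete I E → Function.Bijective (fun α : C ⟶ E => η ≫ α)) :
    Nonempty (((DRing.derivedCompletion I).obj K).obj ≅ C) := by
  let K' := (DRing.derivedCompletion I).obj K
  obtain ⟨u, hu⟩ := (unit_bijective K hC).2 η
  obtain ⟨v, hv⟩ := (h K'.obj K'.property).2 (DRing.toDerivedCompletion I K)
  simp only at hu hv
  exact ⟨⟨u, v, (unit_bijective K K'.property).1 (by
      simp only [reassoc_of% hu, hv, Category.comp_id]),
    (h C hC).1 (by simp only [reassoc_of% hv, hu, Category.comp_id])⟩⟩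

/-- Vanishing for completions. -/
theorem van_completion [DRing.HasDerivedCompletion I] (s : Finset A) (hs : Ideal.span (s : Set A) = I)
    (K : Dual.D A) (n : ℤ) (h : ∀ j : ℕ, j ≤ s.card → Van K (n + j)) :
    Van ((DRing.derivedCompletion I).obj K).obj n := by
  obtain ⟨C, η, hC, hL, hv⟩ := exists_completion' s.toList K
  have hCI : DRing.IsDerivedComplete I C :=
    hs ▸ isC_of_span C fun f hf => hC f (Finset.mem_toList.2 hf)
  obtain ⟨e⟩ := completion_iso K C η hCI fun E hE => hL E fun f hf =>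
    isC_of_mem hE (hs ▸ Ideal.subset_span (Finset.mem_toList.1 hf))
  exact (hv n fun j hj => h j (by rwa [Finset.length_toList] at hj)).of_iso ((H n).mapIso e)

/-- The cone of the completion of a map is the completion of the cone. -/
theorem exists_cone [DRing.HasDerivedCompletion I] {K L : Dual.D A} (φ : K ⟶ L) :
    ∃ (M M' : Dual.D A) (q : L ⟶ M) (d : M ⟶ K⟦(1 : ℤ)⟧)
      (q' : ((DRing.derivedCompletion I).obj L).obj ⟶ M')
      (d' : M' ⟶ (((DRing.derivedCompletion I).obj K).obj)⟦(1 : ℤ)⟧),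
      Triangle.mk φ q d ∈ distinguishedTriangles ∧
      Triangle.mk ((DRing.derivedCompletion I).map φ).hom q' d' ∈ distinguishedTriangles ∧
      Nonempty (((DRing.derivedCompletion I).obj M).obj ≅ M') := by
  let K' := (DRing.derivedCompletion I).obj K
  let L' := (DRing.derivedCompletion I).obj L
  let φ' : K'.obj ⟶ L'.obj := ((DRing.derivedCompletion I).map φ).hom
  let a : K ⟶ K'.obj := DRing.toDerivedCompletion I K
  let b : L ⟶ L'.obj := DRing.toDerivedCompletion I L
  obtain ⟨M, q, d, hT⟩ := distinguished_cocone_triangle φ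
  obtain ⟨M', q', d', hT'⟩ := distinguished_cocone_triangle φ'
  have hnat : φ ≫ b = a ≫ φ' := (DRing.derivedCompletionAdj I).unit.naturality φ
  obtain ⟨m, hm1, hm2⟩ : ∃ m : M ⟶ M', q ≫ m = b ≫ q' ∧ d ≫ a⟦(1 : ℤ)⟧' = m ≫ d' :=
    complete_distinguished_triangle_morphism _ _ hT hT' a b hnat
  have hM' : DRing.IsDerivedComplete I M' := by
    intro f hf
    show IsC f M'
    rw [IsC, away_iff]
    intro E
    refine ⟨fun x y => sub_eq_zero.1 ?_⟩
    generalize x - y = z
    have h1 : z ≫ d' = 0 :=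
      ((away_iff f _).1 ((isC_of_mem K'.property hf).shift 1) E).elim _ _
    obtain ⟨β, hβ⟩ : ∃ β, z = β ≫ q' := Triangle.coyoneda_exact₃ _ hT' z h1
    rw [hβ, ((away_iff f _).1 (isC_of_mem L'.property hf) E).elim β 0, zero_comp]
  refine ⟨M, M', q, d, q', d', hT, hT', completion_iso M M' m hM' fun E hE => ?_⟩
  have hEs : ∀ n : ℤ, DRing.IsDerivedComplete I (E⟦n⟧) := fun n f hf => (isC_of_mem hE hf).shift n
  have hsh : ∀ {X X' : Dual.D A} (c : X ⟶ X'),
      (∀ E', DRing.IsDerivedComplete I E' → Function.Bijective (fun α : X' ⟶ E' => c ≫ α)) →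
      Function.Bijective (fun α : X'⟦(1 : ℤ)⟧ ⟶ E => c⟦(1 : ℤ)⟧' ≫ α) := by
    intro X X' c hc
    let k : (E⟦(-1 : ℤ)⟧)⟦(1 : ℤ)⟧ ≅ E :=
      (shiftFunctorCompIsoId (Dual.D A) (-1 : ℤ) 1 (by lia)).app E
    refine ⟨fun α β h => ?_, fun β => ?_⟩
    · obtain ⟨α₀, hα⟩ := (shiftFunctor (Dual.D A) (1 : ℤ)).map_surjective (α ≫ k.inv)
      obtain ⟨β₀, hβ⟩ := (shiftFunctor (Dual.D A) (1 : ℤ)).map_surjective (β ≫ k.inv)
      have : α₀ = β₀ := (hc _ (hEs (-1))).1 ((shiftFunctor (Dual.D A) (1 : ℤ)).map_injective (by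
        simp only at h ⊢
        rw [Functor.map_comp, Functor.map_comp, hα, hβ, reassoc_of% h]))
      rw [← cancel_mono k.inv, ← hα, ← hβ, this]
    · obtain ⟨β₀, hβ⟩ := (shiftFunctor (Dual.D A) (1 : ℤ)).map_surjective (β ≫ k.inv)
      obtain ⟨α₀, hα⟩ := (hc _ (hEs (-1))).2 β₀
      refine ⟨α₀⟦(1 : ℤ)⟧' ≫ k.hom, ?_⟩
      simp only at hα ⊢
      rw [← Functor.map_comp_assoc, hα, hβ, Category.assoc, k.inv_hom_id, Category.comp_id]
  have hb := unit_bijective L hE
  have ha := unit_bijective K hE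
  have ha1 := hsh a fun E' h => unit_bijective K h
  have hb1 := hsh b fun E' h => unit_bijective L h
  refine ⟨fun x y h => sub_eq_zero.1 ?_, fun γ => ?_⟩
  · have hz : m ≫ (x - y) = 0 := by rw [Preadditive.comp_sub]; exact sub_eq_zero.2 h
    generalize x - y = z at hz ⊢
    have h1 : q' ≫ z = 0 := hb.1 (by
      simp only [comp_zero]
      show b ≫ q' ≫ z = 0
      rw [← reassoc_of% hm1, hz, comp_zero])
    obtain ⟨β, rfl⟩ : ∃ β, z = d' ≫ β := Triangle.yoneda_exact₃ _ hT' z h1
    rw [← reassoc_of% hm2] at hz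
    obtain ⟨γ, hγ⟩ : ∃ γ, a⟦(1 : ℤ)⟧' ≫ β = φ⟦(1 : ℤ)⟧' ≫ γ := by
      obtain ⟨γ, hγ⟩ := Triangle.yoneda_exact₂ _ (rot_of_distTriang _ (rot_of_distTriang _ hT))
        (a⟦(1 : ℤ)⟧' ≫ β) hz
      refine ⟨-γ, hγ.trans ?_⟩
      exact (Preadditive.neg_comp _ _).trans (Preadditive.comp_neg _ _).symm
    obtain ⟨γ', rfl⟩ := hb1.2 γ
    have h2 : β = φ'⟦(1 : ℤ)⟧' ≫ γ' := ha1.1 (by
      show a⟦(1 : ℤ)⟧' ≫ β = a⟦(1 : ℤ)⟧' ≫ φ'⟦(1 : ℤ)⟧' ≫ γ'
      rw [hγ, ← Functor.map_comp_assoc, hnat, Functor.map_comp_assoc])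
    rw [h2, ← Category.assoc]
    exact (congrArg (· ≫ γ') (comp_distTriang_mor_zero₃₁ _ hT')).trans zero_comp
  · obtain ⟨β, hβ⟩ := hb.2 (q ≫ γ)
    simp only at hβ
    have h1 : φ' ≫ β = 0 := ha.1 (by
      simp only [comp_zero]
      show a ≫ φ' ≫ β = 0
      rw [← reassoc_of% hnat, hβ, ← Category.assoc]
      exact (congrArg (· ≫ γ) (comp_distTriang_mor_zero₁₂ _ hT)).trans zero_comp)
    obtain ⟨z, hz⟩ : ∃ z, β = q' ≫ z := Triangle.yoneda_exact₂ _ hT' β h1
    have h2 : q ≫ (γ - m ≫ z) = 0 := by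
      rw [Preadditive.comp_sub, reassoc_of% hm1, ← hz, hβ, sub_self]
    obtain ⟨ρ, hρ⟩ : ∃ ρ, γ - m ≫ z = d ≫ ρ := Triangle.yoneda_exact₃ _ hT _ h2
    obtain ⟨ρ', rfl⟩ := ha1.2 ρ
    refine ⟨z + d' ≫ ρ', ?_⟩
    simp only at hρ ⊢
    rw [Preadditive.comp_add, ← reassoc_of% hm2, ← hρ, add_sub_cancel]

theorem completion_map_high [DRing.HasDerivedCompletion I] (hI : I.FG) {K L : Dual.D A} (φ : K ⟶ L)
    (hiso : ∀ i : ℤ, 1 ≤ i → IsIso ((H i).map φ)) (hepi : Epi ((H 0).map φ)) :
    (∀ i : ℤ, 1 ≤ i → IsIso ((H i).map ((DRing.derivedCompletion I).map φ).hom)) ∧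
      Epi ((H 0).map ((DRing.derivedCompletion I).map φ).hom) := by
  obtain ⟨M, M', q, d, q', d', hT, hT', ⟨e⟩⟩ := exists_cone (I := I) φ
  obtain ⟨s, hs⟩ := hI
  have hM : ∀ i : ℤ, 0 ≤ i → Van M i := fun i hi => by
    refine ShortComplex.Exact.isZero_X₂
      (DerivedCategory.HomologySequence.exact₃ _ hT i (i + 1) rfl) ?_ ?_
    · refine (DerivedCategory.HomologySequence.epi_homologyMap_mor₁_iff _ hT i).1 ?_
      show Epi ((H i).map φ)
      rcases hi.eq_or_lt with rfl | h
      · exact hepi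
      · haveI := hiso i (by lia); infer_instance
    · refine (DerivedCategory.HomologySequence.mono_homologyMap_mor₁_iff _ hT i (i + 1) rfl).1 ?_
      haveI := hiso (i + 1) (by lia)
      show Mono ((H (i + 1)).map φ)
      infer_instance
  have hM' : ∀ i : ℤ, 0 ≤ i → Van M' i := fun i hi =>
    (van_completion s hs M i fun j _ => hM _ (by lia)).of_iso ((H i).mapIso e.symm)
  have hE : ∀ i : ℤ, 0 ≤ i → Epi ((H i).map ((DRing.derivedCompletion I).map φ).hom) := fun i hi =>
    (DerivedCategory.HomologySequence.epi_homologyMap_mor₁_iff _ hT' i).2 ((hM' i hi).eq_of_tgt _ _)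
  refine ⟨fun i hi => ?_, hE 0 le_rfl⟩
  haveI := hE i (by lia)
  haveI : Mono ((H i).map ((DRing.derivedCompletion I).map φ).hom) :=
    (DerivedCategory.HomologySequence.mono_homologyMap_mor₁_iff _ hT' (i - 1) i (by lia)).2
      ((hM' (i - 1) (by lia)).eq_of_src _ _)
  exact isIso_of_mono_of_epi _

theorem completion_map_low [DRing.HasDerivedCompletion I] (s : Finset A) (hs : Ideal.span (s : Set A) = I)
    {K L : Dual.D A} (φ : K ⟶ L)
    (hiso : ∀ i : ℤ, i ≤ -1 → IsIso ((H i).map φ)) (hmono : Mono ((H 0).map φ)) :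
    (∀ i : ℤ, i ≤ -(s.card : ℤ) - 1 → IsIso ((H i).map ((DRing.derivedCompletion I).map φ).hom)) ∧
      Mono ((H (-(s.card : ℤ))).map ((DRing.derivedCompletion I).map φ).hom) := by
  obtain ⟨M, M', q, d, q', d', hT, hT', ⟨e⟩⟩ := exists_cone (I := I) φ
  have hM : ∀ i : ℤ, i ≤ -1 → Van M i := fun i hi => by
    refine ShortComplex.Exact.isZero_X₂
      (DerivedCategory.HomologySequence.exact₃ _ hT i (i + 1) rfl) ?_ ?_
    · refine (DerivedCategory.HomologySequence.epi_homologyMap_mor₁_iff _ hT i).1 ?_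
      show Epi ((H i).map φ)
      haveI := hiso i hi; infer_instance
    · refine (DerivedCategory.HomologySequence.mono_homologyMap_mor₁_iff _ hT i (i + 1) rfl).1 ?_
      show Mono ((H (i + 1)).map φ)
      rcases hi.eq_or_lt with rfl | h
      · simpa using hmono
      · haveI := hiso (i + 1) (by lia); infer_instance
  have hM' : ∀ i : ℤ, i ≤ -(s.card : ℤ) - 1 → Van M' i := fun i hi =>
    (van_completion s hs M i fun j _ => hM _ (by lia)).of_iso ((H i).mapIso e.symm)
  have hMo : ∀ i : ℤ, i ≤ -(s.card : ℤ) → Mono ((H i).map ((DRing.derivedCompletion I).map φ).hom) :=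
    fun i hi => (DerivedCategory.HomologySequence.mono_homologyMap_mor₁_iff _ hT' (i - 1) i (by lia)).2
      ((hM' (i - 1) (by lia)).eq_of_src _ _)
  refine ⟨fun i hi => ?_, hMo _ le_rfl⟩
  haveI := hMo i (by lia)
  haveI : Epi ((H i).map ((DRing.derivedCompletion I).map φ).hom) :=
    (DerivedCategory.HomologySequence.epi_homologyMap_mor₁_iff _ hT' i).2 ((hM' i hi).eq_of_tgt _ _)
  exact isIso_of_mono_of_epi _

theorem completion_vanishing [DRing.HasDerivedCompletion I] (r : ℕ)
    (hI : ∃ s : Finset A, s.card ≤ r ∧ Ideal.span (s : Set A) = I)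
    (K : Dual.D A) (a : WithBot ℤ) (b : WithTop ℤ)
    (hKa : ∀ i : ℤ, (i : WithBot ℤ) < a → Subsingleton (Dual.HD A K i))
    (hKb : ∀ i : ℤ, b < (i : WithTop ℤ) → Subsingleton (Dual.HD A K i)) (i : ℤ)
    (hi : ((i + r : ℤ) : WithBot ℤ) < a ∨ b < (i : WithTop ℤ)) :
    Subsingleton (Dual.HD A ((DRing.derivedCompletion I).obj K).obj i) := by
  obtain ⟨s, hsr, hs⟩ := hI
  refine ModuleCat.subsingleton_of_isZero (van_completion s hs K i fun j hj => ?_)
  refine @ModuleCat.isZero_of_subsingleton _ _ _ ?_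
  rcases hi with h | h
  · exact hKa _ (lt_of_le_of_lt (WithBot.coe_le_coe.2 (by lia)) h)
  · exact hKb _ (lt_of_lt_of_le h (WithTop.coe_le_coe.2 (by lia)))

end Groth.Agent.DComplete
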