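import Groth.Agent.DComplete.Module
import Groth.Agent.DerAdj.Basic
import Groth.Agent.DerAdj.Devissage
import Groth.Agent.TriH.KInjExist
import Groth.Agent.TriH.DerivedKInj
import Mathlib.Algebra.Category.ModuleCat.AB
import Mathlib.RingTheory.Localization.BaseChange

/-!
Derived completeness and morphisms out of objects of `D(A_f)`.
-/

set_option autoImplicit false
set_option linter.style.haveILetI false
universe u

open CategoryTheory CategoryTheory.Limits CategoryTheory.Pretriangulated

attribute [local instance] HasDerivedCategory.standard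

namespace Groth.Agent.DComplete

variable {A B : Type u} [CommRing A] [CommRing B]

instance additive_coextendScalars (φ : A →+* B) : (ModuleCat.coextendScalars.{_, _, u} φ).Additive :=
  (ModuleCat.restrictCoextendScalarsAdj φ).right_adjoint_additive

lemma isZero_of_forall_isZero (Y : Dual.D A)
    (h : ∀ n, IsZero ((DerivedCategory.homologyFunctor (ModuleCat.{u} A) n).obj Y)) : IsZero Y := by
  haveI : Y.IsLE 0 := (DerivedCategory.isLE_iff _ _).2 fun i _ => h i
  haveI : Y.IsGE 1 := (DerivedCategory.isGE_iff _ _).2 fun i _ => h i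
  exact DerAdj.isZero_of_isLE_of_isGE Y 1 0 (by lia)

lemma subsingleton_shift_neg_iff (X Y : Dual.D A) (n : ℤ) :
    Subsingleton (X⟦-n⟧ ⟶ Y) ↔ Subsingleton (X ⟶ Y⟦n⟧) := by
  let e := (shiftEquiv (Dual.D A) n).symm.toAdjunction.homEquiv X Y
  exact e.subsingleton_congr

/-- The derived restriction has a right adjoint. -/
lemma exists_rightAdjoint (φ : A →+* B) :
    ∃ R : Dual.D A ⥤ Dual.D B, Nonempty (DRing.restrictD φ ⊣ R) := by
  have hK : ∀ K : CochainComplex (ModuleCat.{u} A) ℤ, ∃ (I : CochainComplex (ModuleCat.{u} A) ℤ)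
      (f : K ⟶ I), I.IsKInjective ∧ QuasiIso f := fun K => by
    obtain ⟨I, f, h1, h2, -⟩ := TriH.exists_kInjective_resolution K
    exact ⟨I, f, h1, h2⟩
  let P := (ModuleCat.coextendScalars.{_, _, u} φ).mapHomotopyCategory (ComplexShape.up ℤ) ⋙
    DerivedCategory.Qh
  haveI := TriH.hasPointwiseRightDerivedFunctor_of_bijective (L := DerivedCategory.Qh)
    (W := HomotopyCategory.quasiIso (ModuleCat.{u} A) (ComplexShape.up ℤ))
    (TriH.exists_kInjective_homotopy hK) P
  exact ⟨_, DerAdj.nonempty_derived_adjunction (ModuleCat.restrictCoextendScalarsAdj φ) hK⟩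

/-- Orthogonality to restrictions can be tested on shifts of the ring. -/
lemma forall_restrict_iff (φ : A →+* B) (K : Dual.D A) :
    (∀ E : Dual.D B, Subsingleton ((DRing.restrictD φ).obj E ⟶ K)) ↔
      ∀ n : ℤ, Subsingleton ((DRing.restrictD φ).obj
        ((DerivedCategory.singleFunctor (ModuleCat.{u} B) 0).obj (ModuleCat.of B B)) ⟶ K⟦n⟧) := by
  let P := (DerivedCategory.singleFunctor (ModuleCat.{u} B) 0).obj (ModuleCat.of B B)
  have hc : ∀ n : ℤ, Subsingleton ((DRing.restrictD φ).obj (P⟦-n⟧) ⟶ K) ↔
      Subsingleton ((DRing.restrictD φ).obj P ⟶ K⟦n⟧) := fun n =>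
    ((((DRing.restrictD φ).commShiftIso (-n)).app P).homCongr (Iso.refl K)).subsingleton_congr.trans
      (subsingleton_shift_neg_iff _ K n)
  refine ⟨fun h n => (hc n).1 (h _), fun h E => ?_⟩
  obtain ⟨R, ⟨adj⟩⟩ := exists_rightAdjoint φ
  have hz : IsZero (R.obj K) := by
    refine isZero_of_forall_isZero _ fun n => ?_
    have h1 : Subsingleton (P⟦-n⟧ ⟶ R.obj K) :=
      (adj.homEquiv _ _).subsingleton_congr.1 ((hc n).2 (h n))
    have h2 : Subsingleton (P ⟶ (R.obj K)⟦n⟧) := (subsingleton_shift_neg_iff _ _ n).1 h1
    have h3 := (homZero_bijective (P := ModuleCat.of B B) inferInstance ((R.obj K)⟦n⟧)).2.subsingleton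
    have h4 : Subsingleton ((DerivedCategory.homologyFunctor (ModuleCat.{u} B) 0).obj ((R.obj K)⟦n⟧)) :=
      ⟨fun x y => by
        have := h3.elim (ModuleCat.ofHom (LinearMap.toSpanSingleton B _ x))
          (ModuleCat.ofHom (LinearMap.toSpanSingleton B _ y))
        simpa using congrArg (fun u => ModuleCat.Hom.hom u (1 : B)) this⟩
    haveI := h4
    exact (@ModuleCat.isZero_of_subsingleton _ _ _ h4).of_iso
      (((DerivedCategory.homologyFunctor (ModuleCat.{u} B) 0).shiftIso n 0 n (by lia)).app (R.obj K)).symm
  exact (adj.homEquiv E K).subsingleton_congr.2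
    ⟨fun a b => hz.eq_of_tgt a b⟩

/-- Restriction of the ring itself, as a module. -/
noncomputable def restrictScalarsSelfIso [Algebra A B] (φ : A →+* B) (h : φ = algebraMap A B) :
    (ModuleCat.restrictScalars.{u} φ).obj (ModuleCat.of B B) ≅ ModuleCat.of A B where
  hom := ConcreteCategory.ofHom (C := ModuleCat.{u} A)
    { toFun := fun x => x
      map_add' := fun _ _ => rfl
      map_smul' := fun a x => by subst h; exact (Algebra.smul_def a (show B from x)).symm }
  inv := ConcreteCategory.ofHom (C := ModuleCat.{u} A)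
    { toFun := fun x => x
      map_add' := fun _ _ => rfl
      map_smul' := fun a x => by subst h; exact Algebra.smul_def a x }

/-- Restriction of the ring itself. -/
noncomputable def restrictSelfIso [Algebra A B] :
    (DRing.restrictD (algebraMap A B)).obj
      ((DerivedCategory.singleFunctor (ModuleCat.{u} B) 0).obj (ModuleCat.of B B)) ≅ Dual.inD A B :=
  DRingPC.restrictSingle (algebraMap A B) 0 _ ≪≫
    (DerivedCategory.singleFunctor (ModuleCat.{u} A) 0).mapIso
      (restrictScalarsSelfIso (algebraMap A B) rfl)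

lemma away_iff (f : A) (K : Dual.D A) :
    (∀ n : ℤ, Subsingleton (Dual.inD A (Localization.Away f) ⟶ K⟦n⟧)) ↔
      ∀ E : Dual.D (Localization.Away f),
        Subsingleton ((DRing.restrictD (algebraMap A (Localization.Away f))).obj E ⟶ K) :=
  Iff.trans (forall_congr' fun n =>
    ((restrictSelfIso (A := A) (B := Localization.Away f)).homCongr (Iso.refl _)).subsingleton_congr.symm)
    (forall_restrict_iff _ K).symm

lemma bijective_tmul_one (f : A) (Af : Type u) [CommRing Af] [Algebra A Af]
    [IsLocalization (Submonoid.powers f) Af] (M : Type u) [AddCommGroup M] [Module A M]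
    (h : Function.Bijective fun x : M => f • x) :
    Function.Bijective (TensorProduct.mk A Af M 1) := by
  have hpow : ∀ s : Submonoid.powers f, Function.Bijective fun x : M => (s : A) • x := by
    rintro ⟨_, n, rfl⟩
    induction n with
    | zero =>
      simp only [pow_zero, one_smul]
      exact Function.bijective_id
    | succ n ih => simpa [Function.comp_def, smul_smul, ← pow_succ] using ih.comp h
  haveI : IsLocalizedModule (Submonoid.powers f) (LinearMap.id : M →ₗ[A] M) :=
    { map_units := fun s => (Module.End.isUnit_iff _).2 (hpow s)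
      surj := fun y => ⟨⟨y, 1⟩, by simp⟩
      exists_of_eq := fun {x y} hxy => ⟨1, by simpa using hxy⟩ }
  have he : ∀ x, IsLocalizedModule.linearEquiv (Submonoid.powers f) (LinearMap.id : M →ₗ[A] M)
      (TensorProduct.mk A Af M 1) x = TensorProduct.mk A Af M 1 x :=
    fun x => IsLocalizedModule.linearEquiv_apply _ _ _ x
  exact (funext he : _ = ⇑(TensorProduct.mk A Af M 1)) ▸ LinearEquiv.bijective _

lemma isLocalization_toAlgebra (f : A) :
    @IsLocalization A _ (Submonoid.powers f) (Localization.Away f) _
      (algebraMap A (Localization.Away f)).toAlgebra := by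
  have h : (algebraMap A (Localization.Away f)).toAlgebra = OreLocalization.instAlgebra :=
    Algebra.algebra_ext _ _ fun _ => rfl
  rw [h]
  infer_instance

lemma isZero_derivedCompletion (I : Ideal A) [DRing.HasDerivedCompletion I] (K : DRing.Cx A) (f : A)
    (hf : f ∈ I) (hK : ∀ i : ℤ, Function.Bijective (fun x : K.X i => f • x)) :
    IsZero ((DRing.derivedCompletion I).obj (DRing.toD K)).obj := by
  let φ := algebraMap A (Localization.Away f)
  let L : DRing.DComp I := (DRing.derivedCompletion I).obj (DRing.toD K)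
  let F := ModuleCat.extendScalars.{u, u, u} φ
  let Y := (F.mapHomologicalComplex (ComplexShape.up ℤ)).obj K
  let η : K ⟶ (DRing.restrictCx φ).obj Y := DerAdj.complexUnit (ModuleCat.extendRestrictScalarsAdj φ) K
  haveI : ∀ i, IsIso (η.f i) := fun i => (ConcreteCategory.isIso_iff_bijective _).2 (by
    letI : Algebra A (Localization.Away f) := φ.toAlgebra
    exact Eq.mpr (congrArg Function.Bijective (funext fun x =>
      ModuleCat.extendRestrictScalarsAdj_unit_app_apply φ (K.X i) x))
        (@bijective_tmul_one A _ f (Localization.Away f) _ φ.toAlgebra (isLocalization_toAlgebra f)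
          (K.X i) _ _ (hK i)))
  haveI : IsIso η := HomologicalComplex.Hom.isIso_of_components η
  let e : DRing.toD K ≅ (DRing.restrictD φ).obj (DerivedCategory.Q.obj Y) :=
    DerivedCategory.Q.mapIso (asIso η) ≪≫ (DRingPC.restrictQ φ Y).symm
  have h1 : Subsingleton (DRing.toD K ⟶ L.obj) :=
    ((e.homCongr (Iso.refl L.obj)).subsingleton_congr).2
      ((away_iff f L.obj).1 (fun n => L.property f hf n) _)
  have h2 : Subsingleton (L ⟶ L) :=
    ((DRing.derivedCompletionAdj I).homEquiv (DRing.toD K) L).subsingleton_congr.2 h1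
  rw [IsZero.iff_id_eq_zero]
  exact (congrArg (ObjectProperty.ι (DRing.IsDerivedComplete I)).map (h2.elim (𝟙 L) 0)).trans
    (Functor.map_zero _ _ _)

end Groth.Agent.DComplete
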