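import Groth.Agent.DComplete.Tele
import Groth.Agent.DRingPC.TorAmp
import Groth.Agent.PCohLib.Trunc
import Groth.Prelude.Def_DRing3
import Mathlib.RingTheory.Localization.Away.AdjoinRoot
import Mathlib.Algebra.Polynomial.Basis
import Mathlib.Algebra.Homology.HomotopyCategory.HomComplexSingle
import Mathlib.Algebra.Homology.DerivedCategory.SingleTriangle

/-!
Derived completeness of objects of `D(A)` through the telescope criterion on cohomology.
-/

set_option autoImplicit false
set_option linter.style.haveILetI false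
universe u

open CategoryTheory CategoryTheory.Limits CategoryTheory.Pretriangulated Groth.Agent.PCohLib
open CochainComplex.HomComplex

attribute [local instance] HasDerivedCategory.standard

namespace Groth.Agent.DComplete

variable {A : Type u} [CommRing A]

/-- Multiplication by a scalar, as an additive endomorphism. -/
abbrev smulEnd (M : Type*) [AddCommGroup M] [Module A M] (f : A) : M →+ M :=
  DistribSMul.toAddMonoidHom M f


/-- A module in degree zero, as a complex. -/
noncomputable abbrev sgl (P : ModuleCat.{u} A) : CochainComplex (ModuleCat.{u} A) ℤ :=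
  (HomologicalComplex.single (ModuleCat.{u} A) (ComplexShape.up ℤ) 0).obj P

/-- A morphism out of a module in degree zero, on `H^0`. -/
noncomputable def homZero {P : ModuleCat.{u} A} {W : Dual.D A}
    (α : (DerivedCategory.singleFunctor (ModuleCat.{u} A) 0).obj P ⟶ W) :
    P ⟶ (DerivedCategory.homologyFunctor (ModuleCat.{u} A) 0).obj W :=
  (HomologicalComplex.singleObjHomologySelfIso (ComplexShape.up ℤ) 0 P).inv ≫
    (homologyQIso ((HomologicalComplex.single (ModuleCat.{u} A) (ComplexShape.up ℤ) 0).obj P) 0).inv ≫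
      (DerivedCategory.homologyFunctor (ModuleCat.{u} A) 0).map ((singleQIso 0 P).hom ≫ α)

lemma homZero_comp {P Q : ModuleCat.{u} A} {W : Dual.D A} (u : P ⟶ Q)
    (α : (DerivedCategory.singleFunctor (ModuleCat.{u} A) 0).obj Q ⟶ W) :
    homZero ((DerivedCategory.singleFunctor (ModuleCat.{u} A) 0).map u ≫ α) = u ≫ homZero α := by
  have n1 : (singleQIso 0 P).hom ≫ (DerivedCategory.singleFunctor (ModuleCat.{u} A) 0).map u =
      DerivedCategory.Q.map ((HomologicalComplex.single (ModuleCat.{u} A) (ComplexShape.up ℤ) 0).map u) ≫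
        (singleQIso 0 Q).hom :=
    ((DerivedCategory.singleFunctorIsoCompQ (ModuleCat.{u} A) 0).inv.naturality u).symm
  unfold homZero
  rw [← Category.assoc (singleQIso 0 P).hom, n1, Category.assoc, Functor.map_comp, homologyMap_Q]
  simp only [Category.assoc, Iso.inv_hom_id_assoc]
  rw [← Category.assoc u, ← Category.assoc]
  congr 1
  rw [Iso.eq_comp_inv, Category.assoc, Iso.inv_comp_eq]
  exact HomologicalComplex.singleObjHomologySelfIso_hom_naturality (ComplexShape.up ℤ) 0 u

lemma homZero_bijective {P : ModuleCat.{u} A} (hP : Module.Projective A P) (W : Dual.D A) :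
    Function.Bijective (homZero (P := P) (W := W)) := by
  haveI := hP
  let X := DerivedCategory.Q.objPreimage W
  let eX : DerivedCategory.Q.obj X ≅ W := DerivedCategory.Q.objObjPreimageIso W
  let eS : DerivedCategory.Q.obj (sgl P) ≅ (DerivedCategory.singleFunctor (ModuleCat.{u} A) 0).obj P :=
    singleQIso 0 P
  have hkey : ∀ t : sgl P ⟶ X,
      homZero (eS.inv ≫ DerivedCategory.Q.map t ≫ eX.hom) =
        (HomologicalComplex.singleObjHomologySelfIso (ComplexShape.up ℤ) 0 P).inv ≫
          HomologicalComplex.homologyMap t 0 ≫ (homologyQIso X 0).inv ≫ (DerivedCategory.homologyFunctor (ModuleCat.{u} A) 0).map eX.hom := fun t => by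
    unfold homZero
    rw [Iso.hom_inv_id_assoc, Functor.map_comp, homologyMap_Q]
    simp only [Category.assoc, Iso.inv_hom_id_assoc]
  have hSX : ∀ i, Module.Projective A ((sgl P).X i) := fun i => by
    by_cases hi : i = 0
    · subst hi
      exact (DRingPC.PR A).prop_of_iso
        (HomologicalComplex.singleObjXSelf (ComplexShape.up ℤ) 0 P).symm hP
    · exact (DRingPC.PR A).prop_of_isZero (HomologicalComplex.isZero_single_obj_X _ _ _ _ hi)
  have hSz : ∀ i, (0 : ℤ) < i → IsZero ((sgl P).X i) := fun i hi =>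
    HomologicalComplex.isZero_single_obj_X _ _ _ _ (by lia)
  haveI : CategoryTheory.Projective P := (IsProjective.iff_projective (R := A) P).1 hP
  refine ⟨fun α β hαβ => ?_, fun φ => ?_⟩
  · suffices ∀ t : sgl P ⟶ X, homZero (eS.inv ≫ DerivedCategory.Q.map t ≫ eX.hom) = 0 →
        DerivedCategory.Q.map t = 0 by
      obtain ⟨t, ht⟩ := exists_Q_map_eq (P := DRingPC.PR A) (DRingPC.PR.lift A) (sgl P) hSX 0 hSz X
        (eS.hom ≫ (α - β) ≫ eX.inv)
      have h2 := this t (by
        rw [ht]
        simp only [Category.assoc, Iso.inv_hom_id, Category.comp_id, Iso.inv_hom_id_assoc]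
        unfold homZero at hαβ ⊢
        rw [Preadditive.comp_sub, Functor.map_sub, Preadditive.comp_sub, Preadditive.comp_sub, hαβ,
          sub_self])
      rw [h2] at ht
      rw [eq_comm, Preadditive.IsIso.comp_left_eq_zero, Preadditive.IsIso.comp_right_eq_zero] at ht
      exact sub_eq_zero.1 ht
    intro t ht
    rw [hkey, ← Category.assoc, Preadditive.IsIso.comp_right_eq_zero] at ht
    let x : P ⟶ X.X 0 := (HomologicalComplex.singleObjXSelf (ComplexShape.up ℤ) 0 P).inv ≫ t.f 0
    have hx : x ≫ X.d 0 1 = 0 := by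
      rw [show x = _ from rfl, Category.assoc, t.comm, HomologicalComplex.single_obj_d, zero_comp,
        comp_zero]
    have hπ : X.liftCycles x 1 (by simp) hx ≫ X.homologyπ 0 = 0 := by
      have h1 := HomologicalComplex.homologyπ_naturality t 0
      have h2 : (HomologicalComplex.singleObjCyclesSelfIso (ComplexShape.up ℤ) 0 P).inv ≫
          HomologicalComplex.cyclesMap t 0 = X.liftCycles x 1 (by simp) hx := by
        rw [← cancel_mono (X.iCycles 0)]
        simp [x, HomologicalComplex.singleObjCyclesSelfIso]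
      rw [← h2, Category.assoc, ← h1, ← Category.assoc,
        HomologicalComplex.singleObjCyclesSelfIso_inv_homologyπ, ht]
    haveI : Epi (X.homologyπ 0) := inferInstance
    obtain ⟨s, hs⟩ : ∃ s : P ⟶ X.X (-1), s ≫ X.toCycles (-1) 0 = X.liftCycles x 1 (by simp) hx := by
      have hex := ShortComplex.exact_of_g_is_cokernel
        (ShortComplex.mk _ _ (X.toCycles_comp_homologyπ (-1) 0))
        (X.homologyIsCokernel (-1) 0 (by simp))
      exact ⟨hex.liftFromProjective _ hπ, hex.liftFromProjective_comp _ _⟩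
    have hs' : s ≫ X.d (-1) 0 = x := by
      rw [← X.toCycles_i (-1) 0, ← Category.assoc, hs, X.liftCycles_i]
    have h3 : Cochain.ofHom (show (CochainComplex.singleFunctor (ModuleCat.{u} A) 0).obj P ⟶ X from t) =
        Cochain.fromSingleMk (p := 0) x (n := 0) (add_zero 0) := by
      refine (Cochain.fromSingleEquiv (add_zero (0 : ℤ))).injective ?_
      rw [Cochain.fromSingleEquiv_fromSingleMk]
      change (HomologicalComplex.singleObjXSelf (ComplexShape.up ℤ) 0 P).inv ≫ _ = _
      rw [Cochain.ofHom_v]
    have h4 : Cochain.ofHom (show (CochainComplex.singleFunctor (ModuleCat.{u} A) 0).obj P ⟶ X from t) =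
        δ (-1) 0 (Cochain.fromSingleMk (p := 0) s (n := -1) (by lia)) +
          Cochain.ofHom (0 : (CochainComplex.singleFunctor (ModuleCat.{u} A) 0).obj P ⟶ X) := by
      rw [h3, Cochain.δ_fromSingleMk _ _ 0 0 (by lia), hs', Cochain.ofHom_zero, add_zero]
    have hho : Homotopy t 0 := (Cochain.equivHomotopy
      (show (CochainComplex.singleFunctor (ModuleCat.{u} A) 0).obj P ⟶ X from t) 0).symm ⟨_, h4⟩
    rw [← Functor.map_zero DerivedCategory.Q (sgl P) X]
    exact HomotopyCategory.eq_of_homotopy _ _ hho |> fun h => by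
      have n1 := (DerivedCategory.quotientCompQhIso (ModuleCat.{u} A)).hom.naturality t
      have n2 := (DerivedCategory.quotientCompQhIso (ModuleCat.{u} A)).hom.naturality (0 : sgl P ⟶ X)
      simp only [Functor.comp_map, h] at n1
      simp only [Functor.comp_map] at n2
      exact (cancel_epi _).1 (n1.symm.trans n2)
  · let φ' : P ⟶ X.homology 0 := φ ≫ (DerivedCategory.homologyFunctor (ModuleCat.{u} A) 0).map eX.inv ≫ (homologyQIso X 0).hom
    let γ := Projective.factorThru φ' (X.homologyπ 0)
    let t : sgl P ⟶ X := HomologicalComplex.mkHomFromSingle (γ ≫ X.iCycles 0) (fun k _ => by simp)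
    refine ⟨eS.inv ≫ DerivedCategory.Q.map t ≫ eX.hom, ?_⟩
    rw [hkey]
    have h2 : (HomologicalComplex.singleObjCyclesSelfIso (ComplexShape.up ℤ) 0 P).inv ≫
        HomologicalComplex.cyclesMap t 0 = γ := by
      rw [← cancel_mono (X.iCycles 0)]
      simp [t, HomologicalComplex.singleObjCyclesSelfIso]
    rw [← HomologicalComplex.singleObjCyclesSelfIso_inv_homologyπ, Category.assoc]
    erw [HomologicalComplex.homologyπ_naturality_assoc]
    rw [← Category.assoc, h2, ← Category.assoc γ, Projective.factorThru_comp]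
    simp [φ', ← Functor.map_comp]

lemma forall_shift_hom_subsingleton_iff {T : Triangle (Dual.D A)} (hT : T ∈ distinguishedTriangles)
    (K : Dual.D A) :
    (∀ n : ℤ, Subsingleton (T.obj₃ ⟶ K⟦n⟧)) ↔
      ∀ n : ℤ, Function.Bijective fun α : T.obj₂ ⟶ K⟦n⟧ => T.mor₁ ≫ α := by
  constructor
  · intro h n
    refine ⟨fun α β hαβ => sub_eq_zero.1 ?_, fun β => ?_⟩
    · obtain ⟨γ, hγ⟩ := T.yoneda_exact₂ hT (α - β) (by
        rw [Preadditive.comp_sub]; exact sub_eq_zero.2 hαβ)
      rw [hγ, (h n).elim γ 0, comp_zero]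
    · have hz : ∀ γ : (shiftFunctor (Dual.D A) (-1 : ℤ)).obj T.obj₃ ⟶ K⟦n⟧, γ = 0 := fun γ => by
        refine (shiftFunctor (Dual.D A) (1 : ℤ)).map_injective ?_
        let e := (shiftFunctorCompIsoId (Dual.D A) (-1 : ℤ) 1 (by lia)).app T.obj₃
        let c := (shiftFunctorAdd' (Dual.D A) n 1 (n + 1) rfl).app K
        have h0 : e.inv ≫ γ⟦(1 : ℤ)⟧' ≫ c.inv = 0 := (h (n + 1)).elim _ _
        rw [Functor.map_zero]
        rwa [Preadditive.IsIso.comp_left_eq_zero, Preadditive.IsIso.comp_right_eq_zero] at h0
      obtain ⟨α, hα⟩ := T.invRotate.yoneda_exact₂ (inv_rot_of_distTriang _ hT) β (hz _)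
      exact ⟨α, hα.symm⟩
  · intro h n
    refine ⟨fun α β => sub_eq_zero.1 ?_⟩
    generalize α - β = δ
    have h1 : T.mor₂ ≫ δ = 0 := (h n).1 (by
      simp only [comp_zero]
      rw [← Category.assoc, comp_distTriang_mor_zero₁₂ _ hT, zero_comp])
    obtain ⟨β', hβ'⟩ := T.yoneda_exact₃ hT δ h1
    let j := ((shiftFunctorAdd' (Dual.D A) (n - 1) 1 n (by lia)).app K)
    obtain ⟨γ, hγ⟩ := (shiftFunctor (Dual.D A) (1 : ℤ)).map_surjective (β' ≫ j.hom)
    obtain ⟨ε, hε⟩ := (h (n - 1)).2 γ
    have : β' = T.mor₁⟦(1 : ℤ)⟧' ≫ ((shiftFunctor (Dual.D A) (1 : ℤ)).map ε ≫ j.inv) := by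
      rw [← Category.assoc, ← Functor.map_comp]
      simp only at hε
      rw [hε, hγ, Category.assoc, Iso.hom_inv_id, Category.comp_id]
    rw [hβ', this, comp_distTriang_mor_zero₃₁_assoc _ hT, zero_comp]

/-- The telescope map on polynomials. -/
noncomputable def teleP (f : A) : ModuleCat.of A (Polynomial A) ⟶ ModuleCat.of A (Polynomial A) :=
  ModuleCat.ofHom (LinearMap.mulLeft A (1 - Polynomial.C f * Polynomial.X))

/-- The projection to the localisation. -/
noncomputable def awayP (f : A) :
    ModuleCat.of A (Polynomial A) ⟶ ModuleCat.of A (Localization.Away f) :=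
  ModuleCat.ofHom (((Localization.awayEquivAdjoin f).symm.toAlgHom.comp
    (AdjoinRoot.mkₐ (Polynomial.C f * Polynomial.X - 1))).toLinearMap)

lemma teleP_injective (f : A) : Function.Injective (teleP f).hom := by
  rw [injective_iff_map_eq_zero]
  intro p hp
  change (1 - Polynomial.C f * Polynomial.X) * p = 0 at hp
  rw [sub_mul, one_mul, mul_assoc, sub_eq_zero] at hp
  ext k
  induction k with
  | zero => rw [hp]; simp
  | succ k ih =>
    rw [hp, Polynomial.coeff_C_mul, Polynomial.coeff_X_mul, ih]
    simp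

lemma tele_exact (f : A) : Function.Exact (teleP f).hom (awayP f).hom := by
  intro p
  change (Localization.awayEquivAdjoin f).symm (AdjoinRoot.mk _ p) = 0 ↔
    ∃ q, (1 - Polynomial.C f * Polynomial.X) * q = p
  rw [map_eq_zero_iff _ (AlgEquiv.injective _), AdjoinRoot.mk_eq_zero]
  constructor
  · rintro ⟨q, rfl⟩; exact ⟨-q, by ring⟩
  · rintro ⟨q, rfl⟩; exact ⟨-q, by ring⟩

lemma awayP_surjective (f : A) : Function.Surjective (awayP f).hom := fun z => by
  obtain ⟨p, hp⟩ := AdjoinRoot.mk_surjective (Localization.awayEquivAdjoin f z)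
  refine ⟨p, ?_⟩
  change (Localization.awayEquivAdjoin f).symm (AdjoinRoot.mk _ p) = z
  rw [hp, AlgEquiv.symm_apply_apply]

lemma bijective_teleP_iff (f : A) (N : ModuleCat.{u} A) :
    (Function.Bijective fun φ : ModuleCat.of A (Polynomial A) ⟶ N => teleP f ≫ φ) ↔
      Tele (smulEnd N f) := by
  let σ : (ModuleCat.of A (Polynomial A) ⟶ N) → (ℕ → N) :=
    fun φ k => φ.hom (Polynomial.monomial k 1)
  have hσ : Function.Bijective σ := by
    refine ⟨fun φ ψ h => ModuleCat.hom_ext ?_, fun x =>
      ⟨ModuleCat.ofHom ((Polynomial.basisMonomials A).constr A x), funext fun k => ?_⟩⟩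
    · exact (Polynomial.basisMonomials A).ext fun k => by
        rw [Polynomial.coe_basisMonomials]; exact congrFun h k
    · show (Polynomial.basisMonomials A).constr A x (Polynomial.monomial k 1) = x k
      have := (Polynomial.basisMonomials A).constr_basis A x k
      rwa [Polynomial.coe_basisMonomials] at this
  have hcomm : σ ∘ (fun φ => teleP f ≫ φ) = teleMap (smulEnd N f) ∘ σ := by
    funext φ k
    show φ.hom ((1 - Polynomial.C f * Polynomial.X) * Polynomial.monomial k 1) = _
    rw [sub_mul, one_mul, mul_assoc, Polynomial.X_mul_monomial, ← Polynomial.smul_eq_C_mul, map_sub,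
      map_smul]
    rfl
  unfold Tele
  exact (Function.Bijective.of_comp_iff' hσ _).symm.trans
    (hcomm ▸ Function.Bijective.of_comp_iff _ hσ)

/-- Completeness of every cohomology module. -/
lemma isDerivedComplete_iff (I : Ideal A) (K : Dual.D A) :
    DRing.IsDerivedComplete I K ↔ ∀ f ∈ I, ∀ n : ℤ, Tele (smulEnd (Dual.HD A K n) f) := by
  refine forall_congr' fun f => forall_congr' fun _ => ?_
  haveI : Mono (teleP f) := (ModuleCat.mono_iff_injective _).2 (teleP_injective f)
  haveI : Epi (awayP f) := (ModuleCat.epi_iff_surjective _).2 (awayP_surjective f)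
  let S := ShortComplex.mk (teleP f) (awayP f)
    (ModuleCat.hom_ext (LinearMap.ext fun p => (tele_exact f).apply_apply_eq_zero p))
  have hS : S.ShortExact :=
    { exact := (ShortComplex.ShortExact.moduleCat_exact_iff_function_exact S).2 (tele_exact f) }
  have hproj : Module.Projective A (Polynomial A) :=
    Module.Projective.of_basis (Polynomial.basisMonomials A)
  refine (forall_shift_hom_subsingleton_iff hS.singleTriangle_distinguished K).trans
    (forall_congr' fun n => ?_)
  have h1 := homZero_bijective (P := ModuleCat.of A (Polynomial A)) hproj (K⟦n⟧)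
  let e := Equiv.ofBijective _ h1
  have hsq : (fun φ => teleP f ≫ φ) ∘ e = e ∘ fun α => hS.singleTriangle.mor₁ ≫ α := by
    funext α
    exact (homZero_comp (teleP f) α).symm
  have hiff : Function.Bijective (fun α => hS.singleTriangle.mor₁ ≫ α :
      (_ ⟶ K⟦n⟧) → (_ ⟶ K⟦n⟧)) ↔ Function.Bijective fun φ : _ ⟶ (DerivedCategory.homologyFunctor (ModuleCat.{u} A) 0).obj (K⟦n⟧) => teleP f ≫ φ := by
    exact (Function.Bijective.of_comp_iff' e.bijective _).symm.trans
      (hsq ▸ Function.Bijective.of_comp_iff _ e.bijective)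
  refine hiff.trans ((bijective_teleP_iff f _).trans ?_)
  let i := (((DerivedCategory.homologyFunctor (ModuleCat.{u} A) 0).shiftIso n 0 n (by lia)).app K).toLinearEquiv
  exact ⟨fun h => tele_of_bijective h i.toAddEquiv fun x => map_smul i f x,
    fun h => tele_of_bijective h i.symm.toAddEquiv fun x => map_smul i.symm f x⟩

/-- Completeness of a module. -/
lemma isDerivedComplete_inD_iff (I : Ideal A) (M : Type u) [AddCommGroup M] [Module A M] :
    DRing.IsDerivedComplete I (Dual.inD A M) ↔ ∀ f ∈ I, Tele (smulEnd M f) := by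
  rw [isDerivedComplete_iff]
  refine forall_congr' fun f => forall_congr' fun _ => ?_
  let e := (singleHomologyIso 0 (ModuleCat.of A M)).toLinearEquiv
  constructor
  · exact fun h => tele_of_bijective (h 0) e.toAddEquiv fun x => map_smul e f x
  · intro h n
    by_cases hn : n = 0
    · subst hn
      exact tele_of_bijective h e.symm.toAddEquiv fun x => map_smul e.symm f x
    · haveI : Subsingleton (Dual.HD A (Dual.inD A M) n) :=
        ModuleCat.subsingleton_of_isZero (by
          rcases lt_or_gt_of_ne hn with h | h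
          · exact DerivedCategory.isZero_of_isGE _ 0 n h
          · exact DerivedCategory.isZero_of_isLE _ 0 n h)
      exact ⟨fun x y _ => Subsingleton.elim x y, fun y => ⟨y, Subsingleton.elim _ _⟩⟩

end Groth.Agent.DComplete
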