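import Groth.Agent.DComplete.Noetherian

/-!
# Derived completion commutes with tensor products with finite modules
-/

set_option autoImplicit false
set_option linter.style.haveILetI false
universe u

open CategoryTheory CategoryTheory.Limits CategoryTheory.Pretriangulated
open CategoryTheory.MonoidalCategory
open Groth.Agent.PCohLib Groth.Agent.DRingPC
open CochainComplex (mappingCone)

attribute [local instance] HasDerivedCategory.standard

namespace Groth.Agent.DComplete

variable {A : Type u} [CommRing A]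

local notation "CH" => HomologicalComplex.homologyFunctor (ModuleCat A) (ComplexShape.up ℤ)
local notation "DH" => DerivedCategory.homologyFunctor (ModuleCat A)

section Tele

variable {M N P R : Type u} [AddCommGroup M] [Module A M] [AddCommGroup N] [Module A N]
  [AddCommGroup P] [Module A P] [AddCommGroup R] [Module A R] (f : A)

theorem tele_coker' (u : M →ₗ[A] N) (hM : Function.Surjective (teleMap (smulEnd M f)))
    (hN : Tele (smulEnd N f)) : Tele (smulEnd (N ⧸ LinearMap.range u) f) := by
  refine ⟨fun x y hxy => sub_eq_zero.1 ?_, fun m => ?_⟩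
  · funext n
    choose x' hx' using fun k => Submodule.Quotient.mk_surjective _ ((x - y) k)
    have hz : ∀ k, x' k - f • x' (k + 1) ∈ LinearMap.range u := fun k => by
      rw [← Submodule.Quotient.mk_eq_zero, Submodule.Quotient.mk_sub, Submodule.Quotient.mk_smul,
        hx', hx']
      have := congrFun hxy k
      simp only [teleMap, DistribSMul.toAddMonoidHom_apply] at this
      simp only [Pi.sub_apply, smul_sub]
      rw [sub_sub_sub_comm, this, sub_self]
    choose a ha using hz
    obtain ⟨y', hy'⟩ := hM a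
    have h0 := congrFun (hN.eq_zero (fun k => x' k - u (y' k)) fun k => by
      show x' k - u (y' k) = f • (x' (k + 1) - u (y' (k + 1)))
      have h1 : u (y' k) - f • u (y' (k + 1)) = x' k - f • x' (k + 1) := by
        rw [← map_smul, ← map_sub, ← ha k]
        exact congrArg u (congrFun hy' k)
      rw [smul_sub, sub_eq_sub_iff_sub_eq_sub, h1]) n
    rw [← hx' n, Pi.zero_apply, Submodule.Quotient.mk_eq_zero]
    exact ⟨y' n, (sub_eq_zero.1 h0).symm⟩
  · choose m' hm using fun k => Submodule.Quotient.mk_surjective _ (m k)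
    obtain ⟨x, hx⟩ := hN.2 m'
    refine ⟨fun k => Submodule.Quotient.mk (x k), funext fun k => ?_⟩
    show Submodule.Quotient.mk (x k) - f • Submodule.Quotient.mk (x (k + 1)) = m k
    rw [← Submodule.Quotient.mk_smul, ← Submodule.Quotient.mk_sub, ← hm k]
    exact congrArg _ (congrFun hx k)

theorem teleSurj_of_exact {b : N →ₗ[A] P} {c : P →ₗ[A] M} {d : M →ₗ[A] R}
    (h1 : Function.Exact b c) (h2 : Function.Exact c d) (hN : Function.Surjective (teleMap (smulEnd N f)))
    (hM : Tele (smulEnd M f)) (hR : Tele (smulEnd R f)) : Function.Surjective (teleMap (smulEnd P f)) := by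
  intro m
  obtain ⟨y, hy⟩ := (tele_ker f d hM hR).2 fun k => ⟨c (m k), h2.apply_apply_eq_zero _⟩
  choose x hx using fun k => (h2 _).1 (y k).2
  choose r hr using fun k => (h1 (m k - (x k - f • x (k + 1)))).1 (by
    rw [map_sub, map_sub, map_smul, hx, hx, sub_eq_zero]
    exact (congrArg Subtype.val (congrFun hy k)).symm)
  obtain ⟨z, hz⟩ := hN r
  refine ⟨fun k => x k + b (z k), funext fun k => ?_⟩
  show x k + b (z k) - f • (x (k + 1) + b (z (k + 1))) = m k
  have h3 : b (z k) - f • b (z (k + 1)) = m k - (x k - f • x (k + 1)) := by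
    rw [← map_smul, ← map_sub, ← hr k]
    exact congrArg b (congrFun hz k)
  rw [smul_add, add_sub_add_comm, h3, add_sub_cancel]

theorem tele_of_exact {K : Type u} [AddCommGroup K] [Module A K] {a : K →ₗ[A] N} {b : N →ₗ[A] P}
    {c : P →ₗ[A] M} {d : M →ₗ[A] R} (h0 : Function.Exact a b)
    (h1 : Function.Exact b c) (h2 : Function.Exact c d) (hK : Function.Surjective (teleMap (smulEnd K f)))
    (hN : Tele (smulEnd N f)) (hM : Tele (smulEnd M f)) (hR : Tele (smulEnd R f)) : Tele (smulEnd P f) := by
  let u : (N ⧸ LinearMap.range a) →ₗ[A] P := (LinearMap.range a).liftQ b (by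
    rintro _ ⟨x, rfl⟩
    exact h0.apply_apply_eq_zero x)
  let v : P →ₗ[A] LinearMap.ker d := c.codRestrict _ fun x => h2.apply_apply_eq_zero x
  refine tele_mid f (u := u) (v := v) ?_ ?_ ?_ (tele_coker' f a hK hN) (tele_ker f d hM hR)
  · refine (injective_iff_map_eq_zero u).2 fun x hx => ?_
    obtain ⟨x, rfl⟩ := Submodule.Quotient.mk_surjective _ x
    exact (Submodule.Quotient.mk_eq_zero _).2 ((h0 x).1 hx)
  · intro x
    refine ⟨fun hx => ?_, ?_⟩
    · obtain ⟨y, hy⟩ := (h1 x).1 (congrArg Subtype.val hx)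
      exact ⟨Submodule.Quotient.mk y, hy⟩
    · rintro ⟨y, rfl⟩
      obtain ⟨y, rfl⟩ := Submodule.Quotient.mk_surjective _ y
      exact Subtype.ext (h1.apply_apply_eq_zero y)
  · rintro ⟨x, hx⟩
    obtain ⟨y, hy⟩ := (h2 x).1 hx
    exact ⟨y, Subtype.ext hy⟩

end Tele

theorem tele_homology_free (P : DRing.Cx A) (hfl : ∀ j, Module.Flat A (P.X j)) (f : A)
    (hP : ∀ i, Tele (smulEnd (P.homology i) f)) : ∀ (n : ℕ) (i : ℤ),
      Tele (smulEnd (((tcx (ModuleCat.of A (Fin n → A))).obj P).homology i) f) := by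
  intro n
  induction n with
  | zero =>
    intro i
    haveI : Subsingleton (((tcx (ModuleCat.of A (Fin 0 → A))).obj P).homology i) :=
      ModuleCat.subsingleton_of_isZero ((HomologicalComplex.exactAt_iff_isZero_homology _ _).1
        (ShortComplex.exact_of_isZero_X₂ _ ((tensorRight (P.X i)).map_isZero (X := ModuleCat.of A (Fin 0 → A))
          (ModuleCat.isZero_of_subsingleton _))))
    exact tele_of_subsingleton _
  | succ n ih =>
    intro i
    let p : (Fin (n + 1) → A) →ₗ[A] A := LinearMap.proj 0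
    let j : (Fin n → A) →ₗ[A] (Fin (n + 1) → A) :=
      { toFun := fun x => Fin.cons 0 x
        map_add' := fun x y => by funext k; refine Fin.cases ?_ ?_ k <;> simp
        map_smul' := fun c x => by funext k; refine Fin.cases ?_ ?_ k <;> simp }
    let S : ShortComplex (ModuleCat.{u} A) := ShortComplex.mk (ModuleCat.ofHom j) (ModuleCat.ofHom p)
      (ModuleCat.hom_ext (LinearMap.ext fun x => rfl))
    have hS : S.ShortExact :=
      { exact := (ShortComplex.ShortExact.moduleCat_exact_iff_function_exact S).2 fun x =>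
          ⟨fun h => ⟨fun k => x k.succ, by
              funext k; refine Fin.cases ?_ ?_ k
              · exact h.symm
              · intro k; rfl⟩, by rintro ⟨y, rfl⟩; rfl⟩
        mono_f := (ModuleCat.mono_iff_injective _).2 fun x y h => Fin.cons_right_injective (α := fun _ : Fin (n + 1) => A) 0 h
        epi_g := (ModuleCat.epi_iff_surjective _).2 fun a => ⟨fun _ => a, rfl⟩ }
    have h := shortExact_tcx hS P hfl
    let e := (NatIso.mapHomologicalComplex (leftUnitorNatIso (ModuleCat.{u} A)) _).app P ≪≫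
      (Functor.mapHomologicalComplexIdIso _ _).app P
    have hA : ∀ i, Tele (smulEnd (((tcx (ModuleCat.of A A)).obj P).homology i) f) := fun i =>
      tele_of_linearEquiv f ((CH i).mapIso e).toLinearEquiv.symm (hP i)
    refine tele_of_exact f
      ((ShortComplex.ShortExact.moduleCat_exact_iff_function_exact _).1 (h.homology_exact₁ (i - 1) i (by simp)))
      ((ShortComplex.ShortExact.moduleCat_exact_iff_function_exact _).1 (h.homology_exact₂ i))
      ((ShortComplex.ShortExact.moduleCat_exact_iff_function_exact _).1 (h.homology_exact₃ i (i + 1) rfl))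
      (hA (i - 1)).2 (ih i) (hA i) (ih (i + 1))

theorem tele_homology_finite [IsNoetherianRing A] (P : DRing.Cx A) (hfl : ∀ j, Module.Flat A (P.X j))
    (b : ℤ) (hb : ∀ j, b < j → IsZero (P.X j)) (f : A)
    (hP : ∀ i, Tele (smulEnd (P.homology i) f)) : ∀ (k : ℕ) (M : ModuleCat.{u} A), Module.Finite A M →
      ∀ i, b + 1 ≤ i + k → Tele (smulEnd (((tcx M).obj P).homology i) f) := by
  intro k
  induction k with
  | zero =>
    intro M _ i hi
    haveI : Subsingleton (((tcx M).obj P).homology i) :=
      ModuleCat.subsingleton_of_isZero ((HomologicalComplex.exactAt_iff_isZero_homology _ _).1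
        (ShortComplex.exact_of_isZero_X₂ _ ((tensorLeft M).map_isZero (hb i (by lia)))))
    exact tele_of_subsingleton _
  | succ k ih =>
    have hsurj : ∀ (M : ModuleCat.{u} A), Module.Finite A M → ∀ i, b + 1 ≤ i + (k + 1 : ℕ) →
        ∃ (m : ℕ) (S : ShortComplex (ModuleCat.{u} A)), S.ShortExact ∧ S.X₂ = ModuleCat.of A (Fin m → A) ∧
          S.X₃ = M ∧ Module.Finite A S.X₁ := by
      intro M hM i _
      haveI := hM
      obtain ⟨m, p, hp⟩ := Module.Finite.exists_fin' A M
      exact ⟨m, ShortComplex.mk (ModuleCat.ofHom (LinearMap.ker p).subtype) (ModuleCat.ofHom p)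
          (ModuleCat.hom_ext (LinearMap.ext fun x => x.2)),
        { exact := (ShortComplex.ShortExact.moduleCat_exact_iff_function_exact _).2 (LinearMap.exact_subtype_ker_map p)
          mono_f := (ModuleCat.mono_iff_injective _).2 (LinearMap.ker p).injective_subtype
          epi_g := (ModuleCat.epi_iff_surjective _).2 hp }, rfl, rfl,
        Module.Finite.iff_fg.2 (IsNoetherian.noetherian _)⟩
    have step : ∀ (M : ModuleCat.{u} A), Module.Finite A M → ∀ i, b + 1 ≤ i + (k + 1 : ℕ) →
        Function.Surjective (teleMap (smulEnd (((tcx M).obj P).homology i) f)) := by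
      intro M hM i hi
      obtain ⟨m, S, hS, h2, rfl, h1⟩ := hsurj M hM i hi
      have h := shortExact_tcx hS P hfl
      have hF : ∀ i, Tele (smulEnd (((tcx S.X₂).obj P).homology i) f) := fun i => by
        rw [h2]; exact tele_homology_free P hfl f hP m i
      exact teleSurj_of_exact f
        ((ShortComplex.ShortExact.moduleCat_exact_iff_function_exact _).1 (h.homology_exact₃ i (i + 1) rfl))
        ((ShortComplex.ShortExact.moduleCat_exact_iff_function_exact _).1 (h.homology_exact₁ i (i + 1) rfl))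
        (hF i).2 (ih S.X₁ h1 (i + 1) (by push_cast at hi; lia)) (hF (i + 1))
    intro M hM i hi
    obtain ⟨m, S, hS, h2, rfl, h1⟩ := hsurj M hM i hi
    have h := shortExact_tcx hS P hfl
    have hF : ∀ i, Tele (smulEnd (((tcx S.X₂).obj P).homology i) f) := fun i => by
      rw [h2]; exact tele_homology_free P hfl f hP m i
    exact tele_of_exact f
      ((ShortComplex.ShortExact.moduleCat_exact_iff_function_exact _).1 (h.homology_exact₂ i))
      ((ShortComplex.ShortExact.moduleCat_exact_iff_function_exact _).1 (h.homology_exact₃ i (i + 1) rfl))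
      ((ShortComplex.ShortExact.moduleCat_exact_iff_function_exact _).1 (h.homology_exact₁ i (i + 1) rfl))
      (step S.X₁ h1 i hi) (hF i) (ih S.X₁ h1 (i + 1) (by push_cast at hi; lia)) (hF (i + 1))

/-- A map bijects maps to complete objects if its cone has none. -/
theorem bijective_Q_map {I : Ideal A} {P Q' : DRing.Cx A} (u : P ⟶ Q')
    (h : ∀ E, DRing.IsDerivedComplete I E → ∀ x : DRing.toD (mappingCone u) ⟶ E, x = 0) {E : Dual.D A}
    (hE : DRing.IsDerivedComplete I E) :
    Function.Bijective fun α : DRing.toD Q' ⟶ E => DerivedCategory.Q.map u ≫ α := by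
  obtain ⟨a, b, hT⟩ := Q_triangle u
  have h := (forall_shift_hom_subsingleton_iff hT E).1
    (fun m => subsingleton_of_forall_eq 0 (h _ fun f hf => (isC_of_mem hE hf).shift m)) 0
  let z : E⟦(0 : ℤ)⟧ ≅ E := (shiftFunctorZero (Dual.D A) ℤ).app E
  refine ⟨fun x y hxy => ?_, fun x => ?_⟩
  · have : x ≫ z.inv = y ≫ z.inv := h.1
      ((Category.assoc _ _ _).symm.trans ((congrArg (· ≫ z.inv) hxy).trans (Category.assoc _ _ _)))
    exact (cancel_mono z.inv).1 this
  · obtain ⟨y, hy⟩ := h.2 (x ≫ z.inv)
    exact ⟨y ≫ z.hom, (Category.assoc _ _ _).symm.trans ((congrArg (· ≫ z.hom) hy).trans (by simp))⟩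

theorem bijective_arrow_iso {C : Type*} [Category C] {X Y X' Y' E : C} (g : X ⟶ Y) (g' : X' ⟶ Y')
    (a : X ≅ X') (b : Y ≅ Y') (h : a.hom ≫ g' = g ≫ b.hom)
    (hg : Function.Bijective fun α : Y ⟶ E => g ≫ α) : Function.Bijective fun α : Y' ⟶ E => g' ≫ α := by
  refine ⟨fun x y hxy => (cancel_epi b.hom).1 (hg.1 ?_), fun x => ?_⟩
  · simp only at hxy ⊢
    rw [← Category.assoc, ← h, Category.assoc, hxy, ← Category.assoc, h, Category.assoc]
  · obtain ⟨y, hy⟩ := hg.2 (a.hom ≫ x)
    refine ⟨b.inv ≫ y, (cancel_epi a.hom).1 ?_⟩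
    simp only at hy ⊢
    rw [← Category.assoc, h, Category.assoc, b.hom_inv_id_assoc, hy]

/-- The converse of `orth`. -/
theorem exactAt_tensor_of_orth {I : Ideal A} (X : DRing.Cx A) (hproj : ∀ j, Module.Projective A (X.X j)) (c : ℤ)
    (hc : ∀ j, c < j → IsZero (X.X j))
    (h : ∀ E, DRing.IsDerivedComplete I E → ∀ x : DRing.toD X ⟶ E, x = 0)
    (N : ModuleCat.{u} A) (hN : ∀ f ∈ I, ∀ x : N, f • x = 0) (i : ℤ) : ((tcx N).obj X).ExactAt i := by
  rw [HomologicalComplex.exactAt_iff' _ (i - 1) i (i + 1) (by simp) (by simp),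
    ShortComplex.ShortExact.moduleCat_exact_iff_function_exact]
  show Function.Exact ((X.d (i - 1) i).hom.lTensor N) ((X.d i (i + 1)).hom.lTensor N)
  let C := TensorProduct A N (X.X i) ⧸ LinearMap.range ((X.d (i - 1) i).hom.lTensor N)
  let q := (LinearMap.range ((X.d (i - 1) i).hom.lTensor N)).mkQ
  let φ : X.X i →ₗ[A] (N →ₗ[A] C) :=
    ((TensorProduct.mk A N (X.X i)).compr₂ q).flip
  let T := ModuleCat.of A (N →ₗ[A] C)
  have hT : ∀ f ∈ I, ∀ x : T, f • x = 0 := fun f hf x => LinearMap.ext fun n => by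
    show f • (x : N →ₗ[A] C) n = 0
    rw [← map_smul, hN f hf n, map_zero]
  let S : DRing.Cx A := (HomologicalComplex.single _ (ComplexShape.up ℤ) i).obj T
  have hS : DRing.IsDerivedComplete I (DRing.toD S) := by
    rw [isDerivedComplete_iff]
    intro f hf j
    by_cases hj : j = i
    · subst hj
      exact tele_of_linearEquiv f (((HomologicalComplex.singleObjHomologySelfIso (ComplexShape.up ℤ) j T).symm ≪≫
        (homologyQIso S j).symm)).toLinearEquiv (by
          rw [show smulEnd T f = 0 from AddMonoidHom.ext fun x => hT f hf x]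
          exact tele_zero)
    · haveI : Subsingleton (Dual.HD A (DRing.toD S) j) := ModuleCat.subsingleton_of_isZero
        (((HomologicalComplex.exactAt_iff_isZero_homology _ _).1
          (HomologicalComplex.exactAt_single_obj _ _ _ _ hj)).of_iso (homologyQIso S j))
      exact tele_of_subsingleton _
  have hφ : ModuleCat.ofHom (φ.comp (X.d (i - 1) i).hom) = (0 : X.X (i - 1) ⟶ T) :=
    ModuleCat.hom_ext (LinearMap.ext fun x => LinearMap.ext fun n =>
      (Submodule.Quotient.mk_eq_zero _).2 ⟨n ⊗ₜ x, rfl⟩)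
  let t : X ⟶ S := HomologicalComplex.mkHomToSingle (ModuleCat.ofHom φ) (fun k hk => by
    obtain rfl : k = i - 1 := by simp only [ComplexShape.up_Rel] at hk; lia
    exact hφ)
  haveI : X.IsKProjective := isKProjective_of_mem (P := DRingPC.PR A) (DRingPC.PR.lift A) X hproj c hc
  have h0 := h _ hS (DerivedCategory.Q.map t)
  have h1 : DerivedCategory.Qh.map ((HomotopyCategory.quotient _ _).map t) =
      DerivedCategory.Qh.map ((HomotopyCategory.quotient _ _).map (0 : X ⟶ S)) := by
    rw [Functor.map_zero, Functor.map_zero, ← cancel_mono ((DerivedCategory.quotientCompQhIso (ModuleCat.{u} A)).hom.app S), zero_comp]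
    exact ((DerivedCategory.quotientCompQhIso (ModuleCat.{u} A)).hom.naturality t).trans
      ((congrArg (_ ≫ ·) h0).trans comp_zero)
  obtain ⟨H⟩ : Nonempty (Homotopy t 0) :=
    ⟨HomotopyCategory.homotopyOfEq _ _ ((CochainComplex.IsKProjective.Qh_map_bijective X _).1 h1)⟩
  let e := HomologicalComplex.singleObjXSelf (ComplexShape.up ℤ) i T
  let ψ : X.X (i + 1) ⟶ T := H.hom (i + 1) i ≫ e.hom
  have hψ : X.d i (i + 1) ≫ ψ = ModuleCat.ofHom φ := by
    have hc := H.comm i
    rw [dNext_eq H.hom (show (ComplexShape.up ℤ).Rel i (i + 1) from rfl),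
      prevD_eq H.hom (show (ComplexShape.up ℤ).Rel (i - 1) i by simp)] at hc
    have := congrArg (· ≫ e.hom) hc
    simpa [t, ψ, S, e] using this.symm
  intro y
  refine ⟨fun hy => ?_, ?_⟩
  · have key : ∀ y : TensorProduct A N (X.X i),
        q y = TensorProduct.lift (ψ.hom.flip) ((X.d i (i + 1)).hom.lTensor N y) := fun y => by
      induction y using TensorProduct.induction_on with
      | zero => simp
      | add a b ha hb => rw [map_add, map_add, map_add, ha, hb]
      | tmul n x =>
        show q (n ⊗ₜ x) = ((X.d i (i + 1) ≫ ψ).hom x) n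
        rw [hψ]
        rfl
    have := key y
    rw [hy, map_zero] at this
    exact (Submodule.Quotient.mk_eq_zero _).1 this
  · rintro ⟨x, rfl⟩
    rw [← LinearMap.lTensor_comp_apply, ← ModuleCat.hom_comp, X.d_comp_d, ModuleCat.hom_zero,
      LinearMap.lTensor_zero, LinearMap.zero_apply]

theorem map_smul_id (M : ModuleCat.{u} A) (P : DRing.Cx A) (f : A) :
    (tcx M).map (f • 𝟙 P) = f • 𝟙 ((tcx M).obj P) :=
  HomologicalComplex.hom_ext _ _ fun j => by
    show M ◁ (f • 𝟙 (P.X j)) = f • 𝟙 (M ⊗ P.X j)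
    rw [MonoidalLinear.whiskerLeft_smul, MonoidalCategory.whiskerLeft_id]

/-- `orth` with coefficients. -/
theorem orth_tensor (l : List A) (c : ℤ) : ∀ (P : DRing.Cx A), (∀ j, Module.Flat A (P.X j)) →
    (∀ j, c < j → IsZero (P.X j)) →
    (∀ N : ModuleCat.{u} A, (∀ f ∈ l, ∀ x : N, f • x = 0) → ∀ i, ((tcx N).obj P).ExactAt i) →
    ∀ (M : ModuleCat.{u} A) (L : Dual.D A), (∀ f ∈ l, IsC f L) →
      ∀ h : DRing.toD ((tcx M).obj P) ⟶ L, h = 0 := by
  induction l with
  | nil =>
    intro P hfl hb h M L _ g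
    have hex : ∀ n, P.ExactAt n := fun n =>
      DRingPC.exactAt_of_tensor_unit P n (h _ (fun f hf => absurd hf List.not_mem_nil) n)
    have hz : IsZero (DRing.toD ((tcx M).obj P)) := isZero_of_forall_isZero _ fun n =>
      ((HomologicalComplex.exactAt_iff_isZero_homology _ _).1
        (exactAt_tensor_of_acyclic P hfl c hb hex M n)).of_iso (homologyQIso _ n)
    exact hz.eq_of_src _ _
  | cons f l ih =>
    intro P hfl hb h M
    let P' : DRing.Cx A := mappingCone (f • 𝟙 P)
    have hfl' : ∀ j, Module.Flat A (P'.X j) := fun j => by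
      haveI := hfl (j + 1); haveI := hfl j
      haveI : Module.Flat A ((P.X (j + 1) : ModuleCat.{u} A) × (P.X j : ModuleCat.{u} A)) := flat_prod _ _
      exact Module.Flat.of_linearEquiv (N := P'.X j) (M := (P.X (j + 1) : ModuleCat.{u} A) × (P.X j : ModuleCat.{u} A))
        ((HomologicalComplex.homotopyCofiber.XIsoBiprod (f • 𝟙 P) j (j + 1) rfl ≪≫
          ModuleCat.biprodIsoProd _ _).toLinearEquiv)
    have hb' : ∀ j, c < j → IsZero (P'.X j) := fun j hj =>
      IsZero.of_iso ((biprod_isZero_iff _ _).2 ⟨hb (j + 1) (by lia), hb j hj⟩)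
        (HomologicalComplex.homotopyCofiber.XIsoBiprod (f • 𝟙 P) j (j + 1) rfl)
    have hP' := ih P' hfl' hb' (fun N hN j => by
      refine HomologicalComplex.ExactAt.of_iso ?_
        (CochainComplex.mappingCone.mapHomologicalComplexIso (f • 𝟙 P) (tensorLeft N)).symm
      have hk : ∀ j, ((tcx (ModuleCat.of A (LinearMap.ker (LinearMap.lsmul A N f)))).obj P).ExactAt j :=
        h _ fun g hg x => Subtype.ext (by
          rcases List.mem_cons.1 hg with rfl | hg
          · exact x.2
          · exact hN g hg x.1)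
      have hc : ∀ j, ((tcx (ModuleCat.of A (N ⧸ LinearMap.range (LinearMap.lsmul A N f)))).obj P).ExactAt j :=
        h _ fun g hg x => by
          obtain ⟨x, rfl⟩ := Submodule.mkQ_surjective _ x
          rw [← map_smul]
          rcases List.mem_cons.1 hg with rfl | hg
          · exact (Submodule.Quotient.mk_eq_zero _).2 ⟨x, rfl⟩
          · rw [hN g hg x, map_zero]
      have := epi_mono_smul P hfl f N (j - 1) (fun i _ => hk i) (fun i _ => hc i) j (by lia)
      exact exactAt_cone _ j this.1 this.2) M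
    let R := (tcx M).obj P
    have hcone : Nonempty ((tcx M).obj P' ≅ mappingCone (f • 𝟙 R)) := by
      rw [← map_smul_id M P f]
      exact ⟨CochainComplex.mappingCone.mapHomologicalComplexIso (f • 𝟙 P) (tensorLeft M)⟩
    obtain ⟨ec⟩ := hcone
    obtain ⟨a, b, hT⟩ := Q_triangle (f • 𝟙 R)
    let g := DerivedCategory.Q.map (f • 𝟙 R)
    have hsurj : ∀ L : Dual.D A, (∀ g ∈ f :: l, IsC g L) → ∀ x : DRing.toD R ⟶ L, ∃ β, g ≫ β = x := by
      intro L hL x
      have h0 : Subsingleton (DRing.toD (mappingCone (f • 𝟙 R)) ⟶ L⟦(1 : ℤ)⟧) :=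
        subsingleton_of_forall_eq 0 fun y => (cancel_epi (DerivedCategory.Q.mapIso ec).hom).1
          ((hP' _ (fun q hq => (hL q (List.mem_cons_of_mem _ hq)).shift 1) _).trans comp_zero.symm)
      have h1 := (subsingleton_shift_neg_iff (DRing.toD (mappingCone (f • 𝟙 R))) L 1).2 h0
      obtain ⟨β, hβ⟩ := Triangle.yoneda_exact₂ _ (inv_rot_of_distTriang _ hT) x (h1.elim _ _)
      exact ⟨β, hβ.symm⟩
    obtain ⟨C, η, hC, hL⟩ := exists_completion (f :: l) (DRing.toD R)
    obtain ⟨β, hβ⟩ := hsurj C hC η
    obtain ⟨α, hα⟩ := (hL C hC).2 β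
    simp only at hα
    have hid : f • α = 𝟙 C := (hL C hC).1 (by
      show η ≫ (f • α) = η ≫ 𝟙 C
      rw [Linear.comp_smul, hα, Category.comp_id, ← hβ]
      simp [g, Functor.map_smul])
    have hCz : IsZero C := by
      refine isZero_of_forall_isZero C fun n => ?_
      have hH : f • (DH n).map α = 𝟙 ((DH n).obj C) := by
        rw [← (DH n).map_id, ← hid, show f • α = α ≫ (f • 𝟙 C) by rw [Linear.comp_smul, Category.comp_id],
          Functor.map_comp, homology_smul, Linear.comp_smul, Category.comp_id]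
      haveI : Subsingleton ((DH n).obj C) := by
        refine subsingleton_of_forall_eq 0 fun x => ?_
        let φ := fun x => ((DH n).map α).hom x
        have hφ : ∀ x, f • φ x = x := fun x => congrArg (fun u => u.hom x) hH
        exact congrFun (((isC_iff f C).1 (hC f List.mem_cons_self) n).eq_zero (fun k => φ^[k] x) fun k => by
          show φ^[k] x = f • φ^[k + 1] x
          rw [Function.iterate_succ_apply']; exact (hφ _).symm) 0
      exact ModuleCat.isZero_of_subsingleton _
    intro L hL' x
    obtain ⟨y, hy⟩ := (hL L hL').2 x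
    simp only at hy
    rw [← hy, hCz.eq_of_src y 0, comp_zero]

/-- Values of `- ⊗ᴸ M` at K-flat complexes, for the left tensor. -/
noncomputable def valueIso (M : ModuleCat.{u} A) [DRing.HasLTensor A M] (P : DRing.Cx A) (hP : DRing.IsKFlat A P) :
    (DRing.LTensor A M).obj (DRing.toD P) ≅ DRing.toD ((tcx M).obj P) :=
  DRingPC.ltensorValueIso M P hP ≪≫ DerivedCategory.Q.mapIso
    ((NatIso.mapHomologicalComplex (BraidedCategory.tensorLeftIsoTensorRight M).symm (ComplexShape.up ℤ)).app P)

theorem valueIso_natural (M : ModuleCat.{u} A) [DRing.HasLTensor A M] {P P' : DRing.Cx A} (u : P ⟶ P')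
    (hP : DRing.IsKFlat A P) (hP' : DRing.IsKFlat A P') :
    (DRing.LTensor A M).map (DerivedCategory.Q.map u) ≫ (valueIso M P' hP').hom =
      (valueIso M P hP).hom ≫ DerivedCategory.Q.map ((tcx M).map u) := by
  let q := DerivedCategory.quotientCompQhIso (ModuleCat.{u} A)
  have h1 : DerivedCategory.Q.map u ≫ (q.app P').inv = (q.app P).inv ≫
      DerivedCategory.Qh.map ((HomotopyCategory.quotient _ _).map u) := q.inv.naturality u
  have h2 := (DRingPC.counitT M).naturality u
  have h3 := (DRingPC.ΦTIso M).hom.naturality u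
  have h4 := (NatIso.mapHomologicalComplex (BraidedCategory.tensorLeftIsoTensorRight M).symm (ComplexShape.up ℤ)).hom.naturality u
  simp only [valueIso, DRingPC.ltensorValueIso, Iso.trans_hom, Functor.mapIso_hom, Iso.symm_hom, asIso_hom,
    Category.assoc, Iso.app_hom]
  rw [← Functor.map_comp_assoc, h1, Functor.map_comp_assoc]
  erw [reassoc_of% h2, reassoc_of% h3]
  rw [← Functor.map_comp]
  erw [h4]
  rw [Functor.map_comp]

theorem completion_tensor_finite [IsNoetherianRing A] (I : Ideal A) [DRing.HasDerivedCompletion I]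
    (M : Type u) [AddCommGroup M] [Module A M] [Module.Finite A M]
    [DRing.HasLTensor A (ModuleCat.of A M)] (K : Dual.D A) (b : ℤ)
    (hK : ∀ i : ℤ, b < i → Subsingleton (Dual.HD A K i)) :
    DRing.IsDerivedComplete I ((DRing.LTensor A (ModuleCat.of A M)).obj ((DRing.derivedCompletion I).obj K).obj) ∧
      ∀ E : Dual.D A, DRing.IsDerivedComplete I E →
        Function.Bijective (fun φ : (DRing.LTensor A (ModuleCat.of A M)).obj ((DRing.derivedCompletion I).obj K).obj ⟶ E =>
          (DRing.LTensor A (ModuleCat.of A M)).map (DRing.toDerivedCompletion I K) ≫ φ) := by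
  let Mm := ModuleCat.of A M
  obtain ⟨l, hl⟩ := exists_list_of_fg (IsNoetherian.noetherian I)
  obtain ⟨s, hs⟩ := IsNoetherian.noetherian I
  let K' := (DRing.derivedCompletion I).obj K
  have hKb : ∀ i, b < i → Van K i := fun i hi => @ModuleCat.isZero_of_subsingleton _ _ _ (hK i hi)
  haveI : K.IsLE b := (DerivedCategory.isLE_iff _ _).2 hKb
  haveI : K'.obj.IsLE b := (DerivedCategory.isLE_iff _ _).2 fun i hi =>
    van_completion s hs K i fun j _ => hKb _ (by lia)
  obtain ⟨P, hP, hPb, ⟨eP⟩⟩ := exists_projective_rep A K b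
  obtain ⟨P', hP', hPb', ⟨eP'⟩⟩ := exists_projective_rep A K'.obj b
  obtain ⟨u, hu⟩ := exists_Q_map_eq (P := DRingPC.PR A) (DRingPC.PR.lift A) P hP b hPb P'
    (eP.hom ≫ DRing.toDerivedCompletion I K ≫ eP'.inv)
  have hPk := KFlat.isKFlat_of_boundedAbove b hPb fun j => DRingPC.PR.toFL A (hP j)
  have hPk' := KFlat.isKFlat_of_boundedAbove b hPb' fun j => DRingPC.PR.toFL A (hP' j)
  let X := mappingCone u
  have hproj : ∀ j, Module.Projective A (X.X j) := fun j => by
    haveI := hP (j + 1); haveI := hP' j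
    exact Module.Projective.of_equiv (M := ((P.X (j + 1) : ModuleCat.{u} A) × (P'.X j : ModuleCat.{u} A)))
      ((HomologicalComplex.homotopyCofiber.XIsoBiprod u j (j + 1) rfl ≪≫
        ModuleCat.biprodIsoProd _ _).toLinearEquiv.symm)
  have hXb : ∀ j, b < j → IsZero (X.X j) := fun j hj =>
    IsZero.of_iso ((biprod_isZero_iff _ _).2 ⟨hPb (j + 1) (by lia), hPb' j hj⟩)
      (HomologicalComplex.homotopyCofiber.XIsoBiprod u j (j + 1) rfl)
  have huniv : ∀ E, DRing.IsDerivedComplete I E →
      Function.Bijective fun α : DRing.toD P' ⟶ E => DerivedCategory.Q.map u ≫ α := fun E hE =>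
    bijective_arrow_iso (DRing.toDerivedCompletion I K) _ eP.symm eP'.symm
      (by rw [hu]; simp) (unit_bijective K hE)
  have hXorth : ∀ E, DRing.IsDerivedComplete I E → ∀ x : DRing.toD X ⟶ E, x = 0 := by
    intro E hE x
    obtain ⟨a, c, hT⟩ := Q_triangle u
    have h := (forall_shift_hom_subsingleton_iff hT E).2
      (fun n => huniv _ fun f hf => (isC_of_mem hE hf).shift n) 0
    have := h.elim (x ≫ ((shiftFunctorZero (Dual.D A) ℤ).app E).inv) 0
    rwa [Preadditive.IsIso.comp_right_eq_zero] at this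
  have hXN := fun (N : ModuleCat.{u} A) (hN : ∀ f ∈ l, ∀ x : N, f • x = 0) => exactAt_tensor_of_orth X hproj b hXb hXorth N
    (by
      intro f hf x
      refine Submodule.mem_annihilator.1 ((?_ : I ≤ (⊤ : Submodule A N).annihilator) hf) x trivial
      rw [← hl, Ideal.span_le]
      exact fun g hg => Submodule.mem_annihilator.2 fun y _ => hN g hg y)
  have hflX : ∀ j, Module.Flat A (X.X j) := fun j => haveI := hproj j; inferInstance
  have horth : ∀ E, DRing.IsDerivedComplete I E → ∀ x : DRing.toD (mappingCone ((tcx Mm).map u)) ⟶ E, x = 0 := by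
    intro E hE x
    let ec := CochainComplex.mappingCone.mapHomologicalComplexIso u (tensorLeft Mm)
    exact (cancel_epi (DerivedCategory.Q.mapIso ec).hom).1
      ((orth_tensor l b X hflX hXb hXN Mm E (fun f hf => isC_of_mem hE (hl ▸ Ideal.subset_span hf)) _).trans comp_zero.symm)
  constructor
  · rw [isDerivedComplete_iff]
    intro f hf i
    haveI : Module.Finite A Mm := ‹Module.Finite A M›
    have hPt : ∀ j, Tele (smulEnd (P'.homology j) f) := fun j =>
      tele_of_linearEquiv f ((DH j).mapIso eP'.symm ≪≫ homologyQIso P' j).toLinearEquiv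
        ((isDerivedComplete_iff I _).1 K'.property f hf j)
    have := tele_homology_finite P' (fun j => haveI := hP' j; inferInstance) b hPb' f hPt
      ((b + 1 - i).toNat) Mm inferInstance i (by lia)
    exact tele_of_linearEquiv f ((DH i).mapIso ((DRing.LTensor A Mm).mapIso eP'.symm ≪≫ valueIso Mm P' hPk') ≪≫
      homologyQIso _ i).toLinearEquiv.symm this
  · intro E hE
    refine bijective_arrow_iso (DerivedCategory.Q.map ((tcx Mm).map u)) _
      ((valueIso Mm P hPk).symm ≪≫ (DRing.LTensor A Mm).mapIso eP)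
      ((valueIso Mm P' hPk').symm ≪≫ (DRing.LTensor A Mm).mapIso eP') ?_ (bijective_Q_map _ horth hE)
    simp only [Iso.trans_hom, Iso.symm_hom, Functor.mapIso_hom, Category.assoc]
    rw [Iso.inv_comp_eq, ← reassoc_of% (valueIso_natural Mm u hPk hPk'), Iso.hom_inv_id_assoc,
      ← Functor.map_comp, ← Functor.map_comp, hu]
    simp

end Groth.Agent.DComplete
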