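import Groth.Agent.DComplete.FlatTensor
import Groth.Agent.DComplete.TensorFinite

/-!
# Completion of a bounded above flat complex tensored with a finite module
-/

set_option autoImplicit false
set_option linter.style.haveILetI false
universe u

open CategoryTheory CategoryTheory.Limits CategoryTheory.Pretriangulated
open CategoryTheory.MonoidalCategory
open Groth.Agent.PCohLib Groth.Agent.DRingPC
open CochainComplex (mappingCone)
open scoped TensorProduct

attribute [local instance] HasDerivedCategory.standard

namespace Groth.Agent.DComplete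

variable {A : Type u} [CommRing A] (I : Ideal A)

/-- Adic completion of modules. -/
noncomputable def adicF : ModuleCat.{u} A ⥤ ModuleCat.{u} A where
  obj M := ModuleCat.of A (AdicCompletion I M)
  map f := ModuleCat.ofHom ((AdicCompletion.map I f.hom).restrictScalars A)
  map_id M := ModuleCat.hom_ext (LinearMap.ext fun x => LinearMap.congr_fun (AdicCompletion.map_id I M) x)
  map_comp f g := ModuleCat.hom_ext (LinearMap.ext fun x => (AdicCompletion.map_comp_apply I f.hom g.hom x).symm)

theorem adicF_add {M N : ModuleCat.{u} A} (f g : M ⟶ N) :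
    (adicF I).map (f + g) = (adicF I).map f + (adicF I).map g := by
  refine ModuleCat.hom_ext (LinearMap.ext fun x => AdicCompletion.ext fun n => ?_)
  show LinearMap.reduceModIdeal (I ^ n) (f.hom + g.hom) (x.val n) =
    LinearMap.reduceModIdeal (I ^ n) f.hom (x.val n) + LinearMap.reduceModIdeal (I ^ n) g.hom (x.val n)
  obtain ⟨m, hm⟩ := Submodule.Quotient.mk_surjective _ (x.val n)
  rw [← hm]
  rfl

instance : (adicF I).Additive := ⟨fun {_ _ f g} => adicF_add I f g⟩

theorem adicF_smul {M N : ModuleCat.{u} A} (a : A) (f : M ⟶ N) :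
    (adicF I).map (a • f) = a • (adicF I).map f := by
  refine ModuleCat.hom_ext (LinearMap.ext fun x => AdicCompletion.ext fun n => ?_)
  show LinearMap.reduceModIdeal (I ^ n) (a • f.hom) (x.val n) =
    a • LinearMap.reduceModIdeal (I ^ n) f.hom (x.val n)
  obtain ⟨m, hm⟩ := Submodule.Quotient.mk_surjective _ (x.val n)
  rw [← hm]
  rfl

/-- Its unit. -/
noncomputable def adicUnit : 𝟭 (ModuleCat.{u} A) ⟶ adicF I where
  app M := ModuleCat.ofHom (AdicCompletion.of I M)
  naturality _ _ f := ModuleCat.hom_ext (LinearMap.ext fun x => (AdicCompletion.map_of I f.hom x).symm)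

/-- Termwise adic completion. -/
noncomputable abbrev adicCx : DRing.Cx A ⥤ DRing.Cx A := (adicF I).mapHomologicalComplex (ComplexShape.up ℤ)

/-- The unit on complexes. -/
noncomputable def adicMap (P : DRing.Cx A) : P ⟶ (adicCx I).obj P where
  f i := (adicUnit I).app (P.X i)
  comm' i j _ := ((adicUnit I).naturality (P.d i j)).symm

/-- The comparison `M ⊗ N^ → (M ⊗ N)^`. -/
noncomputable def cmpTensor (M : ModuleCat.{u} A) : adicF I ⋙ tensorLeft M ⟶ tensorLeft M ⋙ adicF I where
  app N := ModuleCat.ofHom (TensorProduct.lift (LinearMap.mk₂ A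
    (fun (m : M) (z : AdicCompletion I N) =>
      ((adicF I).map (ModuleCat.ofHom (TensorProduct.mk A M N m) : N ⟶ M ⊗ N)).hom z)
    (fun m m' z => by
      rw [map_add (TensorProduct.mk A M N) m m']
      exact LinearMap.congr_fun (congrArg ModuleCat.Hom.hom (adicF_add I
        (ModuleCat.ofHom (TensorProduct.mk A M N m) : N ⟶ M ⊗ N) (ModuleCat.ofHom (TensorProduct.mk A M N m')))) z)
    (fun a m z => by
      rw [map_smul (TensorProduct.mk A M N) a m]
      exact LinearMap.congr_fun (congrArg ModuleCat.Hom.hom (adicF_smul I a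
        (ModuleCat.ofHom (TensorProduct.mk A M N m) : N ⟶ M ⊗ N))) z)
    (fun m z z' => map_add _ z z') (fun a m z => map_smul _ a z)))
  naturality N N' g := by
    refine ModuleCat.hom_ext (TensorProduct.ext' fun m z => ?_)
    show ((adicF I).map (ModuleCat.ofHom (TensorProduct.mk A M N' m) : N' ⟶ M ⊗ N')).hom
        (((adicF I).map g).hom z) =
      ((adicF I).map (M ◁ g)).hom (((adicF I).map (ModuleCat.ofHom (TensorProduct.mk A M N m) : N ⟶ M ⊗ N)).hom z)
    have h : g ≫ (ModuleCat.ofHom (TensorProduct.mk A M N' m) : N' ⟶ M ⊗ N') =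
        (ModuleCat.ofHom (TensorProduct.mk A M N m) : N ⟶ M ⊗ N) ≫ (M ◁ g) :=
      ModuleCat.hom_ext (LinearMap.ext fun _ => rfl)
    have h2 := LinearMap.congr_fun (congrArg ModuleCat.Hom.hom (congrArg (adicF I).map h)) z
    rw [Functor.map_comp, Functor.map_comp] at h2
    exact h2

theorem bijective_cmpTensor [IsNoetherianRing A] (M N : ModuleCat.{u} A) [Module.Finite A M] [Module.Flat A N] :
    Function.Bijective ((cmpTensor I M).app N).hom := by
  have hI : I.FG := IsNoetherian.noetherian I
  obtain ⟨hZ, e, he⟩ := exists_equiv_tensor_completion I M N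
  haveI : IsAdicComplete I (AdicCompletion I (M ⊗[A] N)) := AdicCompletion.isAdicComplete hI
  let ψ : AdicCompletion I N ⊗[A] M →ₗ[A] AdicCompletion I (M ⊗[A] N) :=
    ((cmpTensor I M).app N).hom.comp (TensorProduct.comm A (AdicCompletion I N) M).toLinearMap
  have hψ : ∀ x : M ⊗[A] N, ψ ((AdicCompletion.of I N).rTensor M (TensorProduct.comm A M N x)) =
      AdicCompletion.of I (M ⊗[A] N) x := fun x => by
    induction x using TensorProduct.induction_on with
    | zero => simp
    | add a b ha hb => simp only [map_add, ha, hb]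
    | tmul m y => exact AdicCompletion.map_of I (TensorProduct.mk A M N m) y
  have heq : ∀ t, ψ t = e t := fun t => sub_eq_zero.1 (IsHausdorff.haus' (I := I) _ fun n => by
    rw [SModEq.zero]
    obtain ⟨g, hg⟩ := Submodule.Quotient.mk_surjective _ (AdicCompletion.eval I (M ⊗[A] N) n (e t))
    let t₀ := (AdicCompletion.of I N).rTensor M (TensorProduct.comm A M N g)
    have h1 : e (t - t₀) ∈ (I ^ n • ⊤ : Submodule A (AdicCompletion I (M ⊗[A] N))) := by
      rw [AdicCompletion.pow_smul_top_eq_ker_eval hI, LinearMap.mem_ker, map_sub, he, map_sub, ← hg, sub_eq_zero]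
      rfl
    have h2 : t - t₀ ∈ (I ^ n • ⊤ : Submodule A (AdicCompletion I N ⊗[A] M)) := by
      have := Submodule.mem_map_of_mem (f := e.symm.toLinearMap) h1
      rw [Submodule.map_smul'', Submodule.map_top, LinearEquiv.range] at this
      rwa [LinearEquiv.coe_coe, LinearEquiv.symm_apply_apply] at this
    have h3 : ψ t - e t = (ψ - e.toLinearMap) (t - t₀) := by
      simp only [LinearMap.sub_apply, map_sub, LinearEquiv.coe_coe, t₀, hψ, he]
      abel
    rw [h3]
    have h4 := Submodule.mem_map_of_mem (f := ψ - e.toLinearMap) h2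
    rw [Submodule.map_smul''] at h4
    exact Submodule.smul_mono le_rfl le_top h4)
  have hb : Function.Bijective ψ := (funext heq : ⇑ψ = ⇑e) ▸ e.bijective
  exact (Function.Bijective.of_comp_iff _ (TensorProduct.comm A (AdicCompletion I N) M).bijective).1 hb

/-- The termwise completion of `M ⊗ C` is the derived completion. -/
theorem universal_adicMap [IsNoetherianRing A] (C : DRing.Cx A) (c : ℤ) (hC : ∀ j, Module.Flat A (C.X j))
    (hc : ∀ j, c < j → IsZero (C.X j)) (M : ModuleCat.{u} A) [Module.Finite A M] :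
    DRing.IsDerivedComplete I (DRing.toD ((adicCx I).obj ((tcx M).obj C))) ∧
      ∀ E, DRing.IsDerivedComplete I E → Function.Bijective fun α : DRing.toD ((adicCx I).obj ((tcx M).obj C)) ⟶ E =>
        DerivedCategory.Q.map (adicMap I ((tcx M).obj C)) ≫ α := by
  have hI : I.FG := IsNoetherian.noetherian I
  refine ⟨isDerivedComplete_of_termwise I _ fun f hf j => ?_, ?_⟩
  · haveI : IsAdicComplete I (AdicCompletion I (((tcx M).obj C).X j)) := AdicCompletion.isAdicComplete hI
    exact tele_of_isAdicComplete (M := AdicCompletion I (((tcx M).obj C).X j)) I hf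
  let Cc := (adicCx I).obj C
  let u := adicMap I C
  haveI hCc : ∀ j, Module.Flat A (Cc.X j) := fun j =>
    haveI := hC j
    flat_adicCompletion I (C.X j)
  have hflC : ∀ j, Module.Flat A ((mappingCone u).X j) := fun j => by
    haveI := hC (j + 1); haveI := hCc j
    haveI : Module.Flat A ((C.X (j + 1) : ModuleCat.{u} A) × (Cc.X j : ModuleCat.{u} A)) := flat_prod _ _
    exact Module.Flat.of_linearEquiv (N := (mappingCone u).X j)
      (M := (C.X (j + 1) : ModuleCat.{u} A) × (Cc.X j : ModuleCat.{u} A))
      ((HomologicalComplex.homotopyCofiber.XIsoBiprod u j (j + 1) rfl ≪≫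
        ModuleCat.biprodIsoProd _ _).toLinearEquiv)
  have hbC : ∀ j, c < j → IsZero ((mappingCone u).X j) := fun j hj =>
    IsZero.of_iso ((biprod_isZero_iff _ _).2 ⟨hc (j + 1) (by lia), (adicF I).map_isZero (hc j hj)⟩)
      (HomologicalComplex.homotopyCofiber.XIsoBiprod u j (j + 1) rfl)
  obtain ⟨l, hl⟩ := exists_list_of_fg hI
  have horth : ∀ E, DRing.IsDerivedComplete I E → ∀ x : DRing.toD ((tcx M).obj (mappingCone u)) ⟶ E, x = 0 :=
    fun E hE => orth_tensor l c _ hflC hbC (fun X hX i => by
      refine HomologicalComplex.ExactAt.of_iso ?_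
        (CochainComplex.mappingCone.mapHomologicalComplexIso u (tensorLeft X)).symm
      have hX' : ∀ f ∈ I, ∀ x : X, f • x = 0 := by
        intro f hf x
        refine Submodule.mem_annihilator.1 ((?_ : I ≤ (⊤ : Submodule A X).annihilator) hf) x trivial
        rw [← hl, Ideal.span_le]
        exact fun g hg => Submodule.mem_annihilator.2 fun y _ => hX g hg y
      haveI : IsIso ((tcx X).map u) := by
        haveI : ∀ j, IsIso (((tcx X).map u).f j) := fun j => (ConcreteCategory.isIso_iff_bijective _).2
          (bijective_lTensor_of_killed I X (C.X j) hX')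
        exact HomologicalComplex.Hom.isIso_of_components _
      exact exactAt_cone _ i inferInstance inferInstance) M E
      fun f hf => isC_of_mem hE (hl ▸ Ideal.subset_span hf)
  intro E hE
  let v := (tcx M).map u
  let ec := CochainComplex.mappingCone.mapHomologicalComplexIso u (tensorLeft M)
  obtain ⟨a, b, hT⟩ := Q_triangle v
  have h0 : ∀ m : ℤ, Subsingleton (DRing.toD (mappingCone v) ⟶ E⟦m⟧) := fun m =>
    subsingleton_of_forall_eq 0 fun y => (cancel_epi (DerivedCategory.Q.mapIso ec).hom).1
      ((horth _ (fun f hf => (isC_of_mem hE hf).shift m) _).trans comp_zero.symm)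
  have h := (forall_shift_hom_subsingleton_iff hT E).1 h0 0
  let z : E⟦(0 : ℤ)⟧ ≅ E := (shiftFunctorZero (Dual.D A) ℤ).app E
  have huniv : Function.Bijective fun α : DRing.toD ((tcx M).obj Cc) ⟶ E => DerivedCategory.Q.map v ≫ α := by
    refine ⟨fun x y hxy => ?_, fun x => ?_⟩
    · have : x ≫ z.inv = y ≫ z.inv := h.1
        ((Category.assoc _ _ _).symm.trans ((congrArg (· ≫ z.inv) hxy).trans (Category.assoc _ _ _)))
      exact (cancel_mono z.inv).1 this
    · obtain ⟨y, hy⟩ := h.2 (x ≫ z.inv)
      exact ⟨y ≫ z.hom, (Category.assoc _ _ _).symm.trans ((congrArg (· ≫ z.hom) hy).trans (by simp))⟩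
  let Φ : (tcx M).obj ((adicCx I).obj C) ⟶ (adicCx I).obj ((tcx M).obj C) :=
    (NatTrans.mapHomologicalComplex (cmpTensor I M) (ComplexShape.up ℤ)).app C
  haveI : ∀ j, IsIso (Φ.f j) := fun j =>
    haveI := hC j
    (ConcreteCategory.isIso_iff_bijective _).2 (bijective_cmpTensor I M (C.X j))
  haveI : IsIso Φ := HomologicalComplex.Hom.isIso_of_components Φ
  have hΦ : v ≫ Φ = adicMap I ((tcx M).obj C) := by
    refine HomologicalComplex.hom_ext _ _ fun j => ModuleCat.hom_ext (TensorProduct.ext' fun m y => ?_)
    exact AdicCompletion.map_of I (TensorProduct.mk A M (C.X j) m) y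
  refine bijective_of_arrow_iso (DerivedCategory.Q.map v) _ (Iso.refl _) (DerivedCategory.Q.mapIso (asIso Φ)) ?_ huniv
  rw [← hΦ, Functor.map_comp]
  exact Category.id_comp _

end Groth.Agent.DComplete
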