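import Groth.Agent.DComplete.Away
import Mathlib.Algebra.Category.ModuleCat.Descent
import Mathlib.CategoryTheory.Adjunction.PartialAdjoint
import Mathlib.CategoryTheory.Localization.Adjunction

/-!
# Existence of derived completion
-/

set_option autoImplicit false
set_option linter.style.haveILetI false
universe u

open CategoryTheory CategoryTheory.Limits CategoryTheory.Pretriangulated

attribute [local instance] HasDerivedCategory.standard

namespace Groth.Agent.DComplete

section General

variable {C₁ C₂ : Type*} [Category* C₁] [Category* C₂] [Abelian C₁] [Abelian C₂]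
  [HasDerivedCategory C₁] [HasDerivedCategory C₂]
  {G : C₁ ⥤ C₂} {F : C₂ ⥤ C₁} [G.Additive] [F.Additive]

/-- An adjunction on complexes. -/
def cxAdj (adj : G ⊣ F) :
    G.mapHomologicalComplex (ComplexShape.up ℤ) ⊣ F.mapHomologicalComplex (ComplexShape.up ℤ) where
  unit :=
    { app := DerAdj.complexUnit adj
      naturality := fun _ _ u => HomologicalComplex.hom_ext _ _ fun i => adj.unit.naturality (u.f i) }
  counit :=
    { app := DerAdj.complexCounit adj
      naturality := fun _ _ u => HomologicalComplex.hom_ext _ _ fun i => adj.counit.naturality (u.f i) }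
  left_triangle_components K :=
    HomologicalComplex.hom_ext _ _ fun i => adj.left_triangle_components (K.X i)
  right_triangle_components K :=
    HomologicalComplex.hom_ext _ _ fun i => adj.right_triangle_components (K.X i)

variable [PreservesFiniteLimits G] [PreservesFiniteColimits G] [PreservesFiniteLimits F]
  [PreservesFiniteColimits F]

/-- An adjoint pair of exact functors on derived categories. -/
noncomputable def derivedAdj (adj : G ⊣ F) : G.mapDerivedCategory ⊣ F.mapDerivedCategory :=
  letI : CatCommSq (G.mapHomologicalComplex (ComplexShape.up ℤ)) DerivedCategory.Q DerivedCategory.Q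
      G.mapDerivedCategory := ⟨G.mapDerivedCategoryFactors.symm⟩
  letI : CatCommSq (F.mapHomologicalComplex (ComplexShape.up ℤ)) DerivedCategory.Q DerivedCategory.Q
      F.mapDerivedCategory := ⟨F.mapDerivedCategoryFactors.symm⟩
  (cxAdj adj).localization DerivedCategory.Q (HomologicalComplex.quasiIso C₁ (ComplexShape.up ℤ))
    DerivedCategory.Q (HomologicalComplex.quasiIso C₂ (ComplexShape.up ℤ)) _ _

theorem isIso_counit_derivedAdj (adj : G ⊣ F) [IsIso adj.counit] : IsIso (derivedAdj adj).counit := by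
  suffices h : ∀ Y, IsIso ((derivedAdj adj).counit.app Y) from NatIso.isIso_of_isIso_app _
  intro Y
  let e := (DerivedCategory.Q (C := C₂)).objObjPreimageIso Y
  refine (NatTrans.isIso_app_iff_of_iso _ e).1 ?_
  generalize (DerivedCategory.Q (C := C₂)).objPreimage Y = K
  haveI : ∀ i, IsIso ((DerAdj.complexCounit adj K).f i) := fun i =>
    inferInstanceAs (IsIso (adj.counit.app (K.X i)))
  haveI : IsIso ((cxAdj adj).counit.app K) :=
    HomologicalComplex.Hom.isIso_of_components (DerAdj.complexCounit adj K)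
  rw [derivedAdj, Adjunction.localization_counit_app]
  infer_instance

end General

variable {A : Type u} [CommRing A]

local notation "φ_ " f:max => algebraMap A (Localization.Away f)

/-- Complete with respect to one element. -/
def IsC (f : A) (K : Dual.D A) : Prop :=
  ∀ n : ℤ, Subsingleton (Dual.inD A (Localization.Away f) ⟶ K⟦n⟧)

theorem IsC.shift {f : A} {K : Dual.D A} (h : IsC f K) (m : ℤ) : IsC f (K⟦m⟧) := fun n =>
  (((Iso.refl _).homCongr ((shiftFunctorAdd' (Dual.D A) m n (m + n) rfl).app K)).subsingleton_congr).1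
    (h (m + n))

theorem isC_iff (f : A) (K : Dual.D A) :
    IsC f K ↔ ∀ n : ℤ, Tele (smulEnd (Dual.HD A K n) f) := by
  haveI : Mono (teleP f) := (ModuleCat.mono_iff_injective _).2 (teleP_injective f)
  haveI : Epi (awayP f) := (ModuleCat.epi_iff_surjective _).2 (awayP_surjective f)
  let S := ShortComplex.mk (teleP f) (awayP f)
    (ModuleCat.hom_ext (LinearMap.ext fun p => (tele_exact f).apply_apply_eq_zero p))
  have hS : S.ShortExact :=
    { exact := (ShortComplex.ShortExact.moduleCat_exact_iff_function_exact S).2 (tele_exact f) }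
  have hproj : Module.Projective A (Polynomial A) :=
    Module.Projective.of_basis (Polynomial.basisMonomials A)
  refine (forall_shift_hom_subsingleton_iff hS.singleTriangle_distinguished K).trans
    (forall_congr' fun n => ?_)
  have h1 := homZero_bijective (P := ModuleCat.of A (Polynomial A)) hproj (K⟦n⟧)
  let e := Equiv.ofBijective _ h1
  have hsq : (fun φ => teleP f ≫ φ) ∘ e = e ∘ fun α => hS.singleTriangle.mor₁ ≫ α := by
    funext α
    exact (homZero_comp (teleP f) α).symm
  have hiff : Function.Bijective (fun α => hS.singleTriangle.mor₁ ≫ α :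
      (_ ⟶ K⟦n⟧) → (_ ⟶ K⟦n⟧)) ↔ Function.Bijective fun φ : _ ⟶ (DerivedCategory.homologyFunctor (ModuleCat.{u} A) 0).obj (K⟦n⟧) => teleP f ≫ φ := by
    exact (Function.Bijective.of_comp_iff' e.bijective _).symm.trans
      (hsq ▸ Function.Bijective.of_comp_iff _ e.bijective)
  refine hiff.trans ((bijective_teleP_iff f _).trans ?_)
  let i := (((DerivedCategory.homologyFunctor (ModuleCat.{u} A) 0).shiftIso n 0 n (by lia)).app K).toLinearEquiv
  exact ⟨fun h => tele_of_bijective h i.toAddEquiv fun x => map_smul i f x,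
    fun h => tele_of_bijective h i.symm.toAddEquiv fun x => map_smul i.symm f x⟩

theorem isC_of_span {s : Set A} (K : Dual.D A) (h : ∀ f ∈ s, IsC f K) :
    DRing.IsDerivedComplete (Ideal.span s) K :=
  (isDerivedComplete_iff _ K).2 fun _ hf n =>
    tele_of_mem_span (fun g hg => (isC_iff g K).1 (h g hg) n) hf

theorem bijective_unit_away (f : A) (M : ModuleCat.{u} (Localization.Away f)) :
    IsIso ((ModuleCat.extendRestrictScalarsAdj (φ_ f)).counit.app M) := by
  let adj := ModuleCat.extendRestrictScalarsAdj (φ_ f)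
  let N := (ModuleCat.restrictScalars.{u} (φ_ f)).obj M
  have hN : Function.Bijective fun x : N => f • x :=
    (Module.End.isUnit_iff _).1
      ((IsLocalization.Away.algebraMap_isUnit f).map (algebraMap (Localization.Away f) (Module.End (Localization.Away f) M)))
  haveI : IsIso (adj.unit.app N) := (ConcreteCategory.isIso_iff_bijective _).2 (by
    letI : Algebra A (Localization.Away f) := (φ_ f).toAlgebra
    exact Eq.mpr (congrArg Function.Bijective (funext fun x =>
      ModuleCat.extendRestrictScalarsAdj_unit_app_apply (φ_ f) N x))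
        (@bijective_tmul_one A _ f (Localization.Away f) _ (φ_ f).toAlgebra (isLocalization_toAlgebra f)
          N _ _ hN))
  have ht := adj.right_triangle_components M
  haveI : IsIso ((ModuleCat.restrictScalars.{u} (φ_ f)).map (adj.counit.app M)) :=
    @IsIso.of_isIso_fac_left _ _ _ _ _ (adj.unit.app N) _ (𝟙 _) _ inferInstance ht
  exact isIso_of_reflects_iso _ (ModuleCat.restrictScalars.{u} (φ_ f))

instance (f : A) : PreservesFiniteLimits (ModuleCat.extendScalars.{u, u, u} (φ_ f)) :=
  ModuleCat.preservesFiniteLimits_extendScalars_of_flat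
    (RingHom.flat_algebraMap_iff.2 (IsLocalization.flat _ (Submonoid.powers f)))

instance (f : A) : PreservesFiniteColimits (ModuleCat.extendScalars.{u, u, u} (φ_ f)) :=
  haveI := (ModuleCat.extendRestrictScalarsAdj (φ_ f)).leftAdjoint_preservesColimits.{0, 0}
  inferInstance

instance (f : A) : (ModuleCat.extendScalars.{u, u, u} (φ_ f)).Additive :=
  (ModuleCat.extendRestrictScalarsAdj (φ_ f)).left_adjoint_additive

/-- Extension of scalars to `A_f` on derived categories. -/
noncomputable abbrev extD (f : A) : Dual.D A ⥤ Dual.D (Localization.Away f) :=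
  (ModuleCat.extendScalars.{u, u, u} (φ_ f)).mapDerivedCategory

/-- Its adjunction with restriction. -/
noncomputable def extAdj (f : A) : extD f ⊣ DRing.restrictD (φ_ f) :=
  derivedAdj (ModuleCat.extendRestrictScalarsAdj (φ_ f))

/-- Restriction to `D(A)` is fully faithful. -/
noncomputable def restrictFF (f : A) : (DRing.restrictD (φ_ f)).FullyFaithful :=
  haveI : IsIso (ModuleCat.extendRestrictScalarsAdj (φ_ f)).counit :=
    @NatIso.isIso_of_isIso_app _ _ _ _ _ _ _ (bijective_unit_away f)
  haveI : IsIso (extAdj f).counit := isIso_counit_derivedAdj _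
  (extAdj f).fullyFaithfulROfIsIsoCounit

/-- The two iterated localisations agree. -/
noncomputable def swapIso (f g : A) :
    (ModuleCat.restrictScalars.{u} (φ_ f)).obj ((ModuleCat.extendScalars.{u, u, u} (φ_ f)).obj
        ((ModuleCat.restrictScalars.{u} (φ_ g)).obj (ModuleCat.of _ (Localization.Away g)))) ≅
      (ModuleCat.restrictScalars.{u} (φ_ g)).obj ((ModuleCat.extendScalars.{u, u, u} (φ_ g)).obj
        ((ModuleCat.restrictScalars.{u} (φ_ f)).obj (ModuleCat.of _ (Localization.Away f)))) :=
  let M := (ModuleCat.restrictScalars.{u} (φ_ f)).obj (ModuleCat.of _ (Localization.Away f))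
  let N := (ModuleCat.restrictScalars.{u} (φ_ g)).obj (ModuleCat.of _ (Localization.Away g))
  let e : TensorProduct A M N ≃ₗ[A] TensorProduct A N M := TensorProduct.comm A M N
  LinearEquiv.toModuleIso (show
      (ModuleCat.restrictScalars.{u} (φ_ f)).obj ((ModuleCat.extendScalars.{u, u, u} (φ_ f)).obj N) ≃ₗ[A]
        (ModuleCat.restrictScalars.{u} (φ_ g)).obj ((ModuleCat.extendScalars.{u, u, u} (φ_ g)).obj M) from
    { toFun := fun x => e x
      map_add' := fun x y => e.map_add x y
      map_smul' := fun a x => by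
        refine TensorProduct.induction_on (R := A) (M := M) (N := N) x ?_ (fun s t => ?_) (fun x y hx hy => ?_)
        · exact (congrArg e (smul_zero a)).trans (e.map_zero.trans ((congrArg (a • ·) e.map_zero).trans (smul_zero a)).symm)
        · exact (TensorProduct.smul_tmul (R := A) (M := N) (N := M) a t s).symm
        · exact ((congrArg e (smul_add a x y)).trans (e.map_add _ _)).trans
            ((congrArg₂ (· + ·) hx hy).trans ((smul_add a _ _).symm.trans (congrArg (a • ·) (e.map_add x y).symm)))
      invFun := fun x => e.symm x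
      left_inv := e.symm_apply_apply
      right_inv := e.apply_symm_apply })

theorem isC_restrict (f g : A) (K : Dual.D A) {R : Dual.D A ⥤ Dual.D (Localization.Away f)}
    (adj : DRing.restrictD (φ_ f) ⊣ R) (hK : IsC g K) :
    IsC g ((DRing.restrictD (φ_ f)).obj (R.obj K)) := by
  intro n
  rw [← subsingleton_shift_neg_iff]
  let Ef := (DerivedCategory.singleFunctor (ModuleCat.{u} (Localization.Away f)) 0).obj
    (ModuleCat.of _ (Localization.Away f))
  let Mg := (ModuleCat.restrictScalars.{u} (φ_ g)).obj (ModuleCat.of _ (Localization.Away g))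
  let Eg := (DerivedCategory.singleFunctor (ModuleCat.{u} (Localization.Away g)) 0).obj
    ((ModuleCat.extendScalars.{u, u, u} (φ_ g)).obj
      ((ModuleCat.restrictScalars.{u} (φ_ f)).obj (ModuleCat.of _ (Localization.Away f))))
  let X : Dual.D A := (DerivedCategory.singleFunctor (ModuleCat.{u} A) 0).obj Mg
  let e0 : X ≅ Dual.inD A (Localization.Away g) :=
    (DerivedCategory.singleFunctor (ModuleCat.{u} A) 0).mapIso (restrictScalarsSelfIso (φ_ g) rfl)
  let e1 : (DRing.restrictD (φ_ f)).obj ((extD f).obj X) ≅ (DRing.restrictD (φ_ g)).obj Eg :=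
    (DRing.restrictD (φ_ f)).mapIso
        (((ModuleCat.extendScalars.{u, u, u} (φ_ f)).mapDerivedCategorySingleFunctor 0).app Mg) ≪≫
      DRingPC.restrictSingle (φ_ f) 0 _ ≪≫
      (DerivedCategory.singleFunctor (ModuleCat.{u} A) 0).mapIso (swapIso f g) ≪≫
      (DRingPC.restrictSingle (φ_ g) 0 _).symm
  let e2 : (DRing.restrictD (φ_ f)).obj ((extD f).obj (X⟦-n⟧)) ≅
      (DRing.restrictD (φ_ g)).obj (Eg⟦-n⟧) :=
    (DRing.restrictD (φ_ f)).mapIso (((extD f).commShiftIso (-n)).app X) ≪≫
      ((DRing.restrictD (φ_ f)).commShiftIso (-n)).app _ ≪≫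
      (shiftFunctor (Dual.D A) (-n)).mapIso e1 ≪≫
      (((DRing.restrictD (φ_ g)).commShiftIso (-n)).app Eg).symm
  refine (((shiftFunctor (Dual.D A) (-n)).mapIso e0).symm.homCongr (Iso.refl _)).subsingleton_congr.2 ?_
  refine ((extAdj f).homEquiv _ _).subsingleton_congr.1 ?_
  refine (adj.homEquiv _ _).subsingleton_congr.1 ?_
  exact (e2.homCongr (Iso.refl K)).subsingleton_congr.2 ((away_iff g K).1 hK _)

/-- Completion at one element. -/
theorem exists_step (f : A) (K : Dual.D A) : ∃ (C : Dual.D A) (η : K ⟶ C), IsC f C ∧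
    (∀ g, IsC g K → IsC g C) ∧
    (∀ L, IsC f L → Function.Bijective (fun α : C ⟶ L => η ≫ α)) ∧
    ∃ (R : Dual.D A ⥤ Dual.D (Localization.Away f)) (adj : DRing.restrictD (φ_ f) ⊣ R)
      (δ : C ⟶ ((DRing.restrictD (φ_ f)).obj (R.obj K))⟦(1 : ℤ)⟧),
      Triangle.mk (adj.counit.app K) η δ ∈ distinguishedTriangles := by
  obtain ⟨R, ⟨adj⟩⟩ := exists_rightAdjoint (φ_ f)
  let r := DRing.restrictD (φ_ f)
  let Z := r.obj (R.obj K)
  let ε : Z ⟶ K := adj.counit.app K
  obtain ⟨C, η, δ, hT⟩ := distinguished_cocone_triangle ε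
  let T := Triangle.mk ε η δ
  have h12 : ε ≫ η = 0 := comp_distTriang_mor_zero₁₂ T hT
  have h31 : δ ≫ ε⟦(1 : ℤ)⟧' = 0 := comp_distTriang_mor_zero₃₁ T hT
  have hex3 : ∀ {X : Dual.D A} (d : X ⟶ C), d ≫ δ = 0 → ∃ β : X ⟶ K, d = β ≫ η :=
    fun d hd => T.coyoneda_exact₃ hT d hd
  have hsurj : ∀ E (b : r.obj E ⟶ K), ∃ a : r.obj E ⟶ Z, a ≫ ε = b := fun E b =>
    ⟨r.map (adj.homEquiv E K b),
      (Adjunction.homEquiv_counit adj (g := adj.homEquiv E K b)).symm.trans
        ((adj.homEquiv E K).symm_apply_apply b)⟩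
  have hinj : ∀ E (a : r.obj E ⟶ Z), a ≫ ε = 0 → a = 0 := fun E a ha => by
    obtain ⟨u, rfl⟩ := (restrictFF f).map_surjective a
    have : (adj.homEquiv E K).symm u = (adj.homEquiv E K).symm 0 := by
      rw [adj.homEquiv_counit, adj.homEquiv_counit, Functor.map_zero, zero_comp]
      exact ha
    rw [(adj.homEquiv E K).symm.injective this, Functor.map_zero]
  have hinj1 : ∀ E (a : r.obj E ⟶ Z⟦(1 : ℤ)⟧), a ≫ ε⟦(1 : ℤ)⟧' = 0 → a = 0 := fun E a ha => by
    let c : r.obj (E⟦(-1 : ℤ)⟧) ≅ (r.obj E)⟦(-1 : ℤ)⟧ := (r.commShiftIso (-1 : ℤ)).app E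
    let k := shiftFunctorCompIsoId (Dual.D A) (1 : ℤ) (-1) (by lia)
    have h0 := hinj _ (c.hom ≫ a⟦(-1 : ℤ)⟧' ≫ k.hom.app Z) (by
      rw [Category.assoc, Category.assoc]
      show c.hom ≫ a⟦(-1 : ℤ)⟧' ≫ k.hom.app Z ≫ (𝟭 (Dual.D A)).map ε = 0
      rw [← k.hom.naturality ε]
      simp only [Functor.comp_map]
      rw [← Category.assoc (a⟦(-1 : ℤ)⟧'), ← Functor.map_comp, ha, Functor.map_zero, zero_comp, comp_zero])
    rw [Preadditive.IsIso.comp_left_eq_zero, Preadditive.IsIso.comp_right_eq_zero] at h0
    exact (shiftFunctor (Dual.D A) (-1 : ℤ)).map_injective (h0.trans (Functor.map_zero _ _ _).symm)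
  refine ⟨C, η, ?_, fun g hg => ?_, fun L hL => ?_, R, adj, δ, hT⟩
  · show ∀ n : ℤ, _
    rw [away_iff]
    intro E
    refine ⟨fun a b => sub_eq_zero.1 ?_⟩
    generalize a - b = d
    have h1 : d ≫ δ = 0 := hinj1 E _ (by rw [Category.assoc, h31, comp_zero])
    obtain ⟨β, rfl⟩ := hex3 d h1
    obtain ⟨β', rfl⟩ := hsurj E β
    rw [Category.assoc, h12, comp_zero]
  · show ∀ n : ℤ, _
    rw [away_iff]
    intro E
    refine ⟨fun a b => sub_eq_zero.1 ?_⟩
    generalize a - b = d
    have h1 : d ≫ δ = 0 :=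
      ((away_iff g _).1 ((isC_restrict f g K adj hg).shift 1) E).elim _ _
    obtain ⟨β, rfl⟩ := hex3 d h1
    rw [((away_iff g K).1 hg E).elim β 0, zero_comp]
  · refine ⟨fun a b hab => sub_eq_zero.1 ?_, fun b => ?_⟩
    · obtain ⟨γ, hγ⟩ := T.yoneda_exact₃ hT (a - b) (by
        exact (Preadditive.comp_sub _ _ _).trans (sub_eq_zero.2 hab))
      have h := (((r.commShiftIso (1 : ℤ)).app (R.obj K)).homCongr (Iso.refl L)).subsingleton_congr.1
        ((away_iff f L).1 hL _)
      exact hγ.trans ((congrArg (T.mor₃ ≫ ·) (h.elim γ 0)).trans comp_zero)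
    · obtain ⟨a, ha⟩ := T.yoneda_exact₂ hT b (((away_iff f L).1 hL _).elim _ _)
      exact ⟨a, ha.symm⟩

theorem exists_completion (l : List A) (K : Dual.D A) : ∃ (C : Dual.D A) (η : K ⟶ C),
    (∀ f ∈ l, IsC f C) ∧
    ∀ L, (∀ f ∈ l, IsC f L) → Function.Bijective (fun α : C ⟶ L => η ≫ α) := by
  induction l with
  | nil => exact ⟨K, 𝟙 K, fun f hf => absurd hf List.not_mem_nil, fun L _ => by
      simp only [Category.id_comp]; exact Function.bijective_id⟩
  | cons f l ih =>
    obtain ⟨C, η, hC, hL⟩ := ih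
    obtain ⟨C', η', h1, h2, h3, -⟩ := exists_step f C
    refine ⟨C', η ≫ η', fun g hg => ?_, fun L h => ?_⟩
    · rcases List.mem_cons.1 hg with rfl | hg
      · exact h1
      · exact h2 g (hC g hg)
    · have := (hL L fun g hg => h g (List.mem_cons_of_mem _ hg)).comp
        (h3 L (h f List.mem_cons_self))
      simpa [Function.comp_def] using this

theorem hasDerivedCompletion_of_fg (I : Ideal A) (hI : I.FG) : DRing.HasDerivedCompletion I := by
  obtain ⟨s, hs⟩ := hI
  refine Functor.isRightAdjoint_of_leftAdjointObjIsDefined_eq_top (funext fun K => ?_)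
  simp only [Pi.top_apply, Prop.top_eq_true, eq_iff_iff, iff_true, Functor.leftAdjointObjIsDefined_iff]
  obtain ⟨C, η, hC, hL⟩ := exists_completion s.toList K
  have hCI : DRing.IsDerivedComplete I C :=
    hs ▸ isC_of_span C fun f hf => hC f (Finset.mem_toList.2 hf)
  refine (show (ObjectProperty.ι (DRing.IsDerivedComplete I) ⋙ coyoneda.obj (Opposite.op K)).CorepresentableBy
    ⟨C, hCI⟩ from ?_).isCorepresentable
  refine
    { homEquiv := fun {Y} =>
        ((ObjectProperty.fullyFaithfulι _).homEquiv).trans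
          (Equiv.ofBijective _ (hL Y.obj fun f hf => fun n =>
            Y.property f (hs ▸ Ideal.subset_span (Finset.mem_toList.1 hf)) n))
      homEquiv_comp := fun g u => ?_ }
  simp
  rfl

end Groth.Agent.DComplete
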