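import Groth.Agent.CplFlat.Noetherian
import Mathlib.RingTheory.AdicCompletion.AsTensorProduct
import Mathlib.LinearAlgebra.TensorProduct.Pi

/-!
# Tensor products of completed flat modules with finite modules are complete
-/

set_option autoImplicit false
universe u

namespace Groth.Agent.DComplete

open TensorProduct

variable {A : Type u} [CommRing A] (I : Ideal A)

theorem flat_adicCompletion [IsNoetherianRing A] (N : Type u) [AddCommGroup N] [Module A N]
    [Module.Flat A N] : Module.Flat A (AdicCompletion I N) := by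
  have hI : I.FG := IsNoetherian.noetherian I
  haveI : IsNoetherianRing (A ⧸ I) :=
    isNoetherianRing_of_surjective _ _ (Ideal.Quotient.mk I) Ideal.Quotient.mk_surjective
  haveI := CplFlat.isNoetherianRing_completion_of_fg I hI
  haveI := CplFlat.flat_completion I N hI CplFlat.levelFlat_of_flat
  haveI := AdicCompletion.flat_of_isNoetherian I
  exact Module.Flat.trans A (AdicCompletion I A) (AdicCompletion I N)

/-- Finitely presented images of a complete flat module are separated. -/
theorem closed_range [IsNoetherianRing A] {P : Type u} [AddCommGroup P] [Module A P] [Module.Flat A P]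
    [IsAdicComplete I P] {e m : ℕ} (L : Fin e → Fin m → A) (x : Fin m → P)
    (h : ∀ n, ∃ y : Fin e → P, ∀ j, x j - ∑ t, L t j • y t ∈ (I ^ n • ⊤ : Submodule A P)) :
    ∃ y : Fin e → P, ∀ j, x j = ∑ t, L t j • y t := by
  obtain ⟨c₂, e₂, L₂, hL₂, hL₂'⟩ :=
    (CplFlat.levelFlat_of_flat (K := I) (P := P)).exists_shift (fun j t => L t j)
  choose y hy using h
  have hv : ∀ n, ∃ v : Fin e → P, (∀ j, ∑ t, L t j • v t = 0) ∧
      ∀ t, y (n + 1 + c₂) t - y (n + c₂) t - v t ∈ (I ^ n • ⊤ : Submodule A P) := by
    intro n
    obtain ⟨z, hz⟩ := hL₂' n (fun t => y (n + 1 + c₂) t - y (n + c₂) t) fun j => by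
      have h1 := hy (n + c₂) j
      have h2 : x j - ∑ t, L t j • y (n + 1 + c₂) t ∈ (I ^ (n + c₂) • ⊤ : Submodule A P) :=
        Submodule.smul_mono_left (Ideal.pow_le_pow_right (by omega)) (hy (n + 1 + c₂) j)
      convert sub_mem h1 h2 using 1
      simp only [smul_sub, Finset.sum_sub_distrib]
      abel
    refine ⟨fun t => ∑ s, L₂ s t • z s, fun j => ?_, hz⟩
    simp only [Finset.smul_sum, smul_smul]
    rw [Finset.sum_comm, Finset.sum_eq_zero]
    intro s _
    rw [← Finset.sum_smul, hL₂ s j, zero_smul]
  choose v hv0 hv using hv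
  let Y : ℕ → Fin e → P := fun n t => y (n + c₂) t - ∑ s ∈ Finset.range n, v s t
  have hYstep : ∀ n t, Y (n + 1) t - Y n t ∈ (I ^ n • ⊤ : Submodule A P) := by
    intro n t
    convert hv n t using 1
    simp only [Y, Finset.sum_range_succ, show n + 1 + c₂ = n + c₂ + 1 by omega]
    abel
  have hYx : ∀ n j, x j - ∑ t, L t j • Y n t ∈ (I ^ n • ⊤ : Submodule A P) := by
    intro n j
    have : ∑ t, L t j • Y n t = ∑ t, L t j • y (n + c₂) t := by
      simp only [Y, smul_sub, Finset.sum_sub_distrib, Finset.smul_sum]
      rw [Finset.sum_comm, Finset.sum_eq_zero (fun s _ => hv0 s j), sub_zero]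
    rw [this]
    exact Submodule.smul_mono_left (Ideal.pow_le_pow_right (Nat.le_add_right n c₂)) (hy (n + c₂) j)
  have hmn : ∀ {a b : ℕ}, a ≤ b → ∀ t, Y b t - Y a t ∈ (I ^ a • ⊤ : Submodule A P) := by
    intro a b hab t
    induction hab with
    | refl => simp
    | step h ih =>
      rename_i k
      rw [← sub_add_sub_cancel (Y (k + 1) t) (Y k t) (Y a t)]
      exact add_mem (Submodule.smul_mono_left (Ideal.pow_le_pow_right h) (hYstep k t)) ih
  choose Z hZ using fun t => IsPrecomplete.prec (IsAdicComplete.toIsPrecomplete (I := I) (M := P))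
    (f := fun n => Y n t) fun {a b} hle => by
      rw [SModEq.sub_mem, ← Submodule.neg_mem_iff, neg_sub]
      exact hmn hle t
  refine ⟨Z, fun j => sub_eq_zero.1 (IsHausdorff.haus (IsAdicComplete.toIsHausdorff (I := I) (M := P)) _
    fun n => ?_)⟩
  rw [SModEq.zero]
  have h1 : ∀ t, Y n t - Z t ∈ (I ^ n • ⊤ : Submodule A P) := fun t => SModEq.sub_mem.1 (hZ t n)
  convert add_mem (hYx n j) (Submodule.sum_mem _ fun t (_ : t ∈ Finset.univ) =>
    Submodule.smul_mem _ (L t j) (h1 t)) using 1
  simp only [smul_sub, Finset.sum_sub_distrib]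
  abel

theorem isAdicComplete_tensor [IsNoetherianRing A] (P M : Type u) [AddCommGroup P] [Module A P]
    [Module.Flat A P] [IsAdicComplete I P] [AddCommGroup M] [Module A M] [Module.Finite A M] :
    IsAdicComplete I (P ⊗[A] M) := by
  classical
  obtain ⟨m, p, hp⟩ := Module.Finite.exists_fin' A M
  obtain ⟨e, L, hL⟩ := Submodule.fg_iff_exists_fin_generating_family.1
    (IsNoetherian.noetherian (LinearMap.ker p))
  let E : P ⊗[A] (Fin m → A) ≃ₗ[A] (Fin m → P) := TensorProduct.piScalarRight A A P (Fin m)
  let q : (Fin m → P) →ₗ[A] P ⊗[A] M := (p.lTensor P).comp E.symm.toLinearMap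
  have hq : Function.Surjective q := (LinearMap.lTensor_surjective P hp).comp E.symm.surjective
  have hE : ∀ (z : P) (a : Fin m → A) j, E (z ⊗ₜ a) j = a j • z := fun z a j => by
    simp [E]
  have hker : ∀ w : Fin m → P, q w = 0 ↔ ∃ y : Fin e → P, ∀ j, w j = ∑ t, L t j • y t := by
    intro w
    constructor
    · intro hw
      obtain ⟨s, hs⟩ := (lTensor_exact P (LinearMap.exact_subtype_ker_map p) hp (E.symm w)).1 hw
      have : ∀ s : P ⊗[A] LinearMap.ker p, ∃ y : Fin e → P, ∀ j,
          E ((LinearMap.ker p).subtype.lTensor P s) j = ∑ t, L t j • y t := by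
        intro s
        induction s using TensorProduct.induction_on with
        | zero => exact ⟨0, fun j => by simp⟩
        | add a b ha hb =>
          obtain ⟨y, hy⟩ := ha; obtain ⟨y', hy'⟩ := hb
          exact ⟨y + y', fun j => by simp [map_add, hy, hy', Finset.sum_add_distrib]⟩
        | tmul z k =>
          obtain ⟨a, ha⟩ := (Submodule.mem_span_range_iff_exists_fun A).1
            (show (k : Fin m → A) ∈ Submodule.span A (Set.range L) by rw [hL]; exact k.2)
          refine ⟨fun t => a t • z, fun j => ?_⟩
          rw [LinearMap.lTensor_tmul, hE]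
          show (k : Fin m → A) j • z = _
          rw [← ha, Finset.sum_apply, Finset.sum_smul]
          exact Finset.sum_congr rfl fun t _ => by rw [Pi.smul_apply, smul_eq_mul, mul_comm, mul_smul]
      obtain ⟨y, hy⟩ := this s
      exact ⟨y, fun j => by rw [← hy, hs, E.apply_symm_apply]⟩
    · rintro ⟨y, hy⟩
      have : w = E (∑ t, y t ⊗ₜ L t) := funext fun j => by
        rw [map_sum, Finset.sum_apply, hy]
        exact Finset.sum_congr rfl fun t _ => (hE _ _ _).symm
      show p.lTensor P (E.symm w) = 0
      rw [this, E.symm_apply_apply, map_sum]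
      refine Finset.sum_eq_zero fun t _ => ?_
      rw [LinearMap.lTensor_tmul, LinearMap.mem_ker.1 (hL ▸ Submodule.subset_span ⟨t, rfl⟩ : L t ∈ LinearMap.ker p),
        TensorProduct.tmul_zero]
  haveI : IsHausdorff I (P ⊗[A] M) := ⟨fun z hz => by
    obtain ⟨x, rfl⟩ := hq z
    refine (hker x).2 (closed_range I L x fun n => ?_)
    have hn : q x ∈ (I ^ n • ⊤ : Submodule A (Fin m → P)).map q := by
      rw [Submodule.map_smul'', Submodule.map_top, LinearMap.range_eq_top.2 hq]
      exact SModEq.zero.1 (hz n)
    obtain ⟨b, hb, hbe⟩ := hn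
    obtain ⟨y, hy⟩ := (hker (x - b)).1 (by rw [map_sub, hbe, sub_self])
    refine ⟨y, fun j => ?_⟩
    rw [← hy j, Pi.sub_apply, sub_sub_cancel]
    have : b j ∈ (I ^ n • ⊤ : Submodule A (Fin m → P)).map (LinearMap.proj j) := ⟨b, hb, rfl⟩
    rw [Submodule.map_smul''] at this
    exact Submodule.smul_mono le_rfl le_top this⟩
  haveI : IsPrecomplete I (P ⊗[A] M) := by
    rw [← AdicCompletion.of_surjective_iff]
    intro z
    obtain ⟨w, hw⟩ := AdicCompletion.map_surjective I hq z
    have hpi : Function.Surjective (AdicCompletion.of I (Fin m → P)) := fun u => by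
      refine ⟨fun j => (AdicCompletion.ofLinearEquiv I P).symm (AdicCompletion.map I (LinearMap.proj j) u), ?_⟩
      apply (AdicCompletion.piEquivOfFintype I (fun _ : Fin m => P)).injective
      funext j
      simp [AdicCompletion.piEquivOfFintype_apply, AdicCompletion.pi, AdicCompletion.map_of]
    obtain ⟨v, rfl⟩ := hpi w
    exact ⟨q v, by rw [← hw, AdicCompletion.map_of]⟩
  exact { }

/-- A map to a complete module inducing bijections modulo all powers computes the completion. -/
theorem exists_equiv_completion {G Z : Type u} [AddCommGroup G] [Module A G] [AddCommGroup Z] [Module A Z]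
    [IsAdicComplete I Z] (f : G →ₗ[A] Z)
    (hs : ∀ (n : ℕ) (z : Z), ∃ g, z - f g ∈ (I ^ n • ⊤ : Submodule A Z))
    (hi : ∀ (n : ℕ) (g : G), f g ∈ (I ^ n • ⊤ : Submodule A Z) → g ∈ (I ^ n • ⊤ : Submodule A G)) :
    ∃ e : Z ≃ₗ[A] AdicCompletion I G, ∀ g, e (f g) = AdicCompletion.of I G g := by
  let F := (AdicCompletion.map I f).restrictScalars A
  have hF : ∀ (n : ℕ) (x : AdicCompletion I G) (g : G), AdicCompletion.eval I G n x = Submodule.Quotient.mk g →
      AdicCompletion.eval I Z n (F x) = Submodule.Quotient.mk (f g) := fun n x g h => by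
    show LinearMap.reduceModIdeal (I ^ n) f (AdicCompletion.eval I G n x) = _
    rw [h, LinearMap.reduceModIdeal_apply]
  have hbij : Function.Bijective F := by
    refine ⟨(injective_iff_map_eq_zero F).2 fun x hx => AdicCompletion.ext fun n => ?_, fun z => ?_⟩
    · obtain ⟨g, hg⟩ := Submodule.Quotient.mk_surjective _ (AdicCompletion.eval I G n x)
      have := hF n x g hg.symm
      rw [hx, map_zero, eq_comm, Submodule.Quotient.mk_eq_zero] at this
      show AdicCompletion.eval I G n x = AdicCompletion.eval I G n 0
      rw [map_zero, ← hg, Submodule.Quotient.mk_eq_zero]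
      exact hi n g this
    · choose z' hz' using fun n => Submodule.Quotient.mk_surjective _ (AdicCompletion.eval I Z n z)
      choose g hg using fun n => hs n (z' n)
      let x : AdicCompletion I G := ⟨fun n => Submodule.Quotient.mk (g n), fun {a b} hab => by
        show Submodule.Quotient.mk (g b) = Submodule.Quotient.mk (g a)
        refine (Submodule.Quotient.eq _).2 (hi a _ ?_)
        have h1 : z' b - z' a ∈ (I ^ a • ⊤ : Submodule A Z) := by
          refine (Submodule.Quotient.eq _).1 ?_
          exact (congrArg (AdicCompletion.transitionMap I Z hab) (hz' b)).trans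
            ((AdicCompletion.transitionMap_comp_eval_apply I Z hab z).trans (hz' a).symm)
        have h2 := Submodule.smul_mono_left (Ideal.pow_le_pow_right hab) (hg b)
        convert add_mem (sub_mem h1 h2) (hg a) using 1
        rw [map_sub]
        abel⟩
      refine ⟨x, AdicCompletion.ext fun n => ?_⟩
      show AdicCompletion.eval I Z n (F x) = AdicCompletion.eval I Z n z
      rw [hF n x (g n) rfl, ← hz' n, eq_comm, Submodule.Quotient.eq]
      exact hg n
  refine ⟨(AdicCompletion.ofLinearEquiv I Z).trans (LinearEquiv.ofBijective F hbij).symm, fun g => ?_⟩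
  rw [LinearEquiv.trans_apply, LinearEquiv.symm_apply_eq]
  exact (AdicCompletion.map_of I f g).symm

theorem exists_equiv_tensor_completion [IsNoetherianRing A] (M N : Type u) [AddCommGroup M] [Module A M]
    [Module.Finite A M] [AddCommGroup N] [Module A N] [Module.Flat A N] :
    IsAdicComplete I (AdicCompletion I N ⊗[A] M) ∧
      ∃ e : AdicCompletion I N ⊗[A] M ≃ₗ[A] AdicCompletion I (M ⊗[A] N),
        ∀ x : M ⊗[A] N, e ((AdicCompletion.of I N).rTensor M (TensorProduct.comm A M N x)) =
          AdicCompletion.of I (M ⊗[A] N) x := by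
  have hI : I.FG := IsNoetherian.noetherian I
  haveI := flat_adicCompletion I N
  haveI := AdicCompletion.isAdicComplete (I := I) (M := N) hI
  haveI hZ := isAdicComplete_tensor I (AdicCompletion I N) M
  refine ⟨hZ, ?_⟩
  refine exists_equiv_completion I (((AdicCompletion.of I N).rTensor M).comp (TensorProduct.comm A M N).toLinearMap)
    (fun n z => ?_) (fun n g hg => ?_)
  · induction z using TensorProduct.induction_on with
    | zero => exact ⟨0, by simp⟩
    | add a b ha hb =>
      obtain ⟨a', ha⟩ := ha; obtain ⟨b', hb⟩ := hb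
      refine ⟨a' + b', ?_⟩
      rw [map_add, add_sub_add_comm]
      exact add_mem ha hb
    | tmul w y =>
      obtain ⟨k, hk⟩ := Submodule.Quotient.mk_surjective _ (AdicCompletion.eval I N n w)
      refine ⟨y ⊗ₜ k, ?_⟩
      have hw : w - AdicCompletion.of I N k ∈ (I ^ n • ⊤ : Submodule A (AdicCompletion I N)) := by
        rw [AdicCompletion.pow_smul_top_eq_ker_eval hI, LinearMap.mem_ker, map_sub, sub_eq_zero, ← hk]
        rfl
      show w ⊗ₜ[A] y - AdicCompletion.of I N k ⊗ₜ[A] y ∈ _
      rw [← TensorProduct.sub_tmul]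
      have : (w - AdicCompletion.of I N k) ⊗ₜ[A] y ∈
          (I ^ n • ⊤ : Submodule A (AdicCompletion I N)).map ((TensorProduct.mk A _ M).flip y) := ⟨_, hw, rfl⟩
      rw [Submodule.map_smul''] at this
      exact Submodule.smul_mono le_rfl le_top this
  · let ev := (AdicCompletion.eval I N n).rTensor M
    have h1 : ev ((AdicCompletion.of I N).rTensor M (TensorProduct.comm A M N g)) =
        ((I ^ n • ⊤ : Submodule A N).mkQ).rTensor M (TensorProduct.comm A M N g) := by
      rw [← LinearMap.rTensor_comp_apply]
      rfl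
    have h2 : ev ((AdicCompletion.of I N).rTensor M (TensorProduct.comm A M N g)) = 0 := by
      have := Submodule.mem_map_of_mem (f := ev) hg
      rw [Submodule.map_smul''] at this
      refine Submodule.smul_induction_on this (fun a ha x hx => ?_) fun a b ha hb => by rw [ha, hb, add_zero]
      clear hx
      induction x using TensorProduct.induction_on with
      | zero => exact smul_zero a
      | add x y hx hy => rw [smul_add, hx, hy, add_zero]
      | tmul w y =>
        obtain ⟨k, rfl⟩ := Submodule.Quotient.mk_surjective _ w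
        rw [TensorProduct.smul_tmul', ← Submodule.Quotient.mk_smul,
          (Submodule.Quotient.mk_eq_zero _).2 (Submodule.smul_mem_smul ha Submodule.mem_top), TensorProduct.zero_tmul]
    obtain ⟨s, hs⟩ := (rTensor_exact M (LinearMap.exact_subtype_mkQ (I ^ n • ⊤ : Submodule A N))
      (Submodule.mkQ_surjective _) (TensorProduct.comm A M N g)).1 (h1.symm.trans h2)
    have : (TensorProduct.comm A M N).symm ((I ^ n • ⊤ : Submodule A N).subtype.rTensor M s) ∈
        (I ^ n • ⊤ : Submodule A (M ⊗[A] N)) := by
      clear hs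
      induction s using TensorProduct.induction_on with
      | zero => simp
      | add a b ha hb => rw [map_add, map_add]; exact add_mem ha hb
      | tmul w y =>
        rw [LinearMap.rTensor_tmul, TensorProduct.comm_symm_tmul]
        have : y ⊗ₜ[A] (w : N) ∈ (I ^ n • ⊤ : Submodule A N).map (TensorProduct.mk A M N y) := ⟨_, w.2, rfl⟩
        rw [Submodule.map_smul''] at this
        exact Submodule.smul_mono le_rfl le_top this
    rwa [hs, LinearEquiv.symm_apply_apply] at this

end Groth.Agent.DComplete
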