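import Groth.Agent.DComplete.Noetherian
import Groth.Agent.DComplete.TensorComplete

/-!
# Derived completion of the tensor product of a finite and a flat module
-/

set_option autoImplicit false
set_option linter.style.haveILetI false
universe u

open CategoryTheory CategoryTheory.Limits CategoryTheory.Pretriangulated
open CategoryTheory.MonoidalCategory
open Groth.Agent.PCohLib Groth.Agent.DRingPC
open CochainComplex (mappingCone)
open scoped TensorProduct

attribute [local instance] HasDerivedCategory.standard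

namespace Groth.Agent.DComplete

variable {A : Type u} [CommRing A] (I : Ideal A)

local notation "DH" => DerivedCategory.homologyFunctor (ModuleCat A)

theorem bijective_lTensor_of_killed [IsNoetherianRing A] (X N : Type u) [AddCommGroup X] [Module A X]
    [AddCommGroup N] [Module A N] (hX : ∀ f ∈ I, ∀ x : X, f • x = 0) :
    Function.Bijective ((AdicCompletion.of I N).lTensor X) := by
  have hI : I.FG := IsNoetherian.noetherian I
  refine ⟨(injective_iff_map_eq_zero _).2 fun t ht => ?_, fun t => ?_⟩
  · let ev := (AdicCompletion.eval I N 1).lTensor X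
    have h1 : ev ((AdicCompletion.of I N).lTensor X t) = ((I ^ 1 • ⊤ : Submodule A N).mkQ).lTensor X t := by
      rw [← LinearMap.lTensor_comp_apply]
      rfl
    rw [ht, map_zero] at h1
    obtain ⟨s, hs⟩ := (lTensor_exact X (LinearMap.exact_subtype_mkQ (I ^ 1 • ⊤ : Submodule A N))
      (Submodule.mkQ_surjective _) t).1 h1.symm
    rw [← hs]
    clear hs
    induction s using TensorProduct.induction_on with
    | zero => exact map_zero _
    | add a b ha hb => rw [map_add, ha, hb, add_zero]
    | tmul x w =>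
      rw [LinearMap.lTensor_tmul]
      show x ⊗ₜ[A] (w : N) = 0
      refine Submodule.smul_induction_on (p := fun z : N => x ⊗ₜ[A] z = 0) w.2 (fun a ha y _ => ?_) fun a b ha hb => by
        rw [TensorProduct.tmul_add, ha, hb, add_zero]
      rw [← TensorProduct.smul_tmul, hX a (by simpa using ha) x, TensorProduct.zero_tmul]
  · induction t using TensorProduct.induction_on with
    | zero => exact ⟨0, map_zero _⟩
    | add a b ha hb =>
      obtain ⟨a, rfl⟩ := ha; obtain ⟨b, rfl⟩ := hb
      exact ⟨a + b, map_add _ _ _⟩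
    | tmul x z =>
      obtain ⟨k, hk⟩ := Submodule.Quotient.mk_surjective _ (AdicCompletion.eval I N 1 z)
      refine ⟨x ⊗ₜ k, ?_⟩
      have hz : z - AdicCompletion.of I N k ∈ (I ^ 1 • ⊤ : Submodule A (AdicCompletion I N)) := by
        rw [AdicCompletion.pow_smul_top_eq_ker_eval hI, LinearMap.mem_ker, map_sub, sub_eq_zero, ← hk]
        rfl
      rw [LinearMap.lTensor_tmul, eq_comm, ← sub_eq_zero, ← TensorProduct.tmul_sub]
      refine Submodule.smul_induction_on hz (fun a ha y _ => ?_) fun a b ha hb => by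
        rw [TensorProduct.tmul_add, ha, hb, add_zero]
      rw [← TensorProduct.smul_tmul, hX a (by simpa using ha) x, TensorProduct.zero_tmul]

theorem bijective_of_arrow_iso {C : Type*} [Category C] {X Y X' Y' E : C} (g : X ⟶ Y) (g' : X' ⟶ Y')
    (a : X ≅ X') (b : Y ≅ Y') (h : a.hom ≫ g' = g ≫ b.hom)
    (hg : Function.Bijective fun α : Y ⟶ E => g ≫ α) : Function.Bijective fun α : Y' ⟶ E => g' ≫ α := by
  refine ⟨fun x y hxy => (cancel_epi b.hom).1 (hg.1 ?_), fun x => ?_⟩
  · simp only at hxy ⊢
    rw [← Category.assoc, ← h, Category.assoc, hxy, ← Category.assoc, h, Category.assoc]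
  · obtain ⟨y, hy⟩ := hg.2 (a.hom ≫ x)
    refine ⟨b.inv ≫ y, (cancel_epi a.hom).1 ?_⟩
    simp only at hy ⊢
    rw [← Category.assoc, h, Category.assoc, b.hom_inv_id_assoc, hy]

theorem compat_single {N N' : ModuleCat.{u} A} (g : N ⟶ N') (M : ModuleCat.{u} A) :
    ((HomologicalComplex.singleMapHomologicalComplex (tensorLeft N) (ComplexShape.up ℤ) 0).app M).hom ≫
        (HomologicalComplex.single _ (ComplexShape.up ℤ) 0).map (g ▷ M) =
      tcxMap g ((HomologicalComplex.single _ (ComplexShape.up ℤ) 0).obj M) ≫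
        ((HomologicalComplex.singleMapHomologicalComplex (tensorLeft N') (ComplexShape.up ℤ) 0).app M).hom := by
  refine HomologicalComplex.to_single_hom_ext ?_
  simp [tcxMap, HomologicalComplex.single_map_f_self]
  erw [Category.assoc, Iso.inv_hom_id_assoc, whisker_exchange_assoc]
  rfl

theorem flat_tensor (X Y : Type u) [AddCommGroup X] [Module A X] [AddCommGroup Y] [Module A Y]
    [Module.Flat A X] [Module.Flat A Y] : Module.Flat A (X ⊗[A] Y) := inferInstance

theorem completion_tensor_flat [IsNoetherianRing A] [DRing.HasDerivedCompletion I]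
    (M N : Type u) [AddCommGroup M] [Module A M] [Module.Finite A M] [AddCommGroup N] [Module A N] [Module.Flat A N] :
    (∀ i : ℤ, i ≠ 0 → Subsingleton (Dual.HD A ((DRing.derivedCompletion I).obj (Dual.inD A (M ⊗[A] N))).obj i)) ∧
      ∃ e : Dual.HD A ((DRing.derivedCompletion I).obj (Dual.inD A (M ⊗[A] N))).obj 0 ≃ₗ[A]
          AdicCompletion I (M ⊗[A] N),
        ∀ x : M ⊗[A] N,
          e ((((DerivedCategory.singleFunctorCompHomologyFunctorIso (ModuleCat.{u} A) 0).inv.app
                (ModuleCat.of A (M ⊗[A] N))) ≫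
              (DerivedCategory.homologyFunctor (ModuleCat.{u} A) 0).map
                (DRing.toDerivedCompletion I (Dual.inD A (M ⊗[A] N)))).hom x) =
            AdicCompletion.of I (M ⊗[A] N) x := by
  haveI := flat_adicCompletion I N
  obtain ⟨hZ, eZ, heZ⟩ := exists_equiv_tensor_completion I M N
  let Nm := ModuleCat.of A N
  let Nc := ModuleCat.of A (AdicCompletion I N)
  let Mm := ModuleCat.of A M
  let ι : Nm ⟶ Nc := ModuleCat.ofHom (AdicCompletion.of I N)
  let sg := HomologicalComplex.single (ModuleCat.{u} A) (ComplexShape.up ℤ) 0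
  obtain ⟨P, q, -, hfl, hq, -⟩ := KFlat.exists_surjective_resolution A (sg.obj Mm)
  let u := tcxMap ι P
  have hfl1 : ∀ j, Module.Flat A (((tcx Nm).obj P).X j) := fun j =>
    haveI := hfl j
    flat_tensor N (P.X j)
  have hfl2 : ∀ j, Module.Flat A (((tcx Nc).obj P).X j) := fun j =>
    haveI := hfl j
    flat_tensor (AdicCompletion I N) (P.X j)
  have hflC : ∀ j, Module.Flat A ((mappingCone u).X j) := fun j => by
    haveI := hfl1 (j + 1); haveI := hfl2 j
    haveI : Module.Flat A ((((tcx Nm).obj P).X (j + 1) : ModuleCat.{u} A) × (((tcx Nc).obj P).X j : ModuleCat.{u} A)) := flat_prod _ _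
    exact Module.Flat.of_linearEquiv
      (N := (mappingCone u).X j) (M := (((tcx Nm).obj P).X (j + 1) : ModuleCat.{u} A) × (((tcx Nc).obj P).X j : ModuleCat.{u} A))
      ((HomologicalComplex.homotopyCofiber.XIsoBiprod u j (j + 1) rfl ≪≫
        ModuleCat.biprodIsoProd _ _).toLinearEquiv)
  obtain ⟨l, hl⟩ := exists_list_of_fg (IsNoetherian.noetherian I)
  have horth : ∀ E, DRing.IsDerivedComplete I E → ∀ x : DRing.toD (mappingCone u) ⟶ E, x = 0 := fun E hE =>
    orth l _ hflC (fun X hX i => by
      refine HomologicalComplex.ExactAt.of_iso ?_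
        (CochainComplex.mappingCone.mapHomologicalComplexIso u (tensorLeft X)).symm
      have hX' : ∀ f ∈ I, ∀ x : X, f • x = 0 := by
        intro f hf x
        refine Submodule.mem_annihilator.1 ((?_ : I ≤ (⊤ : Submodule A X).annihilator) hf) x trivial
        rw [← hl, Ideal.span_le]
        exact fun g hg => Submodule.mem_annihilator.2 fun y _ => hX g hg y
      haveI : IsIso ((tcx X).map u) := by
        haveI : ∀ j, IsIso (((tcx X).map u).f j) := fun j => (ConcreteCategory.isIso_iff_bijective _).2 (by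
          let k := LinearEquiv.ofBijective _ (bijective_lTensor_of_killed I X N hX')
          let Φ : X ⊗[A] (N ⊗[A] (P.X j)) ≃ₗ[A] X ⊗[A] (AdicCompletion I N ⊗[A] (P.X j)) :=
            ((TensorProduct.assoc A X N (P.X j)).symm.trans (k.rTensor (P.X j))).trans
              (TensorProduct.assoc A X (AdicCompletion I N) (P.X j))
          have : ∀ t : X ⊗[A] (N ⊗[A] (P.X j)), ((tensorLeft X).map (u.f j)).hom t = Φ t := fun t => by
            induction t using TensorProduct.induction_on with
            | zero => exact (map_zero _).trans (map_zero _).symm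
            | tmul a b =>
              induction b using TensorProduct.induction_on with
              | zero =>
                rw [TensorProduct.tmul_zero]
                exact (map_zero _).trans (map_zero _).symm
              | tmul n p => rfl
              | add b b' hb hb' =>
                rw [TensorProduct.tmul_add]
                exact (map_add _ _ _).trans ((congrArg₂ (· + ·) hb hb').trans (map_add _ _ _).symm)
            | add a b ha hb => exact (map_add _ _ _).trans ((congrArg₂ (· + ·) ha hb).trans (map_add _ _ _).symm)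
          exact (funext this : _ = ⇑Φ) ▸ Φ.bijective)
        exact HomologicalComplex.Hom.isIso_of_components _
      exact exactAt_cone _ i inferInstance inferInstance) E
      fun f hf => isC_of_mem hE (hl ▸ Ideal.subset_span hf)
  obtain ⟨a, b, hT⟩ := Q_triangle u
  have huniv : ∀ E, DRing.IsDerivedComplete I E →
      Function.Bijective fun α : DRing.toD ((tcx Nc).obj P) ⟶ E => DerivedCategory.Q.map u ≫ α := fun E hE => by
    have h := (forall_shift_hom_subsingleton_iff hT E).1
      (fun m => subsingleton_of_forall_eq 0 (horth _ fun f hf => (isC_of_mem hE hf).shift m)) 0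
    let z : E⟦(0 : ℤ)⟧ ≅ E := (shiftFunctorZero (Dual.D A) ℤ).app E
    refine ⟨fun x y hxy => ?_, fun x => ?_⟩
    · have : x ≫ z.inv = y ≫ z.inv := h.1
        ((Category.assoc _ _ _).symm.trans ((congrArg (· ≫ z.inv) hxy).trans (Category.assoc _ _ _)))
      exact (cancel_mono z.inv).1 this
    · obtain ⟨y, hy⟩ := h.2 (x ≫ z.inv)
      exact ⟨y ≫ z.hom, (Category.assoc _ _ _).symm.trans ((congrArg (· ≫ z.hom) hy).trans (by simp))⟩
  have hqi : ∀ (X : ModuleCat.{u} A), Module.Flat A X → IsIso (DerivedCategory.Q.map ((tcx X).map q)) := fun X hX => by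
    haveI := hq
    haveI : Module.Flat A X := hX
    haveI : PreservesFiniteLimits (tensorLeft X) := inferInstance
    exact KFlat.isIso_Q_map _ inferInstance
  haveI := hqi Nm ‹Module.Flat A N›
  haveI := hqi Nc ‹_›
  let eN := HomologicalComplex.singleMapHomologicalComplex (tensorLeft Nm) (ComplexShape.up ℤ) 0
  let eC := HomologicalComplex.singleMapHomologicalComplex (tensorLeft Nc) (ComplexShape.up ℤ) 0
  let aN : DRing.toD ((tcx Nm).obj P) ≅ DRing.toD (sg.obj (Nm ⊗ Mm)) :=
    asIso (DerivedCategory.Q.map ((tcx Nm).map q)) ≪≫ DerivedCategory.Q.mapIso (eN.app Mm)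
  let aC : DRing.toD ((tcx Nc).obj P) ≅ DRing.toD (sg.obj (Nc ⊗ Mm)) :=
    asIso (DerivedCategory.Q.map ((tcx Nc).map q)) ≪≫ DerivedCategory.Q.mapIso (eC.app Mm)
  have hsq : aN.hom ≫ DerivedCategory.Q.map (sg.map (ι ▷ Mm)) = DerivedCategory.Q.map u ≫ aC.hom := by
    simp only [aN, aC, Iso.trans_hom, asIso_hom, Functor.mapIso_hom, ← Functor.map_comp, Category.assoc]
    congr 1
    have hnat : u ≫ (tcx Nc).map q = (tcx Nm).map q ≫ tcxMap ι (sg.obj Mm) :=
      HomologicalComplex.hom_ext _ _ fun j => (whisker_exchange ι (q.f j)).symm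
    rw [reassoc_of% hnat, ← compat_single ι Mm]
  let c : ModuleCat.of A (M ⊗[A] N) ≅ Nm ⊗ Mm := (TensorProduct.comm A M N).toModuleIso
  let f0 : ModuleCat.of A (M ⊗[A] N) ⟶ Nc ⊗ Mm := c.hom ≫ (ι ▷ Mm)
  let S := DerivedCategory.singleFunctor (ModuleCat.{u} A) 0
  let η : Dual.inD A (M ⊗[A] N) ⟶ S.obj (Nc ⊗ Mm) := S.map f0
  have huniv' : ∀ E, DRing.IsDerivedComplete I E → Function.Bijective fun α : S.obj (Nc ⊗ Mm) ⟶ E => η ≫ α :=
    fun E hE => by
      have h1 : Function.Bijective fun α : S.obj (Nc ⊗ Mm) ⟶ E => S.map (ι ▷ Mm) ≫ α :=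
        bijective_of_arrow_iso (DerivedCategory.Q.map u) (S.map (ι ▷ Mm)) aN aC hsq (huniv E hE)
      refine bijective_of_arrow_iso (S.map (ι ▷ Mm)) η (S.mapIso c).symm (Iso.refl _) ?_ h1
      simp [η, f0]
  have hCc : DRing.IsDerivedComplete I (S.obj (Nc ⊗ Mm)) := by
    show DRing.IsDerivedComplete I (Dual.inD A (AdicCompletion I N ⊗[A] M))
    rw [isDerivedComplete_inD_iff]
    exact fun f hf => tele_of_isAdicComplete I hf
  let K := Dual.inD A (M ⊗[A] N)
  let K' := (DRing.derivedCompletion I).obj K
  obtain ⟨w, hw⟩ := (unit_bijective K hCc).2 η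
  obtain ⟨v, hv⟩ := (huniv' _ K'.property).2 (DRing.toDerivedCompletion I K)
  simp only at hw hv
  let E : K'.obj ≅ S.obj (Nc ⊗ Mm) :=
    ⟨w, v, (unit_bijective K K'.property).1 (by
      simp only [reassoc_of% hw, hv]; exact (Category.comp_id _).symm),
      (huniv' _ hCc).1 (by simp only [reassoc_of% hv, hw]; exact (Category.comp_id _).symm)⟩
  refine ⟨fun i hi => ?_, ?_⟩
  · refine ModuleCat.subsingleton_of_isZero (IsZero.of_iso ?_ ((DH i).mapIso E))
    rcases lt_or_gt_of_ne hi with h | h
    · exact DerivedCategory.isZero_of_isGE _ 0 i h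
    · exact DerivedCategory.isZero_of_isLE _ 0 i h
  let σ := DerivedCategory.singleFunctorCompHomologyFunctorIso (ModuleCat.{u} A) 0
  let ω : (DH 0).obj K'.obj ≅ Nc ⊗ Mm := (DH 0).mapIso E ≪≫ σ.app _
  refine ⟨ω.toLinearEquiv.trans eZ, fun x => ?_⟩
  have key : (σ.inv.app (ModuleCat.of A (M ⊗[A] N)) ≫ (DH 0).map (DRing.toDerivedCompletion I K)) ≫ ω.hom = f0 := by
    simp only [ω, Iso.trans_hom, Functor.mapIso_hom, Category.assoc]
    rw [← Functor.map_comp_assoc, hw]
    exact NatIso.naturality_1 σ f0
  exact (congrArg eZ (congrArg (fun t => t.hom x) key)).trans (heZ x)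

end Groth.Agent.DComplete
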