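import Groth.Agent.DComplete.Adic
import Mathlib.RingTheory.Henselian
import Mathlib.Algebra.Polynomial.Identities

/-!
Derived complete rings are henselian; bounded torsion.
-/

set_option autoImplicit false
universe u v

namespace Groth.Agent.DComplete

variable {A : Type u} [CommRing A]

lemma le_jacobson (I : Ideal A) (h : ∀ f ∈ I, Tele (smulEnd A f)) : I ≤ Ideal.jacobson ⊥ := by
  intro x hx
  rw [Ideal.mem_jacobson_bot]
  intro y
  obtain ⟨z, hz⟩ := (h (-(x * y)) (I.neg_mem (I.mul_mem_right y hx))).bijective_one_sub.2 1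
  refine IsUnit.of_mul_eq_one z ?_
  have : z - -(x * y) * z = 1 := hz
  linear_combination this

lemma henselian_of_tele (I : Ideal A) (h : ∀ f ∈ I, Tele (smulEnd A f)) : HenselianRing A I where
  jac := le_jacobson I h
  is_henselian := by
    intro P _ a₀ h₁ h₂
    set f := P.eval a₀ with hf
    let D := P.derivative
    have hsp : Ideal.span {f} ≤ I := (Ideal.span_singleton_le_iff_mem I).2 h₁
    have : IsLocalHom (Ideal.Quotient.mk I) := isLocalHom_of_le_jacobson_bot I (le_jacobson I h)
    have hunit : ∀ b, b - a₀ ∈ Ideal.span {f} → IsUnit (D.eval b) := fun b hb => by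
      refine IsUnit.of_map (Ideal.Quotient.mk I) _ ?_
      rw [show Ideal.Quotient.mk I (D.eval b) = Ideal.Quotient.mk I (D.eval a₀) from
        Ideal.Quotient.eq.2 (I.mem_of_dvd (Polynomial.sub_dvd_eval_sub b a₀ D) (hsp hb))]
      exact h₂
    let c : ℕ → A := fun n => Nat.recOn n a₀ fun _ b => b - P.eval b * Ring.inverse (D.eval b)
    have hstep : ∀ b, IsUnit (D.eval b) → ∃ k,
        P.eval (b - P.eval b * Ring.inverse (D.eval b)) = k * (P.eval b) ^ 2 := fun b hb => by
      obtain ⟨k, hk⟩ := Polynomial.binomExpansion P b (-(P.eval b * Ring.inverse (D.eval b)))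
      refine ⟨k * Ring.inverse (D.eval b) ^ 2, ?_⟩
      rw [sub_eq_add_neg, hk, show P.derivative.eval b * -(P.eval b * Ring.inverse (D.eval b)) =
        -(P.eval b * (D.eval b * Ring.inverse (D.eval b))) by show _ = _; ring,
        Ring.mul_inverse_cancel _ hb]
      ring
    have hinv : ∀ n, c n - a₀ ∈ Ideal.span {f} ∧ P.eval (c n) ∈ Ideal.span {f} ^ (n + 1) := by
      intro n
      induction n with
      | zero =>
        refine ⟨by simp [c], ?_⟩
        rw [zero_add, pow_one]
        exact Ideal.mem_span_singleton_self f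
      | succ n ih =>
        refine ⟨?_, ?_⟩
        · have hc : c (n + 1) - a₀ = (c n - a₀) - P.eval (c n) * Ring.inverse (D.eval (c n)) := by
            show (c n - _) - a₀ = _
            ring
          rw [hc]
          exact Ideal.sub_mem _ ih.1
            (Ideal.mul_mem_right _ _ (Ideal.pow_le_self (Nat.succ_ne_zero n) ih.2))
        · obtain ⟨k, hk⟩ := hstep (c n) (hunit _ ih.1)
          show P.eval (c n - P.eval (c n) * Ring.inverse (D.eval (c n))) ∈ _
          rw [hk]
          refine Ideal.mul_mem_left _ _ (Ideal.pow_le_pow_right (show n + 1 + 1 ≤ (n + 1) * 2 by lia) ?_)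
          rw [pow_mul]
          exact Ideal.pow_mem_pow ih.2 2
    have hl : Ideal.span {x | x ∈ [f]} = Ideal.span {f} := by simp
    obtain ⟨v, hv⟩ := exists_series [f] (fun g hg => h g (by simp at hg; exact hg ▸ h₁))
      (fun n => c (n + 1) - c n) fun n => by
      rw [hl, smul_eq_mul, Ideal.mul_top]
      show c n - _ - c n ∈ _
      rw [sub_sub_cancel_left, Ideal.neg_mem_iff]
      exact Ideal.mul_mem_right _ _ (Ideal.pow_le_pow_right n.le_succ (hinv n).2)
    set a := a₀ + v with ha
    have hmem : ∀ N, a - c N ∈ Ideal.span {f} ^ N := fun N => by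
      have := hv N
      rw [hl, smul_eq_mul, Ideal.mul_top, Finset.sum_range_sub c N] at this
      convert this using 1
      show a₀ + v - c N = v - (c N - a₀)
      ring
    have ha0 : a - a₀ ∈ Ideal.span {f} := by
      have := Ideal.add_mem _ (hmem 1) (by rw [pow_one]; exact (hinv 1).1 :
        c 1 - a₀ ∈ Ideal.span {f} ^ 1)
      rw [sub_add_sub_cancel, pow_one] at this
      exact this
    have hPa : P.eval a ∈ ⨅ n : ℕ, Ideal.span {f ^ n} := Submodule.mem_iInf _ |>.2 fun N => by
      rw [← Ideal.span_singleton_pow]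
      have h1 := (Ideal.span {f} ^ N).mem_of_dvd (Polynomial.sub_dvd_eval_sub a (c N) P) (hmem N)
      have h2 := Ideal.add_mem _ h1 (Ideal.pow_le_pow_right N.le_succ (hinv N).2)
      rwa [sub_add_cancel] at h2
    obtain ⟨k, hk⟩ := hstep a (hunit a ha0)
    refine ⟨a - P.eval a * Ring.inverse (D.eval a), ?_, ?_⟩
    · show P.eval _ = 0
      have hsq := smul_iInf_eq_bot (h f h₁)
      have h2 : (P.eval a) ^ 2 ∈ (⊥ : Ideal A) := by
        rw [← hsq, sq]
        refine Submodule.smul_mem_smul hPa ?_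
        simpa [Submodule.mem_iInf] using hPa
      rw [hk, (Ideal.mem_bot).1 h2, mul_zero]
    · rw [sub_right_comm]
      refine hsp (Ideal.sub_mem _ ha0 (Ideal.mul_mem_right _ _ ?_))
      have := (Submodule.mem_iInf _).1 hPa 1
      rwa [pow_one] at this

/-- A derived complete torsion module has bounded torsion. -/
lemma exists_pow_smul_eq_zero {M : Type*} [AddCommGroup M] [Module A M] {f : A}
    (h : Tele (smulEnd M f)) (ht : ∀ m : M, ∃ n, f ^ n • m = 0) :
    ∃ n, ∀ m : M, f ^ n • m = 0 := by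
  by_cases hst : ∃ n, ∀ m : M, ∃ m', f ^ n • m = f ^ (n + 1) • m'
  · obtain ⟨n, hn⟩ := hst
    choose g hg using hn
    refine ⟨n, fun m => congrFun (h.eq_zero (fun k => f ^ n • g^[k] m) fun k => ?_) 0⟩
    rw [Function.iterate_succ_apply', hg (g^[k] m)]
    simp only [DistribSMul.toAddMonoidHom_apply, smul_smul, pow_succ']
  push Not at hst
  exfalso
  choose w hw using hst
  classical
  let inc : ℕ → M → M := fun j s =>
    if ∃ z, f ^ (j + 1) • s = f ^ (2 * j + 2) • z then w (2 * j + 1) else 0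
  let s : ℕ → M := fun j => Nat.recOn j 0 fun j s => s + f ^ j • inc j s
  let m : ℕ → M := fun j => inc j (s j)
  have hs : ∀ j z, f ^ (j + 1) • s (j + 1) ≠ f ^ (2 * j + 2) • z := fun j z hz => by
    have e : f ^ (j + 1) • s (j + 1) = f ^ (j + 1) • s j + f ^ (2 * j + 1) • m j := by
      show f ^ (j + 1) • (s j + f ^ j • m j) = _
      rw [smul_add, smul_smul, ← pow_add, show j + 1 + j = 2 * j + 1 by lia]
    by_cases hc : ∃ z, f ^ (j + 1) • s j = f ^ (2 * j + 2) • z
    · obtain ⟨z', hz'⟩ := hc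
      refine hw (2 * j + 1) (z - z') ?_
      have hm : m j = w (2 * j + 1) := if_pos ⟨z', hz'⟩
      rw [e, hz', hm] at hz
      rw [smul_sub, ← hz]
      abel
    · have hm : m j = 0 := if_neg hc
      rw [e, hm, smul_zero, add_zero] at hz
      exact hc ⟨z, hz⟩
  have key : ∀ N, ∃ y, h.sol m = s N + f ^ N • h.sol y ∧ y = fun k => m (N + k) := fun N => by
    induction N with
    | zero => exact ⟨m, by simp [s], by simp⟩
    | succ N ih =>
      obtain ⟨y, hy, rfl⟩ := ih
      refine ⟨_, ?_, rfl⟩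
      rw [hy, h.sol_succ]
      show s N + f ^ N • (m (N + 0) + f • _) = s N + f ^ N • m N + _
      simp only [smul_add, smul_smul, ← pow_succ, add_zero, add_assoc, add_comm 1]
  obtain ⟨n, hn⟩ := ht (h.sol m)
  obtain ⟨y, hy, -⟩ := key (n + 1)
  refine hs n (-h.sol y) ?_
  have h0 : f ^ (n + 1) • h.sol m = 0 := by rw [pow_succ', mul_smul, hn, smul_zero]
  rw [hy, smul_add, smul_smul, ← pow_add, show n + 1 + (n + 1) = 2 * n + 2 by lia] at h0
  rw [smul_neg]
  exact eq_neg_of_add_eq_zero_left h0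

lemma exists_pow_smul_top_eq_bot {M : Type*} [AddCommGroup M] [Module A M] (I : Ideal A) (hI : I.FG)
    (h : ∀ f ∈ I, Tele (smulEnd M f)) (ht : ∀ m : M, ∃ n : ℕ, ∀ a ∈ I ^ n, a • m = 0) :
    ∃ n : ℕ, I ^ n • (⊤ : Submodule A M) = ⊥ := by
  have hrad : I ≤ (Module.annihilator A M).radical := fun f hf => by
    obtain ⟨n, hn⟩ := exists_pow_smul_eq_zero (h f hf) fun m => by
      obtain ⟨n, hn⟩ := ht m
      exact ⟨n, hn _ (Ideal.pow_mem_pow hf n)⟩
    exact ⟨n, Module.mem_annihilator.2 hn⟩
  obtain ⟨n, hn⟩ := Ideal.exists_pow_le_of_le_radical_of_fg hrad hI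
  exact ⟨n, eq_bot_iff.2 (Submodule.smul_le.2 fun a ha m _ =>
    (Submodule.mem_bot A).2 (Module.mem_annihilator.1 (hn ha) m))⟩

end Groth.Agent.DComplete
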