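import Groth.Agent.DComplete.Basic
import Groth.Agent.DRingPC.Restrict

/-!
Derived complete modules: extensions, kernels, cokernels, ideals.
-/

set_option autoImplicit false
universe u v

open CategoryTheory CategoryTheory.Limits

attribute [local instance] HasDerivedCategory.standard

namespace Groth.Agent.DComplete

variable {A : Type u} [CommRing A]
variable {M N P : Type*} [AddCommGroup M] [Module A M] [AddCommGroup N] [Module A N]
  [AddCommGroup P] [Module A P]

lemma tele_mid (f : A) {u : M →ₗ[A] N} {v : N →ₗ[A] P} (hu : Function.Injective u)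
    (hex : Function.Exact u v) (hv : Function.Surjective v)
    (hM : Tele (smulEnd M f)) (hP : Tele (smulEnd P f)) : Tele (smulEnd N f) := by
  refine ⟨fun x y hxy => sub_eq_zero.1 ?_, fun m => ?_⟩
  · have hz : ∀ n, (x - y) n = f • (x - y) (n + 1) := fun n => by
      have := congrFun hxy n
      simp only [teleMap, DistribSMul.toAddMonoidHom_apply] at this
      simp only [Pi.sub_apply, smul_sub]
      rwa [sub_eq_sub_iff_sub_eq_sub] at this
    have hv0 := congrFun (hP.eq_zero (fun n => v ((x - y) n)) fun n => by
      show v _ = f • v _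
      rw [← map_smul, ← hz n])
    choose w hw using fun n => (hex _).1 (hv0 n)
    have hw0 := hM.eq_zero w fun n => hu (by
      show u _ = u (f • _)
      rw [map_smul, hw, hw, ← hz n])
    funext n
    rw [← hw n, hw0, Pi.zero_apply, map_zero, Pi.zero_apply]
  · obtain ⟨z, hz⟩ := hP.2 fun n => v (m n)
    choose x hx using fun n => hv (z n)
    choose r hr using fun n => (hex (m n - (x n - f • x (n + 1)))).1 (by
      rw [map_sub, map_sub, map_smul, hx, hx, sub_eq_zero]
      exact (congrFun hz n).symm)
    obtain ⟨y, hy⟩ := hM.2 r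
    refine ⟨fun n => x n + u (y n), funext fun n => ?_⟩
    have h2 : u (y n) - f • u (y (n + 1)) = m n - (x n - f • x (n + 1)) := by
      rw [← map_smul, ← map_sub, ← hr n]
      exact congrArg u (congrFun hy n)
    show x n + u (y n) - f • (x (n + 1) + u (y (n + 1))) = m n
    rw [smul_add, add_sub_add_comm, h2, add_sub_cancel]

lemma tele_ker (f : A) (u : M →ₗ[A] N) (hM : Tele (smulEnd M f)) (hN : Tele (smulEnd N f)) :
    Tele (smulEnd (LinearMap.ker u) f) := by
  refine ⟨fun x y hxy => ?_, fun m => ?_⟩
  · funext n
    refine Subtype.ext (congrFun (hM.1 (a₁ := fun n => (x n).1) (a₂ := fun n => (y n).1)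
      (funext fun k => congrArg Subtype.val (congrFun hxy k))) n)
  · obtain ⟨x, hx⟩ := hM.2 fun n => (m n).1
    have h0 := congrFun (hN.eq_zero (fun n => u (x n)) fun n => by
      show u _ = f • u _
      rw [← map_smul, ← sub_eq_zero, ← map_sub]
      exact (congrArg u (congrFun hx n)).trans (m n).2)
    exact ⟨fun n => ⟨x n, h0 n⟩, funext fun n => Subtype.ext (congrFun hx n)⟩

lemma tele_coker (f : A) (u : M →ₗ[A] N) (hM : Tele (smulEnd M f)) (hN : Tele (smulEnd N f)) :
    Tele (smulEnd (N ⧸ LinearMap.range u) f) := by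
  refine ⟨fun x y hxy => sub_eq_zero.1 ?_, fun m => ?_⟩
  · funext n
    choose x' hx' using fun k => Submodule.Quotient.mk_surjective _ ((x - y) k)
    have hz : ∀ k, x' k - f • x' (k + 1) ∈ LinearMap.range u := fun k => by
      rw [← Submodule.Quotient.mk_eq_zero, Submodule.Quotient.mk_sub, Submodule.Quotient.mk_smul,
        hx', hx']
      have := congrFun hxy k
      simp only [teleMap, DistribSMul.toAddMonoidHom_apply] at this
      simp only [Pi.sub_apply, smul_sub]
      rw [sub_sub_sub_comm, this, sub_self]
    choose a ha using hz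
    obtain ⟨y', hy'⟩ := hM.2 a
    have h0 := congrFun (hN.eq_zero (fun k => x' k - u (y' k)) fun k => by
      show x' k - u (y' k) = f • (x' (k + 1) - u (y' (k + 1)))
      have h1 : u (y' k) - f • u (y' (k + 1)) = x' k - f • x' (k + 1) := by
        rw [← map_smul, ← map_sub, ← ha k]
        exact congrArg u (congrFun hy' k)
      rw [smul_sub, sub_eq_sub_iff_sub_eq_sub, h1]) n
    rw [← hx' n, Pi.zero_apply, Submodule.Quotient.mk_eq_zero]
    exact ⟨y' n, (sub_eq_zero.1 h0).symm⟩
  · choose m' hm using fun k => Submodule.Quotient.mk_surjective _ (m k)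
    obtain ⟨x, hx⟩ := hN.2 m'
    refine ⟨fun k => Submodule.Quotient.mk (x k), funext fun k => ?_⟩
    show Submodule.Quotient.mk (x k) - f • Submodule.Quotient.mk (x (k + 1)) = m k
    rw [← Submodule.Quotient.mk_smul, ← Submodule.Quotient.mk_sub, ← hm k]
    exact congrArg _ (congrFun hx k)

lemma tele_pi {ι : Type*} {X : ι → Type*} [∀ i, AddCommGroup (X i)] [∀ i, Module A (X i)] (f : A)
    (h : ∀ i, Tele (smulEnd (X i) f)) : Tele (smulEnd (∀ i, X i) f) := by
  refine ⟨fun x y hxy => ?_, fun m => ?_⟩
  · funext n i
    exact congrFun ((h i).1 (a₁ := fun k => x k i) (a₂ := fun k => y k i)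
      (funext fun k => congrFun (congrFun hxy k) i)) n
  · choose x hx using fun i => (h i).2 fun k => m k i
    exact ⟨fun k i => x i k, funext fun k => funext fun i => congrFun (hx i) k⟩

lemma tele_of_linearEquiv (f : A) (e : M ≃ₗ[A] N) (h : Tele (smulEnd M f)) : Tele (smulEnd N f) :=
  tele_of_bijective h e.toAddEquiv fun x => map_smul e f x

lemma tele_of_subsingleton [Subsingleton M] (φ : M →+ M) : Tele φ :=
  ⟨fun x y _ => Subsingleton.elim x y, fun y => ⟨y, Subsingleton.elim _ _⟩⟩

variable (M)

/-- The elements for which the telescope condition holds. -/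
def teleIdeal : Ideal A where
  carrier := {f | Tele (smulEnd M f)}
  zero_mem' := by
    show Tele _
    convert tele_zero (M := M)
    exact AddMonoidHom.ext fun x => zero_smul A x
  add_mem' {f g} hf hg := by
    show Tele _
    rw [show smulEnd M (f + g) = smulEnd M f + smulEnd M g from
      AddMonoidHom.ext fun x => add_smul f g x]
    exact Tele.add hf hg fun x => smul_comm f g x
  smul_mem' c f hf := by
    show Tele _
    rw [show smulEnd M (c • f) = (smulEnd M f).comp (smulEnd M c) from
      AddMonoidHom.ext fun x => (mul_smul c f x).trans (smul_comm c f x)]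
    exact Tele.mul hf fun x => smul_comm f c x

variable {M}

lemma tele_of_mem_span {s : Set A} (h : ∀ f ∈ s, Tele (smulEnd M f)) {f : A}
    (hf : f ∈ Ideal.span s) : Tele (smulEnd M f) :=
  (Ideal.span_le (I := teleIdeal M)).2 h hf

/-- Completeness of a module only depends on generators. -/
lemma isDerivedComplete_span_iff (s : Set A) (X : Type u) [AddCommGroup X] [Module A X] :
    DRing.IsDerivedComplete (Ideal.span s) (Dual.inD A X) ↔ ∀ f ∈ s, Tele (smulEnd X f) :=
  (isDerivedComplete_inD_iff _ X).trans
    ⟨fun h f hf => h f (Ideal.subset_span hf), fun h _ hf => tele_of_mem_span h hf⟩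

/-- Completeness after restriction of scalars. -/
lemma isDerivedComplete_map_iff {B : Type u} [CommRing B] (φ : A →+* B) (I : Ideal A) (L : Dual.D B) :
    DRing.IsDerivedComplete (I.map φ) L ↔ DRing.IsDerivedComplete I ((DRing.restrictD φ).obj L) := by
  rw [isDerivedComplete_iff, isDerivedComplete_iff]
  constructor
  · intro h f hf n
    have e := ((DRingPC.restrictHD φ L n).toLinearEquiv).symm
    exact tele_of_bijective (h (φ f) (Ideal.mem_map_of_mem φ hf) n) e.toAddEquiv
      fun x => e.map_smul f x
  · intro h g hg n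
    refine tele_of_mem_span (s := φ '' I) ?_ hg
    rintro _ ⟨f, hf, rfl⟩
    have e := (DRingPC.restrictHD φ L n).toLinearEquiv
    exact tele_of_bijective (h f hf n) e.toAddEquiv fun x => e.map_smul f x

/-- Completeness of objects with bounded above free representatives. -/
lemma isDerivedComplete_of_termwise (I : Ideal A) (E : CochainComplex (ModuleCat.{u} A) ℤ)
    (h : ∀ f ∈ I, ∀ i, Tele (smulEnd (E.X i) f)) :
    DRing.IsDerivedComplete I (DerivedCategory.Q.obj E) := by
  rw [isDerivedComplete_iff]
  intro f hf n
  refine tele_of_linearEquiv f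
    ((Iso.toLinearEquiv (PCohLib.homologyQIso E n)).trans
      ((E.sc n).moduleCatHomologyIso).toLinearEquiv).symm ?_
  exact tele_coker f _ (h f hf _) (tele_ker f _ (h f hf _) (h f hf _))

end Groth.Agent.DComplete
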