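import Groth.Agent.DComplete.Exists
import Groth.Agent.DRingPC.LTensorValue

/-!
# Derived Nakayama lemma for derived complete objects
-/

set_option autoImplicit false
set_option linter.style.haveILetI false
universe u

open CategoryTheory CategoryTheory.Limits CategoryTheory.Pretriangulated
open CategoryTheory.MonoidalCategory
open Groth.Agent.PCohLib Groth.Agent.DRingPC
open CochainComplex (mappingCone)

attribute [local instance] HasDerivedCategory.standard

namespace Groth.Agent.DComplete

variable {A : Type u} [CommRing A]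

local notation "CH" => HomologicalComplex.homologyFunctor (ModuleCat A) (ComplexShape.up ℤ)
local notation "DH" => DerivedCategory.homologyFunctor (ModuleCat A)

open scoped DerivedCategory

theorem Q_triangle {P Q' : DRing.Cx A} (g : P ⟶ Q') :
    ∃ (a : DRing.toD Q' ⟶ DRing.toD (mappingCone g)) (b : DRing.toD (mappingCone g) ⟶ (DRing.toD P)⟦(1 : ℤ)⟧),
      Triangle.mk (DerivedCategory.Q.map g) a b ∈ distinguishedTriangles :=
  ⟨_, _, (DerivedCategory.mem_distTriang_iff _).2 ⟨P, Q', g, ⟨Iso.refl _⟩⟩⟩

theorem exactAt_cone {P Q' : DRing.Cx A} (g : P ⟶ Q') (i : ℤ) (he : Epi ((CH i).map g))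
    (hm : Mono ((CH (i + 1)).map g)) : (mappingCone g).ExactAt i := by
  obtain ⟨a, b, hT⟩ := Q_triangle g
  haveI he' : Epi ((DH i).map (DerivedCategory.Q.map g)) :=
    ((MorphismProperty.epimorphisms _).arrow_mk_iso_iff
      (Arrow.isoMk' _ _ ((DerivedCategory.homologyFunctorFactors (ModuleCat.{u} A) i).app P)
        ((DerivedCategory.homologyFunctorFactors (ModuleCat.{u} A) i).app Q')
        ((DerivedCategory.homologyFunctorFactors (ModuleCat.{u} A) i).hom.naturality g).symm)).2 he
  haveI hm' : Mono ((DH (i + 1)).map (DerivedCategory.Q.map g)) :=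
    ((MorphismProperty.monomorphisms _).arrow_mk_iso_iff
      (Arrow.isoMk' _ _ ((DerivedCategory.homologyFunctorFactors (ModuleCat.{u} A) (i + 1)).app P)
        ((DerivedCategory.homologyFunctorFactors (ModuleCat.{u} A) (i + 1)).app Q')
        ((DerivedCategory.homologyFunctorFactors (ModuleCat.{u} A) (i + 1)).hom.naturality g).symm)).2 hm
  rw [HomologicalComplex.exactAt_iff_isZero_homology]
  refine IsZero.of_iso ?_ ((DerivedCategory.homologyFunctorFactors (ModuleCat.{u} A) i).app (mappingCone g)).symm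
  exact ShortComplex.Exact.isZero_X₂
    (DerivedCategory.HomologySequence.exact₃ _ hT i (i + 1) rfl)
    ((DerivedCategory.HomologySequence.epi_homologyMap_mor₁_iff _ hT i).1 he')
    ((DerivedCategory.HomologySequence.mono_homologyMap_mor₁_iff _ hT i (i + 1) rfl).1 hm')

theorem epi_of_exactAt_cone {P Q' : DRing.Cx A} (g : P ⟶ Q') (i : ℤ) (h : (mappingCone g).ExactAt i) :
    Epi ((CH i).map g) := by
  obtain ⟨a, b, hT⟩ := Q_triangle g
  have hz : IsZero ((DH i).obj (DRing.toD (mappingCone g))) :=
    ((HomologicalComplex.exactAt_iff_isZero_homology _ _).1 h).of_iso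
      ((DerivedCategory.homologyFunctorFactors (ModuleCat.{u} A) i).app (mappingCone g))
  exact ((MorphismProperty.epimorphisms _).arrow_mk_iso_iff
      (Arrow.isoMk' _ _ ((DerivedCategory.homologyFunctorFactors (ModuleCat.{u} A) i).app P)
        ((DerivedCategory.homologyFunctorFactors (ModuleCat.{u} A) i).app Q')
        ((DerivedCategory.homologyFunctorFactors (ModuleCat.{u} A) i).hom.naturality g).symm)).1
    ((DerivedCategory.HomologySequence.epi_homologyMap_mor₁_iff _ hT i).2 (hz.eq_of_tgt _ _))

theorem isC_cone {P : DRing.Cx A} (g : P ⟶ P) {f : A} (h : IsC f (DRing.toD P)) :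
    IsC f (DRing.toD (mappingCone g)) := by
  obtain ⟨a, b, hT⟩ := Q_triangle g
  rw [IsC, away_iff]
  intro E
  refine ⟨fun x y => sub_eq_zero.1 ?_⟩
  generalize x - y = z
  have h1 : z ≫ b = 0 := ((away_iff f _).1 (h.shift 1) E).elim _ _
  obtain ⟨β, hβ⟩ : ∃ β, z = β ≫ a := Triangle.coyoneda_exact₃ _ hT z h1
  rw [hβ, ((away_iff f _).1 h E).elim β 0, zero_comp]

theorem flat_prod (M N : Type u) [AddCommGroup M] [Module A M] [AddCommGroup N] [Module A N]
    [Module.Flat A M] [Module.Flat A N] : Module.Flat A (M × N) := by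
  refine Module.Flat.iff_rTensor_preserves_injective_linearMap.2 fun {P Q} _ _ _ _ f hf => ?_
  intro x y hxy
  have hnat : ∀ z, TensorProduct.prodRight A A Q M N (f.rTensor (M × N) z) =
      (f.rTensor M (TensorProduct.prodRight A A P M N z).1, f.rTensor N (TensorProduct.prodRight A A P M N z).2) := by
    intro z
    induction z using TensorProduct.induction_on with
    | zero => simp [Prod.mk_zero_zero]
    | tmul p m => simp
    | add a b ha hb => simp [map_add, ha, hb]
  apply (TensorProduct.prodRight A A P M N).injective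
  have h := congrArg (TensorProduct.prodRight A A Q M N) hxy
  rw [hnat, hnat, Prod.mk.injEq] at h
  exact Prod.ext (Module.Flat.rTensor_preserves_injective_linearMap f hf h.1)
    (Module.Flat.rTensor_preserves_injective_linearMap f hf h.2)

/-- Tensoring with a map of modules. -/
noncomputable def tcxMap {M N : ModuleCat.{u} A} (g : M ⟶ N) (P : DRing.Cx A) :
    (tcx M).obj P ⟶ (tcx N).obj P :=
  (NatTrans.mapHomologicalComplex ((curriedTensor (ModuleCat.{u} A)).map g) _).app P

theorem shortExact_tcx {S : ShortComplex (ModuleCat.{u} A)} (hS : S.ShortExact) (P : DRing.Cx A)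
    (hfl : ∀ j, Module.Flat A (P.X j)) :
    (ShortComplex.mk (tcxMap S.f P) (tcxMap S.g P) (HomologicalComplex.hom_ext _ _ fun j =>
      (MonoidalCategory.comp_whiskerRight S.f S.g (P.X j)).symm.trans
        ((congrArg (fun g => g ▷ P.X j) S.zero).trans (MonoidalPreadditive.zero_whiskerRight)))).ShortExact := by
  refine HomologicalComplex.shortExact_of_degreewise_shortExact _ fun j => ?_
  haveI := hfl j
  exact
    { exact := (ShortComplex.ShortExact.moduleCat_exact_iff_function_exact _).2
        (rTensor_exact (P.X j) ((ShortComplex.ShortExact.moduleCat_exact_iff_function_exact S).1 hS.exact)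
          hS.moduleCat_surjective_g)
      mono_f := (ModuleCat.mono_iff_injective _).2
        (Module.Flat.rTensor_preserves_injective_linearMap _ hS.moduleCat_injective_f)
      epi_g := (ModuleCat.epi_iff_surjective _).2 (LinearMap.rTensor_surjective _ hS.moduleCat_surjective_g) }

theorem epi_mono_smul (P : DRing.Cx A) (hfl : ∀ j, Module.Flat A (P.X j)) (f : A) (N : ModuleCat.{u} A)
    (c : ℤ)
    (hker : ∀ i, c < i → ((tcx (ModuleCat.of A (LinearMap.ker (LinearMap.lsmul A N f)))).obj P).ExactAt i)
    (hcok : ∀ i, c < i → ((tcx (ModuleCat.of A (N ⧸ LinearMap.range (LinearMap.lsmul A N f)))).obj P).ExactAt i)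
    (i : ℤ) (hi : c < i) :
    Epi ((CH i).map ((tcx N).map (f • 𝟙 P))) ∧ Mono ((CH (i + 1)).map ((tcx N).map (f • 𝟙 P))) := by
  let μ : N →ₗ[A] N := LinearMap.lsmul A N f
  let S₁ : ShortComplex (ModuleCat.{u} A) := ShortComplex.mk
    (ModuleCat.ofHom (LinearMap.ker μ).subtype) (ModuleCat.ofHom μ.rangeRestrict)
    (ModuleCat.hom_ext (LinearMap.ext fun x => Subtype.ext x.2))
  let S₂ : ShortComplex (ModuleCat.{u} A) := ShortComplex.mk
    (ModuleCat.ofHom (LinearMap.range μ).subtype) (ModuleCat.ofHom (LinearMap.range μ).mkQ)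
    (ModuleCat.hom_ext (LinearMap.ext fun x => (Submodule.Quotient.mk_eq_zero _).2 x.2))
  have hS₁ : S₁.ShortExact :=
    { exact := (ShortComplex.ShortExact.moduleCat_exact_iff_function_exact S₁).2 fun x =>
        ⟨fun h => ⟨⟨x, congrArg Subtype.val h⟩, rfl⟩, by rintro ⟨y, rfl⟩; exact Subtype.ext y.2⟩
      mono_f := (ModuleCat.mono_iff_injective _).2 (LinearMap.ker μ).injective_subtype
      epi_g := (ModuleCat.epi_iff_surjective _).2 μ.surjective_rangeRestrict }
  have hS₂ : S₂.ShortExact :=
    { exact := (ShortComplex.ShortExact.moduleCat_exact_iff_function_exact S₂).2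
        (LinearMap.exact_subtype_mkQ _)
      mono_f := (ModuleCat.mono_iff_injective _).2 (LinearMap.range μ).injective_subtype
      epi_g := (ModuleCat.epi_iff_surjective _).2 (Submodule.mkQ_surjective _) }
  have h₁ := shortExact_tcx hS₁ P hfl
  have h₂ := shortExact_tcx hS₂ P hfl
  have heq : (tcx N).map (f • 𝟙 P) = tcxMap S₁.g P ≫ tcxMap S₂.f P := by
    refine HomologicalComplex.hom_ext _ _ fun j => ?_
    show N ◁ (f • 𝟙 (P.X j)) = (S₁.g ▷ P.X j) ≫ (S₂.f ▷ P.X j)
    rw [← MonoidalCategory.comp_whiskerRight,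
      show S₁.g ≫ S₂.f = f • 𝟙 N from ModuleCat.hom_ext (LinearMap.ext fun x => rfl),
      MonoidalLinear.whiskerLeft_smul, MonoidalLinear.smul_whiskerRight, MonoidalCategory.whiskerLeft_id,
      MonoidalCategory.id_whiskerRight]
  have zk : ∀ i, c < i → IsZero ((CH i).obj ((tcx S₁.X₁).obj P)) := fun i hi =>
    (HomologicalComplex.exactAt_iff_isZero_homology _ _).1 (hker i hi)
  have zc : ∀ i, c < i → IsZero ((CH i).obj ((tcx S₂.X₃).obj P)) := fun i hi =>
    (HomologicalComplex.exactAt_iff_isZero_homology _ _).1 (hcok i hi)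
  constructor
  · have e1 : Epi ((CH i).map (tcxMap S₁.g P)) :=
      (h₁.homology_exact₃ i (i + 1) rfl).epi_f ((zk (i + 1) (by lia)).eq_of_tgt _ _)
    have e2 : Epi ((CH i).map (tcxMap S₂.f P)) :=
      (h₂.homology_exact₂ i).epi_f ((zc i hi).eq_of_tgt _ _)
    rw [heq, Functor.map_comp]
    exact @epi_comp _ _ _ _ _ _ e1 _ e2
  · have m1 : Mono ((CH (i + 1)).map (tcxMap S₁.g P)) :=
      (h₁.homology_exact₂ (i + 1)).mono_g ((zk (i + 1) (by lia)).eq_of_src _ _)
    have m2 : Mono ((CH (i + 1)).map (tcxMap S₂.f P)) :=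
      (h₂.homology_exact₁ i (i + 1) rfl).mono_g ((zc i hi).eq_of_src _ _)
    rw [heq, Functor.map_comp]
    exact @mono_comp _ _ _ _ _ _ m1 _ m2

theorem exactAt_of_tensor_exact (c : ℤ) (l : List A) : ∀ (P : DRing.Cx A), (∀ j, Module.Flat A (P.X j)) →
    (∀ f ∈ l, IsC f (DRing.toD P)) →
    (∀ N : ModuleCat.{u} A, (∀ f ∈ l, ∀ x : N, f • x = 0) → ∀ i, c < i → ((tcx N).obj P).ExactAt i) →
    ∀ i, c < i → P.ExactAt i := by
  induction l with
  | nil => exact fun P _ _ h i hi => DRingPC.exactAt_of_tensor_unit P i (h _ (fun f hf => absurd hf List.not_mem_nil) i hi)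
  | cons f l ih =>
    intro P hfl hC h i hi
    let P' : DRing.Cx A := mappingCone (f • 𝟙 P)
    have hfl' : ∀ j, Module.Flat A (P'.X j) := fun j => by
      haveI := hfl (j + 1); haveI := hfl j
      haveI : Module.Flat A ((P.X (j + 1) : ModuleCat.{u} A) × (P.X j : ModuleCat.{u} A)) := flat_prod _ _
      exact Module.Flat.of_linearEquiv (N := P'.X j) (M := (P.X (j + 1) : ModuleCat.{u} A) × (P.X j : ModuleCat.{u} A))
        ((HomologicalComplex.homotopyCofiber.XIsoBiprod (f • 𝟙 P) j (j + 1) rfl ≪≫
          ModuleCat.biprodIsoProd _ _).toLinearEquiv)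
    have hP' := ih P' hfl' (fun g hg => isC_cone _ (hC g (List.mem_cons_of_mem _ hg))) (fun N hN j hj => by
      refine HomologicalComplex.ExactAt.of_iso ?_
        (CochainComplex.mappingCone.mapHomologicalComplexIso (f • 𝟙 P) (tensorLeft N)).symm
      have hk : ∀ j, c < j → ((tcx (ModuleCat.of A (LinearMap.ker (LinearMap.lsmul A N f)))).obj P).ExactAt j :=
        h _ fun g hg x => Subtype.ext (by
          rcases List.mem_cons.1 hg with rfl | hg
          · exact x.2
          · exact hN g hg x.1)
      have hc : ∀ j, c < j →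
          ((tcx (ModuleCat.of A (N ⧸ LinearMap.range (LinearMap.lsmul A N f)))).obj P).ExactAt j :=
        h _ fun g hg x => by
          obtain ⟨x, rfl⟩ := Submodule.mkQ_surjective _ x
          rw [← map_smul]
          rcases List.mem_cons.1 hg with rfl | hg
          · exact (Submodule.Quotient.mk_eq_zero _).2 ⟨x, rfl⟩
          · rw [hN g hg x, map_zero]
      exact exactAt_cone _ j (epi_mono_smul P hfl f N c hk hc j hj).1
        (epi_mono_smul P hfl f N c hk hc j hj).2)
    have hsurj : Function.Surjective fun x : P.homology i => f • x := by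
      have := (ModuleCat.epi_iff_surjective _).1 (epi_of_exactAt_cone (f • 𝟙 P) i (hP' i hi))
      have h2 : (CH i).map (f • 𝟙 P) = f • 𝟙 (P.homology i) :=
        (ShortComplex.homologyMap_smul (φ := 𝟙 (P.sc i)) f).trans (by rw [ShortComplex.homologyMap_id]; rfl)
      rw [h2] at this
      exact this
    let e := (homologyQIso P i).toLinearEquiv
    have ht : Tele (smulEnd (P.homology i) f) :=
      tele_of_linearEquiv f e ((isC_iff f _).1 (hC f List.mem_cons_self) i)
    rw [HomologicalComplex.exactAt_iff_isZero_homology]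
    haveI : Subsingleton (P.homology i) := by
      refine subsingleton_of_forall_eq 0 fun x => ?_
      choose φ hφ using hsurj
      exact congrFun (ht.eq_zero (fun n => φ^[n] x) fun n => by
        show φ^[n] x = f • φ^[n + 1] x
        rw [Function.iterate_succ_apply']; exact (hφ _).symm) 0
    exact ModuleCat.isZero_of_subsingleton _

theorem homology_above_iff (I : Ideal A) (hI : I.FG) [DRing.HasLTensor A (ModuleCat.of A (A ⧸ I))]
    (K : Dual.D A) (hc : DRing.IsDerivedComplete I K) (c : ℤ) :
    (∀ i : ℤ, c < i → Subsingleton (Dual.HD A K i)) ↔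
      ∀ i : ℤ, c < i → Subsingleton (Dual.HD A ((DRing.LTensor A (ModuleCat.of A (A ⧸ I))).obj K) i) := by
  obtain ⟨P, hP, hfl, ⟨e⟩⟩ := DRingPC.exists_kFlat_rep K
  obtain ⟨s, hs⟩ := hI
  constructor
  · intro h i hi
    rw [DRingPC.subsingleton_LTensor_iff _ hP e]
    refine DRingPC.exactAt_tensor_of_above (S := A) hP c (fun j hj => ?_) (A ⧸ I) i hi
    refine HomologicalComplex.ExactAt.of_iso ?_
      ((NatIso.mapHomologicalComplex (leftUnitorNatIso (ModuleCat.{u} A)) _).app P ≪≫
        (Functor.mapHomologicalComplexIdIso _ _).app P).symm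
    rw [HomologicalComplex.exactAt_iff_isZero_homology]
    exact (@ModuleCat.isZero_of_subsingleton _ _ _ (h j hj)).of_iso
      ((homologyQIso P j).symm ≪≫ (DH j).mapIso e)
  · intro h
    have hC : ∀ f ∈ s.toList, IsC f (DRing.toD P) := fun f hf n =>
      ((Iso.refl _).homCongr ((shiftFunctor (Dual.D A) n).mapIso e)).subsingleton_congr.2
        (hc f (hs ▸ Ideal.subset_span (Finset.mem_toList.1 hf)) n)
    have := exactAt_of_tensor_exact c s.toList P hfl hC fun N hN i hi => by
      have hN' : Module.IsTorsionBySet A N I := fun x r => by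
        have : I ≤ (⊤ : Submodule A N).annihilator ⊓ ⊤ := by
          rw [← hs, Ideal.span_le]
          exact fun g hg => ⟨Submodule.mem_annihilator.2 fun y _ => hN g (Finset.mem_toList.2 hg) y, trivial⟩
        exact Submodule.mem_annihilator.1 (this r.2).1 x trivial
      letI := hN'.module
      haveI : IsScalarTower A (A ⧸ I) N :=
        ⟨fun r z x => by
          obtain ⟨z, rfl⟩ := Ideal.Quotient.mk_surjective z
          exact mul_smul r z x⟩
      exact DRingPC.exactAt_tensor_of_above (S := A ⧸ I) hP c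
        (fun j hj => (DRingPC.subsingleton_LTensor_iff _ hP e j).1 (h j hj)) N i hi
    intro i hi
    refine ModuleCat.subsingleton_of_isZero (IsZero.of_iso
      ((HomologicalComplex.exactAt_iff_isZero_homology _ _).1 (this i hi))
      ((DH i).mapIso e.symm ≪≫ homologyQIso P i))

theorem isZero_of_tensor_isZero (I : Ideal A) (hI : I.FG) [DRing.HasLTensor A (ModuleCat.of A (A ⧸ I))]
    (K : Dual.D A) (hc : DRing.IsDerivedComplete I K)
    (h0 : IsZero ((DRing.LTensor A (ModuleCat.of A (A ⧸ I))).obj K)) : IsZero K := by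
  refine isZero_of_forall_isZero K fun n => ?_
  exact @ModuleCat.isZero_of_subsingleton _ _ _ ((homology_above_iff I hI K hc (n - 1)).2
    (fun i _ => ModuleCat.subsingleton_of_isZero ((DH i).map_isZero h0)) n (by lia))

end Groth.Agent.DComplete
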