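import Groth.Agent.DComplete.Amplitude
import Groth.Agent.DComplete.Nakayama
import Groth.Agent.DComplete.Adic
import Mathlib.RingTheory.AdicCompletion.AsTensorProduct
import Mathlib.RingTheory.AdicCompletion.Completeness

/-!
# Derived completion over a Noetherian ring
-/

set_option autoImplicit false
set_option linter.style.haveILetI false
universe u

open CategoryTheory CategoryTheory.Limits CategoryTheory.Pretriangulated
open CategoryTheory.MonoidalCategory
open Groth.Agent.PCohLib Groth.Agent.DRingPC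
open CochainComplex (mappingCone)
open scoped TensorProduct

attribute [local instance] HasDerivedCategory.standard

namespace Groth.Agent.DComplete

variable {A : Type u} [CommRing A]

local notation "CH" => HomologicalComplex.homologyFunctor (ModuleCat A) (ComplexShape.up ℤ)
local notation "DH" => DerivedCategory.homologyFunctor (ModuleCat A)

theorem conj_smul {C : Type*} [Category C] [Preadditive C] [Linear A C] {X Y : C} (a : X ≅ Y) (f : A) :
    a.hom ≫ (f • 𝟙 Y) ≫ a.inv = f • 𝟙 X := by
  simp

theorem homology_smul (C : Dual.D A) (f : A) (n : ℤ) :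
    (DH n).map (f • 𝟙 C) = f • 𝟙 ((DH n).obj C) := by
  obtain ⟨P, ⟨e⟩⟩ : ∃ P, Nonempty ((DerivedCategory.Q (C := ModuleCat.{u} A)).obj P ≅ C) :=
    ⟨_, ⟨DerivedCategory.Q.objObjPreimageIso C⟩⟩
  have h1 : f • 𝟙 C = e.inv ≫ DerivedCategory.Q.map (f • 𝟙 P) ≫ e.hom := by
    rw [Functor.map_smul, DerivedCategory.Q.map_id, Linear.smul_comp, Category.id_comp, Linear.comp_smul, e.inv_hom_id]
  have h2 : (CH n).map (f • 𝟙 P) = f • 𝟙 ((CH n).obj P) :=
    (ShortComplex.homologyMap_smul (φ := 𝟙 (P.sc n)) f).trans (by rw [ShortComplex.homologyMap_id]; rfl)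
  let φ := DerivedCategory.homologyFunctorFactors (ModuleCat.{u} A) n
  let a : (DH n).obj C ≅ (CH n).obj P := (DH n).mapIso e.symm ≪≫ φ.app P
  refine Eq.trans ?_ (conj_smul a f)
  rw [h1, Functor.map_comp, Functor.map_comp]
  have h3 : (DH n).map (DerivedCategory.Q.map (f • 𝟙 P)) = φ.hom.app P ≫ (CH n).map (f • 𝟙 P) ≫ φ.inv.app P :=
    (NatIso.naturality_2 φ _).symm
  rw [h3, h2]
  exact (congrArg ((DH n).map e.inv ≫ ·) ((Category.assoc _ _ _).trans
    (congrArg (φ.hom.app P ≫ ·) (Category.assoc _ _ _)))).trans (Category.assoc _ _ _).symm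

theorem conj_aux {C : Type*} [Category C] {X Y Y' W X' : C} (j : X ≅ Y) (α : Y ⟶ Y') (ι : W ≅ Y')
    (G : Y' ⟶ X') (β : X ⟶ X') (h : j.inv ≫ β = α ≫ G) :
    (j.hom ≫ α ≫ ι.inv) ≫ ι.hom ≫ G = β := by
  simp [← h]

theorem chain_aux {C : Type*} [Category C] {K Q Q' P P' GP GK : C} (ei : K ⟶ Q) (g : Q ⟶ Q')
    (φP : Q ⟶ P) (φ' : Q' ⟶ P') (uh : P ⟶ P') (ι : P' ⟶ GP) (Gk : GP ⟶ GK) (unitP : P ⟶ GP)
    (unitK : K ⟶ GK) (hnat : g ≫ φ' = φP ≫ uh) (hι : uh ≫ ι = unitP)
    (hk : (ei ≫ φP) ≫ unitP ≫ Gk = unitK) : ei ≫ g ≫ φ' ≫ ι ≫ Gk = unitK := by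
  rw [reassoc_of% hnat, reassoc_of% hι, ← hk, Category.assoc]

/-- Objects killed by reduction have no maps to complete objects. -/
theorem orth (l : List A) : ∀ (P : DRing.Cx A), (∀ j, Module.Flat A (P.X j)) →
    (∀ N : ModuleCat.{u} A, (∀ f ∈ l, ∀ x : N, f • x = 0) → ∀ i, ((tcx N).obj P).ExactAt i) →
    ∀ L : Dual.D A, (∀ f ∈ l, IsC f L) → ∀ h : DRing.toD P ⟶ L, h = 0 := by
  induction l with
  | nil =>
    intro P _ h L _ g
    have hz : IsZero (DRing.toD P) := isZero_of_forall_isZero _ fun n =>
      ((HomologicalComplex.exactAt_iff_isZero_homology _ _).1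
        (DRingPC.exactAt_of_tensor_unit P n (h _ (fun f hf => absurd hf List.not_mem_nil) n))).of_iso
        (homologyQIso P n)
    exact hz.eq_of_src _ _
  | cons f l ih =>
    intro P hfl h
    let P' : DRing.Cx A := mappingCone (f • 𝟙 P)
    have hfl' : ∀ j, Module.Flat A (P'.X j) := fun j => by
      haveI := hfl (j + 1); haveI := hfl j
      haveI : Module.Flat A ((P.X (j + 1) : ModuleCat.{u} A) × (P.X j : ModuleCat.{u} A)) := flat_prod _ _
      exact Module.Flat.of_linearEquiv (N := P'.X j) (M := (P.X (j + 1) : ModuleCat.{u} A) × (P.X j : ModuleCat.{u} A))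
        ((HomologicalComplex.homotopyCofiber.XIsoBiprod (f • 𝟙 P) j (j + 1) rfl ≪≫
          ModuleCat.biprodIsoProd _ _).toLinearEquiv)
    have hP' := ih P' hfl' (fun N hN j => by
      refine HomologicalComplex.ExactAt.of_iso ?_
        (CochainComplex.mappingCone.mapHomologicalComplexIso (f • 𝟙 P) (tensorLeft N)).symm
      have hk : ∀ j, ((tcx (ModuleCat.of A (LinearMap.ker (LinearMap.lsmul A N f)))).obj P).ExactAt j :=
        h _ fun g hg x => Subtype.ext (by
          rcases List.mem_cons.1 hg with rfl | hg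
          · exact x.2
          · exact hN g hg x.1)
      have hc : ∀ j, ((tcx (ModuleCat.of A (N ⧸ LinearMap.range (LinearMap.lsmul A N f)))).obj P).ExactAt j :=
        h _ fun g hg x => by
          obtain ⟨x, rfl⟩ := Submodule.mkQ_surjective _ x
          rw [← map_smul]
          rcases List.mem_cons.1 hg with rfl | hg
          · exact (Submodule.Quotient.mk_eq_zero _).2 ⟨x, rfl⟩
          · rw [hN g hg x, map_zero]
      have := epi_mono_smul P hfl f N (j - 1) (fun i _ => hk i) (fun i _ => hc i) j (by lia)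
      exact exactAt_cone _ j this.1 this.2)
    obtain ⟨a, b, hT⟩ := Q_triangle (f • 𝟙 P)
    let g := DerivedCategory.Q.map (f • 𝟙 P)
    have hsurj : ∀ L : Dual.D A, (∀ g ∈ f :: l, IsC g L) → ∀ x : DRing.toD P ⟶ L, ∃ β, g ≫ β = x := by
      intro L hL x
      have h0 : Subsingleton (DRing.toD P' ⟶ L⟦(1 : ℤ)⟧) :=
        subsingleton_of_forall_eq 0 (hP' _ fun q hq => (hL q (List.mem_cons_of_mem _ hq)).shift 1)
      have h1 := (subsingleton_shift_neg_iff (DRing.toD P') L 1).2 h0
      obtain ⟨β, hβ⟩ := Triangle.yoneda_exact₂ _ (inv_rot_of_distTriang _ hT) x (h1.elim _ _)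
      exact ⟨β, hβ.symm⟩
    obtain ⟨C, η, hC, hL⟩ := exists_completion (f :: l) (DRing.toD P)
    obtain ⟨β, hβ⟩ := hsurj C hC η
    obtain ⟨α, hα⟩ := (hL C hC).2 β
    simp only at hα
    have hid : f • α = 𝟙 C := (hL C hC).1 (by
      show η ≫ (f • α) = η ≫ 𝟙 C
      rw [Linear.comp_smul, hα, Category.comp_id, ← hβ]
      simp [g, Functor.map_smul])
    have hCz : IsZero C := by
      refine isZero_of_forall_isZero C fun n => ?_
      have hH : f • (DH n).map α = 𝟙 ((DH n).obj C) := by
        rw [← (DH n).map_id, ← hid, show f • α = α ≫ (f • 𝟙 C) by rw [Linear.comp_smul, Category.comp_id],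
          Functor.map_comp, homology_smul, Linear.comp_smul, Category.comp_id]
      haveI : Subsingleton ((DH n).obj C) := by
        refine subsingleton_of_forall_eq 0 fun x => ?_
        let φ := fun x => ((DH n).map α).hom x
        have hφ : ∀ x, f • φ x = x := fun x => congrArg (fun u => u.hom x) hH
        exact congrFun (((isC_iff f C).1 (hC f List.mem_cons_self) n).eq_zero (fun k => φ^[k] x) fun k => by
          show φ^[k] x = f • φ^[k + 1] x
          rw [Function.iterate_succ_apply']; exact (hφ _).symm) 0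
      exact ModuleCat.isZero_of_subsingleton _
    intro L hL' x
    obtain ⟨y, hy⟩ := (hL L hL').2 x
    simp only at hy
    rw [← hy, hCz.eq_of_src y 0, comp_zero]

section Completion

variable (I : Ideal A)

local notation "Â" => AdicCompletion I A

/-- Killing lemma. -/
theorem bijective_tmul_one_killed [IsNoetherianRing A] (N : Type u) [AddCommGroup N] [Module A N]
    (hN : ∀ f ∈ I, ∀ x : N, f • x = 0) :
    Function.Bijective ((TensorProduct.mk A N Â).flip 1) := by
  have hT : Module.IsTorsionBySet A N I := fun x r => hN r.1 r.2 x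
  letI := hT.module
  haveI : IsScalarTower A (A ⧸ I) N := ⟨fun r z x => by
    obtain ⟨z, rfl⟩ := Ideal.Quotient.mk_surjective z
    exact mul_smul r z x⟩
  let r : N ⊗[A] Â →ₗ[A] N := TensorProduct.lift (LinearMap.mk₂ A
    (fun n a => AdicCompletion.evalOneₐ I a • n) (fun _ _ _ => smul_add _ _ _)
    (fun c n a => smul_comm _ c n) (fun n a b => by rw [map_add, add_smul])
    (fun c n a => by rw [map_smul, smul_assoc]))
  refine ⟨fun x y hxy => ?_, fun t => ?_⟩
  · simpa [r] using congrArg r hxy
  · induction t using TensorProduct.induction_on with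
    | zero => exact ⟨0, map_zero _⟩
    | add a b ha hb =>
      obtain ⟨a, rfl⟩ := ha; obtain ⟨b, rfl⟩ := hb
      exact ⟨a + b, map_add _ _ _⟩
    | tmul n a =>
      obtain ⟨c, hc⟩ := Ideal.Quotient.mk_surjective (AdicCompletion.evalOneₐ I a)
      refine ⟨c • n, sub_eq_zero.1 ?_⟩
      have hker : a - algebraMap A Â c ∈ I.map (algebraMap A Â) := by
        rw [← AdicCompletion.ker_evalOneₐ_eq_map I (IsNoetherian.noetherian I), RingHom.mem_ker, map_sub, sub_eq_zero]
        exact hc.symm.trans (AlgHom.commutes _ c).symm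
      have hz : ∀ z ∈ (I • ⊤ : Submodule A Â), n ⊗ₜ[A] z = 0 := fun z hz => by
        refine Submodule.smul_induction_on hz (fun f hf w _ => ?_) fun x y hx hy => by
          rw [TensorProduct.tmul_add, hx, hy, add_zero]
        rw [← TensorProduct.smul_tmul, hN f hf, TensorProduct.zero_tmul]
      have := hz _ (show a - algebraMap A Â c ∈ (I • ⊤ : Submodule A Â) by
        rw [Ideal.smul_top_eq_map]; exact hker)
      rw [TensorProduct.tmul_sub, sub_eq_zero] at this
      show (c • n) ⊗ₜ[A] (1 : Â) - n ⊗ₜ[A] a = 0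
      rw [this, TensorProduct.smul_tmul, Algebra.algebraMap_eq_smul_one, sub_self]

/-- The functor `Â ⊗ -`. -/
noncomputable abbrev cmp : ModuleCat.{u} A ⥤ ModuleCat.{u} A :=
  ModuleCat.extendScalars.{u, u, u} (algebraMap A Â) ⋙ ModuleCat.restrictScalars.{u} (algebraMap A Â)

/-- Its unit. -/
noncomputable abbrev cmpUnit : 𝟭 (ModuleCat.{u} A) ⟶ cmp I :=
  (ModuleCat.extendRestrictScalarsAdj (algebraMap A Â)).unit

/-- Its value. -/
noncomputable def cmpEquiv (M : ModuleCat.{u} A) : (cmp I).obj M ≃ₗ[A] Â ⊗[A] M where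
  toFun x := (extendLEquiv A Â M).symm x
  invFun x := extendLEquiv A Â M x
  left_inv x := (extendLEquiv A Â M).apply_symm_apply x
  right_inv x := (extendLEquiv A Â M).symm_apply_apply x
  map_add' x y := map_add (extendLEquiv A Â M).symm x y
  map_smul' a x := ((extendLEquiv A Â M).symm.map_smul (algebraMap A Â a) x).trans (algebraMap_smul Â a _)

/-- The value at a finite module. -/
noncomputable def cmpAdic [IsNoetherianRing A] (M : ModuleCat.{u} A) [Module.Finite A M] :
    (cmp I).obj M ≃ₗ[A] AdicCompletion I M :=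
  (cmpEquiv I M).trans ((AdicCompletion.ofTensorProductEquivOfFiniteNoetherian I M).restrictScalars A)

theorem cmpAdic_unit [IsNoetherianRing A] (M : ModuleCat.{u} A) [Module.Finite A M] (x : M) :
    cmpAdic I M (((cmpUnit I).app M).hom x) = AdicCompletion.of I M x := by
  show AdicCompletion.ofTensorProduct I M
    ((extendLEquiv A Â M).symm ((extendLEquiv A Â M) ((1 : Â) ⊗ₜ[A] x))) = _
  rw [LinearEquiv.symm_apply_apply, AdicCompletion.ofTensorProduct_tmul, one_smul]

instance [IsNoetherianRing A] : PreservesFiniteLimits (cmp I) :=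
  haveI := ModuleCat.preservesFiniteLimits_extendScalars_of_flat
    (RingHom.flat_algebraMap_iff.2 (AdicCompletion.flat_of_isNoetherian I))
  comp_preservesFiniteLimits _ _

instance [IsNoetherianRing A] : PreservesFiniteColimits (cmp I) :=
  haveI := (ModuleCat.extendRestrictScalarsAdj (algebraMap A Â)).leftAdjoint_preservesColimits.{0, 0}
  comp_preservesFiniteColimits _ _

instance : (ModuleCat.extendScalars.{u, u, u} (algebraMap A Â)).Additive :=
  (ModuleCat.extendRestrictScalarsAdj (algebraMap A Â)).left_adjoint_additive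

/-- The completed complex. -/
noncomputable abbrev cmpCx : DRing.Cx A ⥤ DRing.Cx A := (cmp I).mapHomologicalComplex (ComplexShape.up ℤ)

/-- The map to it. -/
noncomputable def cmpMap (P : DRing.Cx A) : P ⟶ (cmpCx I).obj P where
  f i := (cmpUnit I).app (P.X i)
  comm' i j _ := ((cmpUnit I).naturality (P.d i j)).symm

theorem exists_homology_iso [IsNoetherianRing A] (P : DRing.Cx A) (n : ℤ) :
    ∃ ι : ((cmpCx I).obj P).homology n ≅ (cmp I).obj (P.homology n),
      HomologicalComplex.homologyMap (cmpMap I P) n ≫ ι.hom = (cmpUnit I).app (P.homology n) := by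
  let j := (P.sc n).mapHomologyIso (𝟭 (ModuleCat.{u} A))
  let ι₀ := (P.sc n).mapHomologyIso (cmp I)
  have h : HomologicalComplex.homologyMap (cmpMap I P) n =
      j.hom ≫ (cmpUnit I).app (P.homology n) ≫ ι₀.inv :=
    ShortComplex.homologyMap_mapNatTrans (P.sc n) (cmpUnit I)
  refine ⟨ι₀ ≪≫ (cmp I).mapIso j.symm, ?_⟩
  rw [h]
  exact conj_aux j _ ι₀ _ _ ((cmpUnit I).naturality j.inv)

theorem exists_equiv_adicCompletion [IsNoetherianRing A] [DRing.HasDerivedCompletion I] (K : Dual.D A)
    (hK : ∀ n : ℤ, Module.Finite A (Dual.HD A K n)) (n : ℤ) :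
    ∃ e : Dual.HD A ((DRing.derivedCompletion I).obj K).obj n ≃ₗ[A] AdicCompletion I (Dual.HD A K n),
      ∀ x : Dual.HD A K n,
        e (((DH n).map (DRing.toDerivedCompletion I K)).hom x) = AdicCompletion.of I (Dual.HD A K n) x := by
  obtain ⟨P, -, hfl, ⟨e⟩⟩ := DRingPC.exists_kFlat_rep K
  let φ := DerivedCategory.homologyFunctorFactors (ModuleCat.{u} A)
  let u := cmpMap I P
  let g := DerivedCategory.Q.map u
  choose ι hι using exists_homology_iso I P
  haveI hfin : ∀ i, Module.Finite A (P.homology i) := fun i => by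
    haveI := hK i
    exact Module.Finite.equiv (((DH i).mapIso e.symm ≪≫ (φ i).app P).toLinearEquiv)
  let C : Dual.D A := DRing.toD ((cmpCx I).obj P)
  have hCc : DRing.IsDerivedComplete I C := by
    rw [isDerivedComplete_iff]
    intro f hf i
    haveI : IsAdicComplete I (AdicCompletion I (P.homology i)) :=
      AdicCompletion.isAdicComplete (IsNoetherian.noetherian I)
    exact tele_of_linearEquiv f
      ((cmpAdic I (P.homology i)).symm.trans (((φ i).app _) ≪≫ ι i).toLinearEquiv.symm)
      (tele_of_isAdicComplete I hf)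
  have hflc : ∀ j, Module.Flat A (((cmpCx I).obj P).X j) := fun j => by
    haveI := hfl j
    haveI := AdicCompletion.flat_of_isNoetherian I
    exact Module.Flat.of_linearEquiv (cmpEquiv I (P.X j))
  have hflC : ∀ j, Module.Flat A ((mappingCone u).X j) := fun j => by
    haveI := hfl (j + 1); haveI := hflc j
    haveI : Module.Flat A ((P.X (j + 1) : ModuleCat.{u} A) × (((cmpCx I).obj P).X j : ModuleCat.{u} A)) := flat_prod _ _
    exact Module.Flat.of_linearEquiv
      (N := (mappingCone u).X j) (M := (P.X (j + 1) : ModuleCat.{u} A) × (((cmpCx I).obj P).X j : ModuleCat.{u} A))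
      ((HomologicalComplex.homotopyCofiber.XIsoBiprod u j (j + 1) rfl ≪≫
        ModuleCat.biprodIsoProd _ _).toLinearEquiv)
  obtain ⟨l, hl⟩ := exists_list_of_fg (IsNoetherian.noetherian I)
  have horth : ∀ E, DRing.IsDerivedComplete I E → ∀ x : DRing.toD (mappingCone u) ⟶ E, x = 0 := fun E hE =>
    orth l _ hflC (fun N hN i => by
      refine HomologicalComplex.ExactAt.of_iso ?_
        (CochainComplex.mappingCone.mapHomologicalComplexIso u (tensorLeft N)).symm
      have hN' : ∀ f ∈ I, ∀ x : N, f • x = 0 := by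
        intro f hf x
        refine Submodule.mem_annihilator.1 ((?_ : I ≤ (⊤ : Submodule A N).annihilator) hf) x trivial
        rw [← hl, Ideal.span_le]
        exact fun g hg => Submodule.mem_annihilator.2 fun y _ => hN g hg y
      haveI : IsIso ((tcx N).map u) := by
        haveI : ∀ j, IsIso (((tcx N).map u).f j) := fun j => (ConcreteCategory.isIso_iff_bijective _).2 (by
          let k := LinearEquiv.ofBijective _ (bijective_tmul_one_killed I N hN')
          let Φ : N ⊗[A] (P.X j) ≃ₗ[A] N ⊗[A] ((cmp I).obj (P.X j)) :=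
            ((k.rTensor (P.X j)).trans (TensorProduct.assoc A N Â (P.X j))).trans
              (TensorProduct.congr (LinearEquiv.refl A N) (cmpEquiv I (P.X j)).symm)
          have : ∀ t : N ⊗[A] (P.X j), ((tensorLeft N).map (u.f j)).hom t = Φ t := fun t => by
            induction t using TensorProduct.induction_on with
            | zero => exact (map_zero _).trans (map_zero _).symm
            | tmul a b => rfl
            | add a b ha hb => exact (map_add _ _ _).trans ((congrArg₂ (· + ·) ha hb).trans (map_add _ _ _).symm)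
          exact (funext this : _ = ⇑Φ) ▸ Φ.bijective)
        exact HomologicalComplex.Hom.isIso_of_components _
      exact exactAt_cone _ i inferInstance inferInstance) E
      fun f hf => isC_of_mem hE (hl ▸ Ideal.subset_span hf)
  obtain ⟨a, b, hT⟩ := Q_triangle u
  have huniv : ∀ E, DRing.IsDerivedComplete I E → Function.Bijective fun α : C ⟶ E => g ≫ α := fun E hE => by
    have h := (forall_shift_hom_subsingleton_iff hT E).1
      (fun m => subsingleton_of_forall_eq 0 (horth _ fun f hf => (isC_of_mem hE hf).shift m)) 0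
    let z : E⟦(0 : ℤ)⟧ ≅ E := (shiftFunctorZero (Dual.D A) ℤ).app E
    refine ⟨fun x y hxy => ?_, fun x => ?_⟩
    · have : x ≫ z.inv = y ≫ z.inv := h.1 (by
        show g ≫ x ≫ z.inv = g ≫ y ≫ z.inv
        exact (Category.assoc _ _ _).symm.trans ((congrArg (· ≫ z.inv) hxy).trans (Category.assoc _ _ _)))
      exact (cancel_mono z.inv).1 this
    · obtain ⟨y, hy⟩ := h.2 (x ≫ z.inv)
      exact ⟨y ≫ z.hom, (Category.assoc _ _ _).symm.trans ((congrArg (· ≫ z.hom) hy).trans (by simp))⟩
  let η : K ⟶ C := e.inv ≫ g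
  have huniv' : ∀ E, DRing.IsDerivedComplete I E → Function.Bijective fun α : C ⟶ E => η ≫ α := fun E hE => by
    have := e.symm.homCongr (Iso.refl E) |>.bijective
    refine ⟨fun x y hxy => (huniv E hE).1 ((cancel_epi e.inv).1 (by simpa [η] using hxy)), fun x => ?_⟩
    obtain ⟨y, hy⟩ := (huniv E hE).2 (e.hom ≫ x)
    exact ⟨y, by simp only at hy; simp [η, hy]⟩
  obtain ⟨w, hw⟩ := (unit_bijective K hCc).2 η
  obtain ⟨v, hv⟩ := (huniv' _ ((DRing.derivedCompletion I).obj K).property).2 (DRing.toDerivedCompletion I K)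
  simp only at hw hv
  let E : ((DRing.derivedCompletion I).obj K).obj ≅ C :=
    ⟨w, v, (unit_bijective K ((DRing.derivedCompletion I).obj K).property).1 (by
      simp only [reassoc_of% hw, hv, Category.comp_id]),
      (huniv' C hCc).1 (by simp only [reassoc_of% hv, hw, Category.comp_id])⟩
  haveI : Module.Finite A ((DH n).obj K) := hK n
  let κ : (DH n).obj K ≅ P.homology n := (DH n).mapIso e.symm ≪≫ (φ n).app P
  let ω : (DH n).obj ((DRing.derivedCompletion I).obj K).obj ≅ (cmp I).obj ((DH n).obj K) :=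
    (DH n).mapIso E ≪≫ (φ n).app _ ≪≫ ι n ≪≫ (cmp I).mapIso κ.symm
  refine ⟨ω.toLinearEquiv.trans (cmpAdic I ((DH n).obj K)), fun x => ?_⟩
  have key : (DH n).map (DRing.toDerivedCompletion I K) ≫ ω.hom = (cmpUnit I).app ((DH n).obj K) := by
    simp only [ω, Iso.trans_hom, Functor.mapIso_hom]
    rw [← Functor.map_comp_assoc, hw]
    simp only [η, Functor.map_comp, Category.assoc]
    refine chain_aux _ _ ((φ n).hom.app P) _ _ _ _ _ _ ((φ n).hom.naturality u) (hι n) ?_
    have h3 : κ.inv ≫ (cmpUnit I).app ((DH n).obj K) = (cmpUnit I).app (P.homology n) ≫ (cmp I).map κ.inv :=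
      (cmpUnit I).naturality κ.inv
    show κ.hom ≫ (cmpUnit I).app (P.homology n) ≫ (cmp I).map κ.inv = _
    exact (congrArg (κ.hom ≫ ·) h3.symm).trans (κ.hom_inv_id_assoc _)
  exact (congrArg (cmpAdic I ((DH n).obj K)) (congrArg (fun t => t.hom x) key)).trans (cmpAdic_unit I _ x)

end Completion

end Groth.Agent.DComplete
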