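import Groth.Agent.DComplete.Adic
import Groth.Agent.DComplete.Hensel
import Mathlib.RingTheory.PowerSeries.Ideal
import Mathlib.RingTheory.AdicCompletion.Algebra
import Mathlib.RingTheory.Filtration
import Mathlib.RingTheory.Finiteness.Cardinality

/-!
Derived complete modules over Noetherian rings as modules over Noetherian complete rings; derived
complete modules whose reduction is finite.
-/

set_option autoImplicit false
universe u

open PowerSeries

namespace Groth.Agent.DComplete

section OneStep

variable {R : Type u} [CommRing R] {M : Type u} [AddCommGroup M] [Module R M] {f : R}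

lemma tele_powerSeries_X : Tele (smulEnd (PowerSeries R) (X : PowerSeries R)) := by
  refine ⟨fun x y hxy => sub_eq_zero.1 ?_, fun m => ?_⟩
  · have hz : ∀ n, (x - y) n = X * (x - y) (n + 1) := fun n => by
      have := congrFun hxy n
      simp only [teleMap, DistribSMul.toAddMonoidHom_apply, smul_eq_mul] at this
      simp only [Pi.sub_apply, mul_sub]
      rwa [sub_eq_sub_iff_sub_eq_sub] at this
    have : ∀ k n, coeff k ((x - y) n) = 0 := fun k => by
      induction k with
      | zero => intro n; rw [hz n, coeff_zero_X_mul]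
      | succ k ih => intro n; rw [hz n, coeff_succ_X_mul, ih]
    funext n
    exact PowerSeries.ext fun k => by rw [this k n, Pi.zero_apply, map_zero]
  · refine ⟨fun n => mk fun k => ∑ j ∈ Finset.range (k + 1), coeff (k - j) (m (n + j)),
      funext fun n => PowerSeries.ext fun k => ?_⟩
    simp only [teleMap, DistribSMul.toAddMonoidHom_apply, smul_eq_mul, map_sub]
    rcases k with _ | k
    · simp [-coeff_zero_eq_constantCoeff, coeff_zero_X_mul]
    · rw [coeff_succ_X_mul, coeff_mk, coeff_mk, Finset.sum_range_succ']
      simp only [Nat.add_sub_add_right, add_zero, Nat.sub_zero, add_assoc, add_comm 1]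
      rw [add_sub_cancel_left]

/-- Coefficients of power series. -/
noncomputable def coeffEquiv : (ℕ → R) ≃+ PowerSeries R where
  toFun := mk
  invFun p n := coeff n p
  left_inv g := funext fun n => coeff_mk n g
  right_inv p := PowerSeries.ext fun n => coeff_mk n _
  map_add' g g' := PowerSeries.ext fun n => by simp

lemma tele_powerSeries_C {g : R} (h : Tele (smulEnd R g)) :
    Tele (smulEnd (PowerSeries R) (C g : PowerSeries R)) :=
  tele_of_bijective (tele_pi (X := fun _ : ℕ => R) g fun _ => h) coeffEquiv fun x => by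
    refine PowerSeries.ext fun n => ?_
    simp [coeffEquiv, coeff_C_mul]

/-- The action of a power series on a derived complete module. -/
noncomputable def act (h : Tele (smulEnd M f)) (p : PowerSeries R) (m : M) : M :=
  h.sol fun n => coeff n p • m

/-- Removing the constant term. -/
noncomputable def shift (p : PowerSeries R) : PowerSeries R := mk fun n => coeff (n + 1) p

variable (h : Tele (smulEnd M f))

lemma act_add (p : PowerSeries R) (m m' : M) : act h p (m + m') = act h p m + act h p m' := by
  refine (congrArg h.sol (funext fun n => ?_)).trans (h.sol_add _ _)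
  exact smul_add _ _ _

lemma add_act (p q : PowerSeries R) (m : M) : act h (p + q) m = act h p m + act h q m := by
  refine (congrArg h.sol (funext fun n => ?_)).trans (h.sol_add _ _)
  simp [add_smul]

lemma act_X_mul (p : PowerSeries R) (m : M) : act h (X * p) m = f • act h p m := by
  refine (h.sol_succ _).trans ?_
  simp only [coeff_succ_X_mul, coeff_zero_X_mul, zero_smul, zero_add]
  rfl

lemma act_C_mul (c : R) (p : PowerSeries R) (m : M) : act h (C c * p) m = c • act h p m := by
  refine Eq.trans ?_ (h.sol_map h (smulEnd M c) (fun x => smul_comm c f x) _).symm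
  refine congrArg h.sol (funext fun n => ?_)
  simp [coeff_C_mul, mul_smul]

lemma one_act (m : M) : act h 1 m = m := by
  refine (h.sol_eq (x := fun n => if n = 0 then m else 0) fun n => ?_).trans (if_pos rfl)
  simp only [DistribSMul.toAddMonoidHom_apply, Nat.succ_ne_zero, if_false, smul_zero, sub_zero,
    coeff_one]
  split <;> simp

lemma mul_act (p q : PowerSeries R) (m : M) : act h (p * q) m = act h p (act h q m) := by
  rw [← sub_eq_zero]
  refine congrFun (h.eq_zero (fun n => act h (shift^[n] p * q) m - act h (shift^[n] p) (act h q m))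
    fun n => ?_) 0
  simp only [DistribSMul.toAddMonoidHom_apply, Function.iterate_succ_apply']
  generalize shift^[n] p = r
  have hC : ∀ (c : R) (y : M), act h (C c) y = c • y := fun c y => by
    rw [← mul_one (C c), act_C_mul, one_act]
  conv_lhs => rw [eq_X_mul_shift_add_const r]
  simp only [add_mul, add_act, mul_assoc, act_X_mul, act_C_mul, hC, smul_sub, shift]
  abel

/-- The ring map giving the action. -/
noncomputable def actHom : PowerSeries R →+* AddMonoid.End M where
  toFun p := AddMonoidHom.mk' (act h p) (act_add h p)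
  map_one' := AddMonoidHom.ext (one_act h)
  map_mul' p q := AddMonoidHom.ext (mul_act h p q)
  map_zero' := AddMonoidHom.ext fun m => add_eq_left.1 ((add_act h 0 0 m).symm.trans (by rw [add_zero]))
  map_add' p q := AddMonoidHom.ext (add_act h p q)

lemma actHom_C (c : R) (m : M) : actHom h (C c) m = c • m := by
  show act h (C c) m = c • m
  rw [← mul_one (C c), act_C_mul, one_act]

lemma actHom_X (m : M) : actHom h X m = f • m := by
  show act h X m = f • m
  rw [← mul_one X, act_X_mul, one_act]

end OneStep

variable {A : Type u} [CommRing A] [IsNoetherianRing A]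
variable {M : Type u} [AddCommGroup M] [Module A M]

lemma exists_ring (s : List A) (h : ∀ f ∈ s, Tele (smulEnd M f)) :
    ∃ (R : Type u) (_ : CommRing R) (_ : IsNoetherianRing R) (ψ : R →+* AddMonoid.End M)
      (α : A →+* R), (∀ a m, ψ (α a) m = a • m) ∧
      ∀ f ∈ s, ∃ g : R, Tele (smulEnd R g) ∧ ∀ m : M, ψ g m = f • m := by
  induction s with
  | nil =>
    exact ⟨A, inferInstance, inferInstance, Module.toAddMonoidEnd A M, RingHom.id A,
      fun _ _ => rfl, by simp⟩
  | cons f s ih =>
    obtain ⟨R, _, _, ψ, α, hα, hg⟩ := ih fun g hg => h g (List.mem_cons_of_mem _ hg)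
    letI : Module R M := Module.compHom M ψ
    have hf : Tele (smulEnd M (α f)) := by
      convert h f List.mem_cons_self
      exact AddMonoidHom.ext (hα f)
    refine ⟨PowerSeries R, inferInstance, inferInstance, actHom hf, C.comp α,
      fun a m => (actHom_C hf _ m).trans (hα a m), fun g hgs => ?_⟩
    rcases List.mem_cons.1 hgs with rfl | hgs
    · exact ⟨X, tele_powerSeries_X, fun m => (actHom_X hf m).trans (hα g m)⟩
    · obtain ⟨g', hg', he⟩ := hg g hgs
      exact ⟨C g', tele_powerSeries_C hg', fun m => (actHom_C hf _ m).trans (he m)⟩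

omit [IsNoetherianRing A] in
/-- Finite modules over a Noetherian derived complete ring are derived complete. -/
lemma tele_of_finite {R : Type u} [CommRing R] [IsNoetherianRing R] {g : R}
    (hg : Tele (smulEnd R g)) (P : Type u) [AddCommGroup P] [Module R P] [Module.Finite R P] :
    Tele (smulEnd P g) := by
  obtain ⟨b, π, hπ⟩ := Module.Finite.exists_fin' R P
  obtain ⟨a, v, hv⟩ := Module.Finite.exists_fin' R (LinearMap.ker π)
  have h1 := tele_coker g ((LinearMap.ker π).subtype.comp v)
    (tele_pi (X := fun _ : Fin a => R) g fun _ => hg) (tele_pi (X := fun _ : Fin b => R) g fun _ => hg)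
  have he : LinearMap.range ((LinearMap.ker π).subtype.comp v) = LinearMap.ker π := by
    rw [LinearMap.range_comp, LinearMap.range_eq_top.2 hv, Submodule.map_top, Submodule.range_subtype]
  exact tele_of_linearEquiv g
    ((Submodule.quotEquivOfEq _ _ he).trans (LinearMap.quotKerEquivOfSurjective π hπ)) h1

/-- A derived complete module is a module over a Noetherian derived complete algebra. -/
lemma exists_algebra (s : List A) (h : ∀ f ∈ s, Tele (smulEnd M f)) :
    ∃ (R : Type u) (_ : CommRing R) (_ : IsNoetherianRing R) (ψ : R →+* AddMonoid.End M)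
      (α : A →+* R), (∀ a m, ψ (α a) m = a • m) ∧ ∀ f ∈ s, Tele (smulEnd R (α f)) := by
  obtain ⟨R, _, _, ψ, α, hα, hg⟩ := exists_ring s h
  refine ⟨R ⧸ RingHom.ker ψ, inferInstance, inferInstance, RingHom.kerLift ψ,
    (Ideal.Quotient.mk _).comp α, fun a m => hα a m, fun f hf => ?_⟩
  obtain ⟨g, hg, he⟩ := hg f hf
  have hfg : (Ideal.Quotient.mk (RingHom.ker ψ)).comp α f = Ideal.Quotient.mk _ g := by
    rw [RingHom.comp_apply, Ideal.Quotient.eq, RingHom.mem_ker, map_sub, sub_eq_zero]
    exact AddMonoidHom.ext fun m => (hα f m).trans (he m).symm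
  rw [hfg]
  exact tele_of_bijective (tele_of_finite hg (R ⧸ RingHom.ker ψ)) (AddEquiv.refl _) fun x => by
    simp [Algebra.smul_def]

/-- A derived complete module with finite reduction is Hausdorff. -/
lemma isHausdorff_of_finite_quotient (I : Ideal A) (h : ∀ f ∈ I, Tele (smulEnd M f))
    (hf : Module.Finite A (M ⧸ I • (⊤ : Submodule A M))) : IsHausdorff I M := by
  obtain ⟨s, rfl⟩ := exists_list_of_fg (IsNoetherian.noetherian I)
  obtain ⟨R, _, _, ψ, α, hα, hR⟩ := exists_algebra s fun f hf => h f (Ideal.subset_span hf)
  letI : Module R M := Module.compHom M ψ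
  have hsm : ∀ (a : A) (m : M), α a • m = a • m := hα
  set J := Ideal.span {x | x ∈ s.map α}
  have hIJ : Ideal.span {x | x ∈ s} ≤ J.comap α := Ideal.span_le.2 fun x hx =>
    Ideal.subset_span (List.mem_map_of_mem hx)
  have hsub : ∀ n, ∀ x ∈ (Ideal.span {x | x ∈ s} ^ n • ⊤ : Submodule A M),
      x ∈ (J ^ n • ⊤ : Submodule R M) := fun n x hx =>
    Submodule.smul_induction_on hx (fun a ha m _ => hsm a m ▸
      Submodule.smul_mem_smul ((Ideal.le_comap_pow α n) (Ideal.pow_right_mono hIJ n ha)) trivial)
      fun _ _ => Submodule.add_mem _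
  have hJ : ∀ g ∈ s.map α, Tele (smulEnd R g) := fun g hg => by
    obtain ⟨f, hf, rfl⟩ := List.mem_map.1 hg
    exact hR f hf
  obtain ⟨k, π, hπ⟩ := Module.Finite.exists_fin' A (M ⧸ Ideal.span {x | x ∈ s} • (⊤ : Submodule A M))
  choose m hm using fun j => Submodule.Quotient.mk_surjective _ (π (Pi.single j 1))
  set N := Submodule.span R (Set.range m)
  haveI : Module.Finite R N := Module.Finite.span_of_finite R (Set.finite_range m)
  have hC : Subsingleton (M ⧸ LinearMap.range N.subtype) := by
    refine subsingleton_of_smul_top_eq (s.map α) (fun g hg => ?_) (eq_top_iff.2 fun x _ => ?_)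
    · refine tele_coker g N.subtype (tele_of_finite (hJ g hg) N) ?_
      obtain ⟨f, hf, rfl⟩ := List.mem_map.1 hg
      convert h f (Ideal.subset_span hf)
      exact AddMonoidHom.ext (hsm f)
    · obtain ⟨y, rfl⟩ := Submodule.Quotient.mk_surjective _ x
      obtain ⟨c, hc⟩ := hπ (Submodule.Quotient.mk y)
      have h1 : y - ∑ j, c j • m j ∈ (Ideal.span {x | x ∈ s} • ⊤ : Submodule A M) := by
        rw [← Submodule.Quotient.mk_eq_zero, Submodule.Quotient.mk_sub, ← Submodule.mkQ_apply,
          ← Submodule.mkQ_apply, map_sum, sub_eq_zero, Submodule.mkQ_apply, ← hc]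
        conv_lhs => rw [pi_eq_sum_univ' c, map_sum]
        exact Finset.sum_congr rfl fun j _ => by
          rw [map_smul, map_smul, Submodule.mkQ_apply, hm]
      have h2 : (∑ j, c j • m j) ∈ LinearMap.range N.subtype := by
        rw [Submodule.range_subtype]
        exact Submodule.sum_mem _ fun j _ => by
          rw [← hsm]; exact Submodule.smul_mem _ _ (Submodule.subset_span ⟨j, rfl⟩)
      have h3 : y - ∑ j, c j • m j ∈ (J • ⊤ : Submodule R M) := by
        simpa using hsub 1 _ (by simpa using h1)
      have h4 := Submodule.mem_map_of_mem (f := (LinearMap.range N.subtype).mkQ) h3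
      rw [Submodule.map_smul'', Submodule.map_top, Submodule.range_mkQ, map_sub,
        Submodule.mkQ_apply, Submodule.mkQ_apply, (Submodule.Quotient.mk_eq_zero _).2 h2,
        sub_zero] at h4
      exact h4
  haveI : Module.Finite R M := by
    have hN : N = ⊤ := by
      rw [← Submodule.range_subtype N]
      exact Submodule.Quotient.subsingleton_iff.1 hC
    rw [Module.finite_def, ← hN]
    exact Submodule.fg_span (Set.finite_range m)
  refine ⟨fun x hx => ?_⟩
  have hle : J ≤ Ideal.jacobson ⊥ :=
    le_jacobson J fun g hg => tele_of_mem_span hJ hg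
  have h0 := Ideal.iInf_pow_smul_eq_bot_of_le_jacobson (M := M) J hle
  rw [← Submodule.mem_bot R, ← h0, Submodule.mem_iInf]
  exact fun n => hsub n x (SModEq.zero.1 (hx n))

omit [IsNoetherianRing A] in
/-- The completion of a module with finite reduction is finite over the completion of the ring. -/
lemma finite_adicCompletion (I : Ideal A) (M : Type u) [AddCommGroup M] [Module A M]
    (hf : Module.Finite A (M ⧸ I • (⊤ : Submodule A M))) :
    Module.Finite (AdicCompletion I A) (AdicCompletion I M) := by
  obtain ⟨k, π, hπ⟩ := Module.Finite.exists_fin' A (M ⧸ I • (⊤ : Submodule A M))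
  choose m hm using fun j => Submodule.Quotient.mk_surjective _ (π (Pi.single j 1))
  have key : ∀ n, ∀ r ∈ (I ^ n • ⊤ : Submodule A M), ∃ b : Fin k → A,
      (∀ j, b j ∈ I ^ n) ∧ r - ∑ j, b j • m j ∈ (I ^ (n + 1) • ⊤ : Submodule A M) := fun n r hr => by
    refine Submodule.smul_induction_on hr (fun a ha y _ => ?_) ?_
    · obtain ⟨c, hc⟩ := hπ (Submodule.Quotient.mk y)
      have h1 : y - ∑ j, c j • m j ∈ (I • ⊤ : Submodule A M) := by
        rw [← Submodule.Quotient.mk_eq_zero, Submodule.Quotient.mk_sub, ← Submodule.mkQ_apply,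
          ← Submodule.mkQ_apply, map_sum, sub_eq_zero, Submodule.mkQ_apply, ← hc]
        conv_lhs => rw [pi_eq_sum_univ' c, map_sum]
        exact Finset.sum_congr rfl fun j _ => by
          rw [map_smul, map_smul, Submodule.mkQ_apply, hm]
      refine ⟨fun j => a * c j, fun j => Ideal.mul_mem_right _ _ ha, ?_⟩
      simp only [mul_smul, ← Finset.smul_sum, ← smul_sub]
      rw [pow_succ, ← smul_eq_mul, Submodule.smul_assoc]
      exact Submodule.smul_mem_smul ha h1
    · rintro x y ⟨b, hb, hx⟩ ⟨b', hb', hy⟩
      refine ⟨b + b', fun j => Ideal.add_mem _ (hb j) (hb' j), ?_⟩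
      convert Submodule.add_mem _ hx hy using 1
      simp only [Pi.add_apply, add_smul, Finset.sum_add_distrib]
      abel
  refine Module.Finite.of_surjective
    (Fintype.linearCombination (AdicCompletion I A) fun j => AdicCompletion.of I M (m j)) fun x => ?_
  choose c hc using fun n => Submodule.Quotient.mk_surjective _ (x.val n)
  have hcc : ∀ n, c (n + 1) - c n ∈ (I ^ n • ⊤ : Submodule A M) := fun n => by
    refine (Submodule.Quotient.eq _).1 ?_
    rw [hc n, ← x.property n.le_succ, ← hc (n + 1)]
    rfl
  choose b hb hbr using key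
  let a : (n : ℕ) → {a : Fin k → A // c n - ∑ j, a j • m j ∈ (I ^ n • ⊤ : Submodule A M)} :=
    fun n => n.rec ⟨0, by simp⟩ fun n a => by
      have hr : c (n + 1) - ∑ j, a.1 j • m j ∈ (I ^ n • ⊤ : Submodule A M) := by
        have := Submodule.add_mem _ (hcc n) a.2
        rwa [sub_add_sub_cancel] at this
      refine ⟨a.1 + b n _ hr, ?_⟩
      convert hbr n _ hr using 1
      simp only [Pi.add_apply, add_smul, Finset.sum_add_distrib]
      abel
  have ha : ∀ n j, (a (n + 1)).1 j - (a n).1 j ∈ I ^ n := fun n j => by
    show ((a n).1 + _) j - (a n).1 j ∈ I ^ n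
    rw [Pi.add_apply, add_sub_cancel_left]
    exact hb n _ _ j
  refine ⟨fun j => AdicCompletion.mk I A (AdicCompletion.AdicCauchySequence.mk I A (fun n => (a n).1 j)
    fun n => SModEq.sub_mem.2 (by simpa using neg_mem (ha n j))), AdicCompletion.ext fun n => ?_⟩
  rw [Fintype.linearCombination_apply, AdicCompletion.val_sum_apply, ← hc n]
  have hz := (Submodule.Quotient.eq (I ^ n • ⊤ : Submodule A M)).2 (a n).2
  rw [hz, ← Submodule.mkQ_apply, map_sum]
  refine Finset.sum_congr rfl fun j _ => ?_
  rw [AdicCompletion.smul_eval]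
  rfl

end Groth.Agent.DComplete
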