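import Groth.Agent.RHomCx.Complete
import Groth.Agent.TriH.DerivedProducts

/-!
# Countable products and derived limits of complexes of modules
-/

set_option autoImplicit false
set_option linter.style.haveILetI false
universe u

open CategoryTheory CategoryTheory.Limits CategoryTheory.Pretriangulated
open Groth.Agent.LocCohLib

attribute [local instance] HasDerivedCategory.standard

namespace Groth.Agent.DComplete

variable {A : Type u} [CommRing A]

/-- The product of countably many complexes. -/
noncomputable def piCx (K : ℕ → DRing.Cx A) : DRing.Cx A where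
  X i := ModuleCat.of A (∀ k, (K k).X i)
  d i j := ModuleCat.ofHom (LinearMap.pi fun k => ((K k).d i j).hom ∘ₗ LinearMap.proj k)
  shape i j h := ModuleCat.hom_ext (LinearMap.ext fun x => funext fun k =>
    ConcreteCategory.congr_hom ((K k).shape i j h) (x k))
  d_comp_d' i j l _ _ := ModuleCat.hom_ext (LinearMap.ext fun x => funext fun k =>
    ConcreteCategory.congr_hom ((K k).d_comp_d i j l) (x k))

variable {K : ℕ → DRing.Cx A} {P : DRing.Cx A}

/-- Projections. -/
noncomputable def piProj (K : ℕ → DRing.Cx A) (k : ℕ) : piCx K ⟶ K k where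
  f i := ModuleCat.ofHom (LinearMap.proj k)
  comm' _ _ _ := rfl

/-- The map into the product. -/
noncomputable def piLiftCx (p : ∀ k, P ⟶ K k) : P ⟶ piCx K where
  f i := ModuleCat.ofHom (LinearMap.pi fun k => ((p k).f i).hom)
  comm' i j _ := ModuleCat.hom_ext (LinearMap.ext fun x => funext fun k =>
    ConcreteCategory.congr_hom ((p k).comm i j) x)

theorem piLiftCx_proj (p : ∀ k, P ⟶ K k) (k : ℕ) : piLiftCx p ≫ piProj K k = p k :=
  HomologicalComplex.hom_ext _ _ fun _ => rfl

/-- Homology commutes with countable products. -/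
theorem bijective_homology_pi (K : ℕ → DRing.Cx A) (n : ℤ) :
    Function.Bijective fun (x : (piCx K).homology n) k => HomologicalComplex.homologyMap (piProj K k) n x := by
  have hd : ∀ i j (x : (piCx K).X i) (k : ℕ), (piProj K k).f j ((piCx K).d i j x) = (K k).d i j ((piProj K k).f i x) :=
    fun i j x k => rfl
  let F := fun k => (HomologicalComplex.shortComplexFunctor (ModuleCat.{u} A) (ComplexShape.up ℤ) n).map (piProj K k)
  refine ⟨fun x y hxy => sub_eq_zero.1 ?_, fun m => ?_⟩
  · obtain ⟨z, hz⟩ := scCls_surjective ((piCx K).sc n) (x - y)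
    refine hz.symm.trans ((scCls_eq_zero (S := (piCx K).sc n) z).2 ?_)
    have h1 : ∀ k, ∃ b, ((K k).sc n).f b = (piProj K k).f n z.1 := fun k => by
      have hk : ((K k).sc n).g ((piProj K k).f n z.1) = 0 := congrFun z.2 k
      refine (scCls_eq_zero (S := (K k).sc n) ⟨(piProj K k).f n z.1, hk⟩).1 ?_
      refine (scCls_map (F k) z _ rfl).symm.trans ?_
      rw [hz]
      exact (map_sub _ x y).trans (sub_eq_zero.2 (congrFun hxy k))
    choose b hb using h1
    exact ⟨b, funext hb⟩
  · choose z hz using fun k => scCls_surjective ((K k).sc n) (m k)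
    let w : LinearMap.ker ((piCx K).sc n).g.hom := ⟨fun k => (z k).1, funext fun k => (z k).2⟩
    exact ⟨scCls ((piCx K).sc n) w, funext fun k => (scCls_map (F k) w (z k) rfl).trans (hz k)⟩

/-- Null-homotopies of the components give one of the map into the product. -/
theorem nonempty_homotopy_pi (g : P ⟶ piCx K) (h : ∀ k, Homotopy (g ≫ piProj K k) 0) :
    Nonempty (Homotopy g 0) := by
  refine ⟨{ hom := fun i j => ModuleCat.ofHom (LinearMap.pi fun k => ((h k).hom i j).hom)
            zero := fun i j hij => ?_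
            comm := fun i => ?_ }⟩
  · refine ModuleCat.hom_ext (LinearMap.ext fun x => funext fun k => ?_)
    exact ConcreteCategory.congr_hom ((h k).zero i j hij) x
  · rw [dNext_eq _ (show (ComplexShape.up ℤ).Rel i (i + 1) from rfl),
      prevD_eq _ (show (ComplexShape.up ℤ).Rel (i - 1) i from by simp)]
    refine ModuleCat.hom_ext (LinearMap.ext fun x => funext fun k => ?_)
    have := (h k).comm i
    rw [dNext_eq _ (show (ComplexShape.up ℤ).Rel i (i + 1) from rfl),
      prevD_eq _ (show (ComplexShape.up ℤ).Rel (i - 1) i from by simp)] at this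
    exact ConcreteCategory.congr_hom this x

theorem isKInjective_piCx (hK : ∀ k, (K k).IsKInjective) : (piCx K).IsKInjective where
  nonempty_homotopy_zero {_} g hX :=
    nonempty_homotopy_pi g fun k => haveI := hK k; CochainComplex.IsKInjective.homotopyZero (g ≫ piProj K k) hX

/-- The comparison with the product in the derived category. -/
noncomputable def piCmp (K : ℕ → DRing.Cx A) [HasProduct fun k => DerivedCategory.Q.obj (K k)] :
    DerivedCategory.Q.obj (piCx K) ⟶ ∏ᶜ fun k => DerivedCategory.Q.obj (K k) :=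
  Pi.lift fun k => DerivedCategory.Q.map (piProj K k)

theorem isIso_piCmp_of_isKInjective (K : ℕ → DRing.Cx A) (hK : ∀ k, (K k).IsKInjective)
    [HasProduct fun k => DerivedCategory.Q.obj (K k)] : IsIso (piCmp K) := by
  haveI := hK
  haveI := isKInjective_piCx hK
  have hbij : ∀ W : Dual.D A, Function.Bijective fun α : W ⟶ DerivedCategory.Q.obj (piCx K) => α ≫ piCmp K := by
    intro W
    obtain ⟨X, ⟨e⟩⟩ : ∃ X, Nonempty (DerivedCategory.Q.obj X ≅ W) :=
      ⟨_, ⟨(DerivedCategory.Q (C := ModuleCat.{u} A)).objObjPreimageIso W⟩⟩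
    refine ⟨fun α β hαβ => ?_, fun γ => ?_⟩
    · obtain ⟨a, ha⟩ := TriH.Q_map_surjective_of_isKInjective X (piCx K) (e.hom ≫ α - e.hom ≫ β)
      have h0 : ∀ k, Nonempty (Homotopy (a ≫ piProj K k) 0) := fun k => by
        rw [← TriH.Q_map_eq_zero_iff_of_isKInjective, Functor.map_comp, ha, Preadditive.sub_comp, sub_eq_zero,
          Category.assoc, Category.assoc]
        have := congrArg (· ≫ Pi.π (fun k => DerivedCategory.Q.obj (K k)) k) hαβ
        simp only [piCmp, Category.assoc, Pi.lift_π] at this
        rw [this]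
      rw [← cancel_epi e.hom, ← sub_eq_zero, ← ha, TriH.Q_map_eq_zero_iff_of_isKInjective]
      exact nonempty_homotopy_pi a fun k => (h0 k).some
    · choose a ha using fun k => TriH.Q_map_surjective_of_isKInjective X (K k) (e.hom ≫ γ ≫ Pi.π _ k)
      refine ⟨e.inv ≫ DerivedCategory.Q.map (piLiftCx a), Pi.hom_ext _ _ fun k => ?_⟩
      simp only [piCmp, Category.assoc, Pi.lift_π, ← Functor.map_comp, piLiftCx_proj, ha, Iso.inv_hom_id_assoc]
  obtain ⟨g, hg⟩ := (hbij _).2 (𝟙 _)
  simp only at hg
  exact ⟨g, (hbij _).1 (by simp only [Category.assoc, hg]; exact (Category.comp_id _).trans (Category.id_comp _).symm), hg⟩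

/-- Products of isomorphisms. -/
noncomputable def piIso {C : Type*} [Category C] {X Y : ℕ → C} [HasProduct X] [HasProduct Y] (e : ∀ n, X n ≅ Y n) :
    ∏ᶜ X ≅ ∏ᶜ Y where
  hom := Pi.lift fun n => Pi.π X n ≫ (e n).hom
  inv := Pi.lift fun n => Pi.π Y n ≫ (e n).inv
  hom_inv_id := Pi.hom_ext _ _ fun n => by simp
  inv_hom_id := Pi.hom_ext _ _ fun n => by simp

@[simp]
theorem piIso_hom_π {C : Type*} [Category C] {X Y : ℕ → C} [HasProduct X] [HasProduct Y] (e : ∀ n, X n ≅ Y n)
    (n : ℕ) : (piIso e).hom ≫ Pi.π Y n = Pi.π X n ≫ (e n).hom := Pi.lift_π _ _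

/-- `Q` commutes with countable products. -/
theorem isIso_piCmp (K : ℕ → DRing.Cx A) [HasProduct fun k => DerivedCategory.Q.obj (K k)] : IsIso (piCmp K) := by
  choose I f hI hf _ _ using fun k => TriH.exists_kInjective_resolution (K k)
  haveI := TriH.hasProduct_Q_of_isKInjective I hI
  haveI := hf
  let F : piCx K ⟶ piCx I := piLiftCx fun k => piProj K k ≫ f k
  haveI : QuasiIso F := ⟨fun n => by
    rw [quasiIsoAt_iff_isIso_homologyMap, ConcreteCategory.isIso_iff_bijective]
    have hc : (fun (x : (piCx I).homology n) k => HomologicalComplex.homologyMap (piProj I k) n x) ∘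
        (HomologicalComplex.homologyMap F n).hom =
        (fun m k => (HomologicalComplex.homologyMap (f k) n).hom (m k)) ∘
          fun (x : (piCx K).homology n) k => HomologicalComplex.homologyMap (piProj K k) n x := by
      funext x k
      refine (ConcreteCategory.congr_hom (HomologicalComplex.homologyMap_comp F (piProj I k) n) x).symm.trans ?_
      rw [piLiftCx_proj, HomologicalComplex.homologyMap_comp]
      rfl
    have hbf : Function.Bijective fun (m : ∀ k, (K k).homology n) k => (HomologicalComplex.homologyMap (f k) n).hom (m k) := by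
      have hb : ∀ k, Function.Bijective (HomologicalComplex.homologyMap (f k) n).hom := fun k => by
        haveI : IsIso (HomologicalComplex.homologyMap (f k) n) :=
          (quasiIsoAt_iff_isIso_homologyMap _ _).1 inferInstance
        exact ConcreteCategory.bijective_of_isIso _
      exact ⟨fun a b h => funext fun k => (hb k).1 (congrFun h k), fun y =>
        ⟨fun k => ((hb k).2 (y k)).choose, funext fun k => ((hb k).2 (y k)).choose_spec⟩⟩
    exact (Function.Bijective.of_comp_iff' (bijective_homology_pi I n) _).1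
      (hc ▸ hbf.comp (bijective_homology_pi K n))⟩
  haveI : IsIso (DerivedCategory.Q.map F) := (DerivedCategory.isIso_Q_map_iff_quasiIso _ _).2 inferInstance
  haveI := isIso_piCmp_of_isKInjective I hI
  haveI : ∀ k, IsIso (DerivedCategory.Q.map (f k)) := fun k =>
    (DerivedCategory.isIso_Q_map_iff_quasiIso _ _).2 inferInstance
  let m : (∏ᶜ fun k => DerivedCategory.Q.obj (K k)) ≅ ∏ᶜ fun k => DerivedCategory.Q.obj (I k) :=
    piIso fun k => asIso (DerivedCategory.Q.map (f k))
  have h : piCmp K = DerivedCategory.Q.map F ≫ piCmp I ≫ m.inv := by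
    rw [← Category.assoc, Iso.eq_comp_inv]
    refine Pi.hom_ext _ _ fun k => ?_
    simp [piCmp, m, F, ← Functor.map_comp, piLiftCx_proj]
  rw [h]
  infer_instance

/-- A degreewise surjective tower of complexes computes the derived limit of its termwise limit. -/
theorem isRlim_of_tower (P : DRing.Cx A) (K : ℕ → DRing.Cx A) (t : ∀ n, K (n + 1) ⟶ K n) (p : ∀ n, P ⟶ K n)
    (hp : ∀ n, p (n + 1) ≫ t n = p n)
    (hi : ∀ i (x : P.X i), (∀ n, ((p n).f i).hom x = 0) → x = 0)
    (hl : ∀ i (y : ∀ n, (K n).X i), (∀ n, ((t n).f i).hom (y (n + 1)) = y n) → ∃ x : P.X i, ∀ n, ((p n).f i).hom x = y n)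
    (ht : ∀ n i, Function.Surjective ((t n).f i).hom)
    (K' : ℕ → Dual.D A) [HasProduct K'] [HasProduct fun n => DerivedCategory.Q.obj (K n)] (t' : ∀ n, K' (n + 1) ⟶ K' n)
    (e : ∀ n, DerivedCategory.Q.obj (K n) ≅ K' n)
    (he : ∀ n, DerivedCategory.Q.map (t n) ≫ (e n).hom = (e (n + 1)).hom ≫ t' n)
    (L : Dual.D A) (eL : L ≅ DerivedCategory.Q.obj P) : DCoh.IsRlim K' t' L := by
  let D : piCx K ⟶ piCx K := piLiftCx fun n => piProj K n - piProj K (n + 1) ≫ t n
  have hz : piLiftCx p ≫ D = 0 := HomologicalComplex.hom_ext _ _ fun i => ModuleCat.hom_ext (LinearMap.ext fun x =>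
    funext fun n => by
      show ((p n).f i).hom x - ((t n).f i).hom (((p (n + 1)).f i).hom x) = 0
      exact sub_eq_zero.2 (ConcreteCategory.congr_hom (HomologicalComplex.congr_hom (hp n) i) x).symm)
  let S := ShortComplex.mk (piLiftCx p) D hz
  have hS : S.ShortExact := by
    refine HomologicalComplex.shortExact_of_degreewise_shortExact _ fun i => ?_
    exact
      { exact := (ShortComplex.ShortExact.moduleCat_exact_iff_function_exact _).2 fun y => by
          refine ⟨fun hy => ?_, ?_⟩
          · obtain ⟨x, hx⟩ := hl i y fun n => (sub_eq_zero.1 (congrFun hy n)).symm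
            exact ⟨x, funext hx⟩
          · rintro ⟨x, rfl⟩
            exact ConcreteCategory.congr_hom (HomologicalComplex.congr_hom hz i) x
        mono_f := (ModuleCat.mono_iff_injective _).2 <| (injective_iff_map_eq_zero _).2 fun x hx =>
          hi i x fun n => congrFun hx n
        epi_g := (ModuleCat.epi_iff_surjective _).2 fun (y : ∀ n, (K n).X i) => by
          choose g hg using fun n => ht n i
          let x : ∀ n, (K n).X i := fun n => Nat.rec 0 (fun k r => g k (r - y k)) n
          refine ⟨x, funext fun n => ?_⟩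
          show x n - ((t n).f i).hom (g n (x n - y n)) = y n
          rw [hg n (x n - y n), sub_sub_cancel] }
  haveI := isIso_piCmp K
  let σ : DerivedCategory.Q.obj (piCx K) ≅ ∏ᶜ K' := asIso (piCmp K) ≪≫ piIso e
  have hσ : ∀ n, σ.hom ≫ Pi.π K' n = DerivedCategory.Q.map (piProj K n) ≫ (e n).hom := fun n => by
    simp [σ, piCmp]
  let T := DerivedCategory.triangleOfSES hS
  refine ⟨eL.hom ≫ DerivedCategory.Q.map (piLiftCx p) ≫ σ.hom,
    σ.inv ≫ T.mor₃ ≫ eL.inv⟦(1 : ℤ)⟧', ?_⟩
  refine isomorphic_distinguished _ (DerivedCategory.triangleOfSES_distinguished hS) _ ?_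
  refine Triangle.isoMk _ _ eL σ.symm σ.symm ?_ ?_ ?_
  · show (eL.hom ≫ DerivedCategory.Q.map (piLiftCx p) ≫ σ.hom) ≫ σ.inv = eL.hom ≫ DerivedCategory.Q.map (piLiftCx p)
    simp
  · show (Pi.lift fun n => Pi.π K' n - Pi.π K' (n + 1) ≫ t' n) ≫ σ.inv = σ.inv ≫ DerivedCategory.Q.map D
    rw [Iso.comp_inv_eq, Category.assoc, Iso.eq_inv_comp]
    refine Pi.hom_ext _ _ fun n => ?_
    rw [Category.assoc, Category.assoc, Pi.lift_π, Preadditive.comp_sub, ← Category.assoc σ.hom, hσ, hσ,
      Category.assoc, ← he, ← Category.assoc (DerivedCategory.Q.map D), ← Functor.map_comp, piLiftCx_proj,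
      Functor.map_sub, Functor.map_comp, Preadditive.sub_comp, Category.assoc]
  · show (σ.inv ≫ T.mor₃ ≫ eL.inv⟦(1 : ℤ)⟧') ≫ eL.hom⟦(1 : ℤ)⟧' = σ.inv ≫ T.mor₃
    rw [Category.assoc, Category.assoc, ← Functor.map_comp]
    exact congrArg (σ.inv ≫ ·) (((congrArg (T.mor₃ ≫ ·)
      ((congrArg (fun x => (shiftFunctor (Dual.D A) (1 : ℤ)).map x) eL.inv_hom_id).trans
        ((shiftFunctor (Dual.D A) (1 : ℤ)).map_id _)))).trans (Category.comp_id _))

end Groth.Agent.DComplete
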