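import Mathlib.RingTheory.AdicCompletion.Basic
import Mathlib.RingTheory.Ideal.Quotient.Operations
import Mathlib.Data.Nat.Choose.Basic
import Mathlib.Algebra.Module.LinearMap.End
import Mathlib.LinearAlgebra.Quotient.Basic

/-!
The telescope criterion for derived completeness of a module: `φ` is "complete" on `M` when every sequence
`m` has exactly one solution `x` of `x n - φ (x (n + 1)) = m n`.
-/

set_option autoImplicit false
universe u v w

namespace Groth.Agent.DComplete

section AddCommGroup

variable {M : Type u} [AddCommGroup M]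

/-- The telescope map. -/
def teleMap (φ : M →+ M) (x : ℕ → M) : ℕ → M := fun n => x n - φ (x (n + 1))

/-- Unique solvability of all telescope systems. -/
def Tele (φ : M →+ M) : Prop := Function.Bijective (teleMap φ)

variable {φ ψ : M →+ M}

lemma Tele.eq_zero (h : Tele φ) (x : ℕ → M) (hx : ∀ n, x n = φ (x (n + 1))) : x = 0 :=
  h.1 (funext fun n => by simp [teleMap, hx n])

/-- The first term of the solution. -/
noncomputable def Tele.sol (h : Tele φ) (m : ℕ → M) : M := ((Equiv.ofBijective _ h).symm m) 0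

lemma Tele.solution_spec (h : Tele φ) (m : ℕ → M) (n : ℕ) :
    (Equiv.ofBijective _ h).symm m n - φ ((Equiv.ofBijective _ h).symm m (n + 1)) = m n :=
  congrFun ((Equiv.ofBijective _ h).apply_symm_apply m) n

lemma Tele.sol_eq (h : Tele φ) {m x : ℕ → M} (hx : ∀ n, x n - φ (x (n + 1)) = m n) :
    h.sol m = x 0 := by
  have : (Equiv.ofBijective _ h).symm m = x :=
    (Equiv.ofBijective _ h).symm_apply_eq.2 (funext fun n => (hx n).symm)
  exact congrFun this 0

lemma Tele.sol_shift (h : Tele φ) (m : ℕ → M) (n : ℕ) :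
    h.sol (fun k => m (n + k)) = (Equiv.ofBijective _ h).symm m n :=
  h.sol_eq (x := fun k => (Equiv.ofBijective _ h).symm m (n + k)) fun k => h.solution_spec m (n + k)

lemma Tele.sol_succ (h : Tele φ) (m : ℕ → M) :
    h.sol m = m 0 + φ (h.sol fun k => m (k + 1)) := by
  have h1 := h.solution_spec m 0
  have h2 : h.sol (fun k => m (1 + k)) = _ := h.sol_shift m 1
  simp only [add_comm 1] at h2
  rw [h2, ← h1]
  simp [Tele.sol]

lemma Tele.sol_add (h : Tele φ) (m m' : ℕ → M) : h.sol (m + m') = h.sol m + h.sol m' :=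
  h.sol_eq (x := (Equiv.ofBijective _ h).symm m + (Equiv.ofBijective _ h).symm m') fun n => by
    simp only [Pi.add_apply, map_add, ← h.solution_spec m n, ← h.solution_spec m' n]
    abel

lemma Tele.sol_zero (h : Tele φ) : h.sol 0 = 0 :=
  h.sol_eq (x := fun _ => 0) fun n => by simp

lemma Tele.sol_map (h : Tele φ) {N : Type v} [AddCommGroup N] {φ' : N →+ N} (h' : Tele φ')
    (u : M →+ N) (hu : ∀ x, u (φ x) = φ' (u x)) (m : ℕ → M) :
    u (h.sol m) = h'.sol fun n => u (m n) :=
  (h'.sol_eq (x := fun n => u ((Equiv.ofBijective _ h).symm m n)) fun n => by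
    rw [← h.solution_spec m n, map_sub, hu]).symm

lemma tele_of_bijective {N : Type v} [AddCommGroup N] {φ' : N →+ N} (h : Tele φ) (u : M ≃+ N)
    (hu : ∀ x, u (φ x) = φ' (u x)) : Tele φ' := by
  have hu' : ∀ y, φ (u.symm y) = u.symm (φ' y) := fun y => u.injective (by rw [hu]; simp)
  refine ⟨fun x y hxy => ?_, fun m => ?_⟩
  · have := h.1 (a₁ := fun n => u.symm (x n)) (a₂ := fun n => u.symm (y n)) (funext fun n => by
      simp only [teleMap, hu', ← map_sub]
      exact congrArg u.symm (congrFun hxy n))
    exact funext fun n => u.symm.injective (congrFun this n)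
  · obtain ⟨x, hx⟩ := h.2 fun n => u.symm (m n)
    refine ⟨fun n => u (x n), funext fun n => ?_⟩
    have := congrFun hx n
    simp only [teleMap] at this ⊢
    rw [← hu, ← map_sub, this, AddEquiv.apply_symm_apply]

/-- Multiples by commuting endomorphisms. -/
lemma Tele.mul (h : Tele φ) (hc : ∀ x, φ (ψ x) = ψ (φ x)) : Tele (φ.comp ψ) := by
  have hcn : ∀ (n : ℕ) (x : M), φ (ψ^[n] x) = ψ^[n] (φ x) := by
    intro n
    induction n with
    | zero => exact fun _ => rfl
    | succ n ih =>
      intro x
      rw [Function.iterate_succ_apply' (⇑ψ) n, hc, ih, ← Function.iterate_succ_apply' (⇑ψ) n]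
  let pn : ℕ → M →+ M := fun n => n.rec (AddMonoidHom.id M) fun _ p => ψ.comp p
  have hpn : ∀ n x, pn n x = ψ^[n] x := by
    intro n
    induction n with
    | zero => exact fun _ => rfl
    | succ n ih => intro x; rw [Function.iterate_succ_apply' (⇑ψ) n, ← ih]; rfl
  refine ⟨fun x y hxy => ?_, fun m => ?_⟩
  · funext n
    rw [← sub_eq_zero]
    have hz : ∀ n, (x - y) n = φ (ψ ((x - y) (n + 1))) := fun n => by
      have := congrFun hxy n
      simp only [teleMap, AddMonoidHom.comp_apply] at this
      simp only [Pi.sub_apply, map_sub]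
      rw [sub_eq_sub_iff_sub_eq_sub] at this
      exact this
    have := congrFun (h.eq_zero (fun k => pn k ((x - y) (n + k))) fun k => by
      show pn k ((x - y) (n + k)) = _
      rw [hz (n + k), hpn k, hpn (k + 1), Function.iterate_succ_apply (⇑ψ) k, hcn]
      rfl) 0
    simpa [hpn] using this
  · refine ⟨fun n => h.sol fun k => pn k (m (n + k)), funext fun n => ?_⟩
    have h1 : h.sol (fun k => pn k (m (n + k))) =
        m n + φ (h.sol fun k => pn (k + 1) (m (n + (k + 1)))) := by
      refine (h.sol_succ _).trans ?_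
      simp [hpn]
    have h2 : ψ (h.sol fun k => pn k (m (n + 1 + k))) =
        h.sol fun k => pn (k + 1) (m (n + (k + 1))) := by
      rw [h.sol_map h ψ (fun x => (hc x).symm)]
      congr 1
      funext k
      rw [hpn k, hpn (k + 1), ← Function.iterate_succ_apply' (⇑ψ) k, show n + 1 + k = n + (k + 1) by lia]
    simp only [teleMap, AddMonoidHom.comp_apply]
    rw [h2, h1, add_sub_cancel_right]

lemma eq_zero_of_tele_id (hb : Tele ψ) (hψ : ∀ x, ψ x = x) (x : M) : x = 0 :=
  congrFun (hb.eq_zero (fun _ => x) fun _ => (hψ x).symm) 0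

/-- A telescope-complete endomorphism is topologically nilpotent: `1 - φ` is bijective. -/
lemma Tele.bijective_one_sub (h : Tele φ) : Function.Bijective fun x => x - φ x := by
  refine ⟨fun x y hxy => ?_, fun x => ⟨h.sol fun _ => x, ?_⟩⟩
  · have := congrFun (h.eq_zero (fun _ => x - y) fun _ => by
      rw [map_sub, sub_eq_sub_iff_sub_eq_sub]; exact hxy) 0
    exact sub_eq_zero.1 this
  · show _ - φ _ = x
    conv_lhs => arg 1; rw [h.sol_succ]
    simp

/-- Sums. -/
lemma Tele.add (hf : Tele φ) (hg : Tele ψ) (hc : ∀ x, φ (ψ x) = ψ (φ x)) : Tele (φ + ψ) := by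
  refine ⟨?_, fun m => ?_⟩
  · intro a b hab
    suffices ∀ x : ℕ → M, (∀ n, x n = φ (x (n + 1)) + ψ (x (n + 1))) → x = 0 by
      refine sub_eq_zero.1 (this (a - b) fun n => ?_)
      have := congrFun hab n
      simp only [teleMap, AddMonoidHom.add_apply] at this
      simp only [Pi.sub_apply, map_sub]
      rw [sub_eq_sub_iff_sub_eq_sub] at this
      rw [this]; abel
    intro x hx
    let W : AddSubgroup (ℕ → M) :=
      { carrier := {x | ∀ n, x n = φ (x (n + 1)) + ψ (x (n + 1))}
        add_mem' := fun {p q} hp hq n => by simp only [Pi.add_apply, map_add, hp n, hq n]; abel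
        zero_mem' := fun n => by simp
        neg_mem' := fun {p} hp n => by simp only [Pi.neg_apply, map_neg, hp n]; abel }
    let s : W →+ W := AddMonoidHom.mk' (fun p => ⟨fun n => p.1 (n + 1), fun n => p.2 (n + 1)⟩)
      fun p q => rfl
    have inher : ∀ θ : M →+ M, Tele θ → (∀ x, θ (φ x) = φ (θ x)) → (∀ x, θ (ψ x) = ψ (θ x)) →
        ∃ θW : W →+ W, (∀ p n, (θW p).1 n = θ (p.1 n)) ∧ Tele θW := by
      intro θ hθ h1 h2
      let θW : W →+ W := AddMonoidHom.mk' (fun p => ⟨fun n => θ (p.1 n), fun n => by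
        rw [← h1, ← h2, ← map_add, ← p.2 n]⟩) fun p q => Subtype.ext (funext fun n => map_add θ _ _)
      refine ⟨θW, fun _ _ => rfl, ⟨fun p q hpq => ?_, fun t => ?_⟩⟩
      · funext k
        refine Subtype.ext (funext fun n => ?_)
        exact congrFun (hθ.1 (a₁ := fun k => (p k).1 n) (a₂ := fun k => (q k).1 n) (funext fun k =>
          congrFun (congrArg Subtype.val (congrFun hpq k)) n)) k
      · let y : ℕ → ℕ → M := fun n => (Equiv.ofBijective _ hθ).symm fun k => (t k).1 n
        have hy : ∀ n k, y n k - θ (y n (k + 1)) = (t k).1 n := fun n => hθ.solution_spec _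
        have hyW : ∀ k n, y n k = φ (y (n + 1) k) + ψ (y (n + 1) k) := by
          intro k n
          refine congrFun (hθ.1 (a₂ := fun k => φ (y (n + 1) k) + ψ (y (n + 1) k))
            (funext fun j => ?_)) k
          simp only [teleMap, hy, map_add]
          rw [h1, h2, (t j).2 n, ← hy (n + 1) j, map_sub, map_sub]
          abel
        exact ⟨fun k => ⟨fun n => y n k, hyW k⟩,
          funext fun k => Subtype.ext (funext fun n => hy n k)⟩
    obtain ⟨φW, hφW, hφT⟩ := inher φ hf (fun _ => rfl) hc
    obtain ⟨ψW, hψW, hψT⟩ := inher ψ hg (fun x => (hc x).symm) (fun _ => rfl)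
    have hcs : ∀ p, φW (s p) = s (φW p) := fun p => Subtype.ext (funext fun n => by
      show (φW (s p)).1 n = (φW p).1 (n + 1)
      rw [hφW, hφW]; rfl)
    have hcs' : ∀ p, ψW (s p) = s (ψW p) := fun p => Subtype.ext (funext fun n => by
      show (ψW (s p)).1 n = (ψW p).1 (n + 1)
      rw [hψW, hψW]; rfl)
    have hsum : ∀ p : W, φW (s p) + ψW (s p) = p := fun p => Subtype.ext (funext fun n => by
      show (φW (s p)).1 n + (ψW (s p)).1 n = p.1 n
      rw [hφW, hψW]
      exact (p.2 n).symm)
    obtain ⟨hainj, hasurj⟩ := (hφT.mul hcs).bijective_one_sub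
    have hbT := hψT.mul hcs'
    have hb : Function.Bijective (ψW.comp s) := by
      have : ∀ p, p - (φW.comp s) p = (ψW.comp s) p := fun p => by
        simp only [AddMonoidHom.comp_apply]
        rw [sub_eq_iff_eq_add']
        exact (hsum p).symm
      exact (funext this : (fun p => p - (φW.comp s) p) = ⇑(ψW.comp s)) ▸ ⟨hainj, hasurj⟩
    let e := Equiv.ofBijective _ hb
    have hpx := congrFun (hbT.eq_zero (fun k => (⇑e.symm)^[k] ⟨x, hx⟩) fun k => by
      rw [Function.iterate_succ_apply']
      exact (e.apply_symm_apply _).symm) 0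
    exact congrArg Subtype.val hpx
  · let D : ℕ → ℕ → M := fun n i => hg.sol fun j => (Nat.choose (i + j) i) • m (n + i + j)
    have hD0 : ∀ n, D n 0 = m n + ψ (D (n + 1) 0) := fun n => by
      simp only [D]
      rw [hg.sol_succ]
      simp [add_assoc, add_comm 1]
    have hD : ∀ n i, D n (i + 1) = D (n + 1) i + ψ (D (n + 1) (i + 1)) := fun n i => by
      have e1 : D n (i + 1) = m (n + (i + 1)) +
          ψ (hg.sol fun j => (Nat.choose (i + 1 + (j + 1)) (i + 1)) • m (n + (i + 1) + (j + 1))) := by
        simp only [D]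
        rw [hg.sol_succ]
        simp
      have e2 : (fun j => (Nat.choose (i + 1 + (j + 1)) (i + 1)) • m (n + (i + 1) + (j + 1))) =
          (fun j => (Nat.choose (i + (j + 1)) i) • m (n + 1 + i + (j + 1))) +
            fun j => (Nat.choose (i + 1 + j) (i + 1)) • m (n + 1 + (i + 1) + j) := by
        funext j
        simp only [Pi.add_apply]
        rw [show i + 1 + (j + 1) = i + j + 1 + 1 by lia, Nat.choose_succ_succ, add_smul,
          show i + (j + 1) = i + j + 1 by lia, show i + 1 + j = i + j + 1 by lia,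
          show n + 1 + i + (j + 1) = n + (i + 1) + (j + 1) by lia,
          show n + 1 + (i + 1) + j = n + (i + 1) + (j + 1) by lia]
      have e3 : D (n + 1) i = m (n + (i + 1)) +
          ψ (hg.sol fun j => (Nat.choose (i + (j + 1)) i) • m (n + 1 + i + (j + 1))) := by
        simp only [D]
        rw [hg.sol_succ]
        simp [show n + 1 + i = n + (i + 1) by lia]
      rw [e1, e2, hg.sol_add, map_add, e3]
      exact (add_assoc _ _ _).symm
    refine ⟨fun n => hf.sol (D n), funext fun n => ?_⟩
    simp only [teleMap, AddMonoidHom.add_apply]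
    have e1 : hf.sol (D n) = D n 0 + φ (hf.sol fun i => D n (i + 1)) := hf.sol_succ _
    have e2 : hf.sol (fun i => D n (i + 1)) = hf.sol (D (n + 1)) + ψ (hf.sol fun i => D (n + 1) (i + 1)) := by
      rw [hf.sol_map hf ψ (fun x => (hc x).symm), ← hf.sol_add]
      exact congrArg hf.sol (funext fun i => hD n i)
    have e3 : ψ (hf.sol (D (n + 1))) = ψ (D (n + 1) 0) + φ (ψ (hf.sol fun i => D (n + 1) (i + 1))) := by
      rw [hf.sol_succ (D (n + 1)), map_add, hc]
    rw [e1, e2, map_add, hD0, e3]
    abel

lemma tele_zero : Tele (0 : M →+ M) :=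
  ⟨fun x y h => funext fun n => by simpa [teleMap] using congrFun h n,
    fun m => ⟨m, funext fun n => by simp [teleMap]⟩⟩

end AddCommGroup

end Groth.Agent.DComplete
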