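import Groth.Agent.DComplete.TensorFinite
import Groth.Agent.DRingPC.LTensorCxValue
import Groth.Agent.KFlat.AllModules

/-!
# Derived completion commutes with tensor products with pseudo-coherent complexes
-/

set_option autoImplicit false
set_option linter.style.haveILetI false
universe u

open CategoryTheory CategoryTheory.Limits CategoryTheory.Pretriangulated HomologicalComplex
open CategoryTheory.MonoidalCategory
open Groth.Agent.PCohLib Groth.Agent.DRingPC Groth.Agent.KFlat
open CochainComplex (mappingCone)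

attribute [local instance] HasDerivedCategory.standard

namespace Groth.Agent.DComplete

variable {A : Type u} [CommRing A]

local notation "CH" => HomologicalComplex.homologyFunctor (ModuleCat A) (ComplexShape.up ℤ)
local notation "DH" => DerivedCategory.homologyFunctor (ModuleCat A)
local notation "𝓣" => curriedTensor (ModuleCat A)

theorem flat_tensorCx {P L : DRing.Cx A} (b₁ b₂ : ℤ) (hP : ∀ i, b₁ < i → IsZero (P.X i))
    (hL : ∀ i, b₂ < i → IsZero (L.X i)) (hP' : ∀ i, Module.Flat A (P.X i)) (hL' : ∀ i, Module.Flat A (L.X i))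
    (n : ℤ) : Module.Flat A ((P ⊗ L).X n) := by
  classical
  let S : Type := {p : ℤ // p ∈ Finset.Icc (n - b₂) b₁}
  let f : S → ModuleCat.{u} A := fun p =>
    ((curriedTensor (ModuleCat.{u} A)).obj (P.X p.1)).obj (L.X (n - p.1))
  haveI : ∀ p : S, Module.Flat A (f p) := fun p => by
    haveI := hP' p.1; haveI := hL' (n - p.1)
    exact (inferInstance : Module.Flat A (TensorProduct A (P.X p.1) (L.X (n - p.1))))
  haveI : Module.Flat A (∀ p, f p) :=
    Module.Flat.of_linearEquiv (DirectSum.linearEquivFunOnFintype A S fun p => f p).symm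
  haveI : Module.Flat A (⨁ f : ModuleCat.{u} A) :=
    Module.Flat.of_linearEquiv (ModuleCat.biproductIsoPi f).toLinearEquiv
  let s : (⨁ f) ⟶ (P ⊗ L).X n := biproduct.desc fun p =>
    ιMapBifunctor P L (curriedTensor (ModuleCat.{u} A)) (ComplexShape.up ℤ) p.1 (n - p.1) n (by
      show p.1 + (n - p.1) = n; lia)
  let r : (P ⊗ L).X n ⟶ ⨁ f := mapBifunctorDesc fun p q (hpq : p + q = n) =>
    if h : p ∈ Finset.Icc (n - b₂) b₁ then
      eqToHom (by obtain rfl : q = n - p := (by lia); rfl) ≫ biproduct.ι f ⟨p, h⟩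
    else 0
  have h : r ≫ s = 𝟙 _ := mapBifunctor.hom_ext fun p q (hpq : p + q = n) => by
    obtain rfl : q = n - p := by lia
    rw [ι_mapBifunctorDesc_assoc]
    refine Eq.trans ?_ (Category.comp_id _).symm
    by_cases h : p ∈ Finset.Icc (n - b₂) b₁
    · rw [dif_pos h]
      simp [s, f]
    · refine IsZero.eq_of_src ?_ _ _
      simp only [Finset.mem_Icc, not_and_or, not_le] at h
      rcases h with h | h
      · exact isZero_tensor_right _ (hL _ (by lia))
      · exact isZero_tensor_left (hP _ h) _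
  exact Module.Flat.of_retract r.hom s.hom (congrArg ModuleCat.Hom.hom h)

theorem acyclic_tensor_tensor (X F : DRing.Cx A) (hF : DRing.IsKFlat A F) (N : ModuleCat.{u} A)
    (h : ∀ i, ((tcx N).obj X).ExactAt i) (i : ℤ) : ((tcx N).obj (X ⊗ F)).ExactAt i := by
  rw [exactAt_iff_isZero_homology]
  let SN := (HomologicalComplex.single (ModuleCat.{u} A) (ComplexShape.up ℤ) 0).obj N
  exact (hF (SN ⊗ X) (fun j => ((exactAt_iff_isZero_homology _ _).1 (h j)).of_iso
    ((CH j).mapIso (tcxSingleIso N X)).symm) i).of_iso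
      ((CH i).mapIso (tcxSingleIso N (X ⊗ F) ≪≫ (α_ SN X F).symm))

theorem tele_tensor_single (P : DRing.Cx A) (f : A) (M : ModuleCat.{u} A)
    (h : ∀ i, Tele (smulEnd (((tcx M).obj P).homology i) f)) (n i : ℤ) :
    Tele (smulEnd (((tensR 𝓣 P).obj ((CochainComplex.singleFunctor (ModuleCat.{u} A) n).obj M)).homology i) f) := by
  let L := (CochainComplex.singleFunctor (ModuleCat.{u} A) 0).obj M
  have h0 : ∀ i, Tele (smulEnd (((tensR 𝓣 P).obj L).homology i) f) := fun i =>
    tele_of_linearEquiv f ((CH i).mapIso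
      ((NatIso.mapHomologicalComplex (BraidedCategory.tensorLeftIsoTensorRight M) (ComplexShape.up ℤ)).app P ≪≫
        KFlat.singleIso 𝓣 P M)).toLinearEquiv (h i)
  let e : (tensR 𝓣 P).obj ((CochainComplex.singleFunctor (ModuleCat.{u} A) n).obj M) ≅
      ((tensR 𝓣 P).obj L)⟦-n⟧ :=
    (tensR 𝓣 P).mapIso (((CochainComplex.singleFunctors (ModuleCat.{u} A)).shiftIso (-n) n 0 (by omega)).app M).symm ≪≫
      CochainComplex.mapBifunctorShift₂Iso P L 𝓣 (-n)
  exact tele_of_linearEquiv f ((CH i).mapIso e ≪≫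
    ((HomologicalComplex.homologyFunctor (ModuleCat.{u} A) (ComplexShape.up ℤ) 0).shiftIso (-n) i (-n + i) rfl).app
      ((tensR 𝓣 P).obj L)).toLinearEquiv.symm (h0 (-n + i))

set_option maxHeartbeats 2000000 in
open Stupid in
theorem tele_tensor_trunc [IsNoetherianRing A] (P : DRing.Cx A) (hfl : ∀ j, Module.Flat A (P.X j))
    (b : ℤ) (hb : ∀ j, b < j → IsZero (P.X j)) (f : A)
    (hP : ∀ i, Tele (smulEnd (P.homology i) f)) (F : DRing.Cx A) (c : ℤ) (hc : ∀ j, c < j → IsZero (F.X j))
    (hF : ∀ j, Module.Finite A (F.X j)) : ∀ (k : ℕ) (i : ℤ),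
      Tele (smulEnd (((tensR 𝓣 P).obj (trunc F (c + 1 - k))).homology i) f) := by
  intro k
  induction k with
  | zero =>
    intro i
    have hz : IsZero (trunc F (c + 1 - (0 : ℕ))) := by
      refine (IsZero.iff_id_eq_zero _).2 ?_
      ext n : 1
      refine IsZero.eq_of_src ?_ _ _
      by_cases hn : c + 1 - (0 : ℕ) ≤ n
      · have := isIso_ι F hn
        exact (hc n (by omega)).of_iso (asIso ((incl F _).f n))
      · exact isZero_X F (by omega)
    haveI : Subsingleton (((tensR 𝓣 P).obj (trunc F (c + 1 - (0 : ℕ)))).homology i) :=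
      ModuleCat.subsingleton_of_isZero ((CH i).map_isZero ((tensR 𝓣 P).map_isZero hz))
    exact tele_of_subsingleton _
  | succ k ih =>
      let m : ℤ := c + 1 - k
      let m' : ℤ := c + 1 - (k + 1 : ℕ)
      have hm : m' + 1 = m := by simp only [m, m']; omega
      let f' := step F (show m' ≤ m by omega)
      let S : ShortComplex (DRing.Cx A) := ShortComplex.mk f' (cokernel.π f') (cokernel.condition f')
      have hSe : S.Exact := ShortComplex.exact_of_g_is_cokernel S (cokernelIsCokernel f')
      let r : ∀ n, (trunc F m').X n ⟶ (trunc F m).X n := fun n =>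
        if h : m ≤ n then (haveI := isIso_ι F h; (incl F m').f n ≫ inv ((incl F m).f n)) else 0
      have hr : ∀ n, f'.f n ≫ r n = 𝟙 _ := fun n => by
        by_cases h : m ≤ n
        · have := isIso_ι F h
          simp [r, h, f']
        · exact (isZero_X F (show n < m by omega)).eq_of_src _ _
      let σ : ∀ n, (S.map (eval (ModuleCat.{u} A) (ComplexShape.up ℤ) n)).Splitting := fun n =>
        ShortComplex.Splitting.ofExactOfRetraction _ (hSe.map (eval (ModuleCat.{u} A) (ComplexShape.up ℤ) n)) (r n) (hr n)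
          (inferInstanceAs (Epi ((eval (ModuleCat.{u} A) (ComplexShape.up ℤ) n).map (cokernel.π f'))))
      have hz : ∀ n, n ≠ m' → IsZero (S.X₃.X n) := fun n hn => by
        refine (IsZero.iff_id_eq_zero _).2 ((σ n).s_g.symm.trans ?_)
        suffices (S.map (eval (ModuleCat.{u} A) (ComplexShape.up ℤ) n)).g = 0 by rw [this, comp_zero]; rfl
        by_cases h : m ≤ n
        · have := isIso_ι F h
          have := isIso_ι F (show m' ≤ n by omega)
          have : IsIso (f'.f n) :=
            ⟨(incl F m').f n ≫ inv ((incl F m).f n), by simp [f'],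
              by rw [← cancel_mono ((incl F m').f n)]; simp [f']⟩
          exact (cancel_epi (f'.f n)).1 ((S.map (eval (ModuleCat.{u} A) (ComplexShape.up ℤ) n)).zero.trans comp_zero.symm)
        · exact (isZero_X F (show n < m' by omega)).eq_of_src _ _
      have hfin : Module.Finite A (S.X₃.X m') := by
        haveI := hF m'
        haveI := isIso_ι F (le_refl m')
        haveI : Module.Finite A ((eval (ModuleCat.{u} A) (ComplexShape.up ℤ) m').obj (trunc F m')) :=
          Module.Finite.equiv (asIso ((incl F m').f m')).toLinearEquiv.symm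
        exact Module.Finite.of_surjective (((eval (ModuleCat.{u} A) (ComplexShape.up ℤ) m').map (cokernel.π f')).hom)
          ((ModuleCat.epi_iff_surjective _).1 inferInstance)
      have h3 : ∀ i, Tele (smulEnd (((tensR 𝓣 P).obj S.X₃).homology i) f) := fun i =>
        tele_of_linearEquiv f ((CH i).mapIso ((tensR 𝓣 P).mapIso (isoSingle S.X₃ m' hz).symm)).toLinearEquiv
          (tele_tensor_single P f _ (fun j => tele_homology_finite P hfl b hb f hP (b + 1 - j).toNat _ hfin j (by lia)) m' i)
      intro i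
      have h := shortExact_tensR 𝓣 S σ P
      exact tele_of_exact f
        ((ShortComplex.ShortExact.moduleCat_exact_iff_function_exact _).1 (h.homology_exact₁ (i - 1) i (by simp)))
        ((ShortComplex.ShortExact.moduleCat_exact_iff_function_exact _).1 (h.homology_exact₂ i))
        ((ShortComplex.ShortExact.moduleCat_exact_iff_function_exact _).1 (h.homology_exact₃ i (i + 1) rfl))
        (h3 (i - 1)).2 (ih i) (h3 i) (ih (i + 1))

open Stupid in
theorem isIso_incl_tensor (P F : DRing.Cx A) (b m n : ℤ) (hb : ∀ j, b < j → IsZero (P.X j)) (h : m ≤ n - b) :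
    IsIso (((tensR 𝓣 P).map (incl F m)).f n) := by
  let g : ∀ q, F.X q ⟶ (trunc F m).X q := fun q =>
    if hq : m ≤ q then (haveI := isIso_ι F hq; inv ((incl F m).f q)) else 0
  have e := mapBifunctorMap_f_eq_degR 𝓣 P (incl F m) n
  refine ⟨degR 𝓣 P g n, ?_, ?_⟩
  · refine ((congrArg (· ≫ _) e).trans (degR_comp 𝓣 P _ _ n)).trans ?_
    refine Eq.trans ?_ (degR_id 𝓣 P n)
    refine congrArg (fun g => degR 𝓣 P g n) (funext fun q => ?_)
    by_cases hq : m ≤ q
    · haveI := isIso_ι F hq
      simp [g, hq]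
    · exact (isZero_X F (not_le.1 hq)).eq_of_src _ _
  · refine ((congrArg (_ ≫ ·) e).trans (degR_comp 𝓣 P _ _ n)).trans ?_
    refine mapBifunctor.hom_ext fun p q (hpq : p + q = n) => ?_
    simp only [degR, ι_mapBifunctorDesc, Category.comp_id]
    by_cases hq : m ≤ q
    · haveI := isIso_ι F hq
      simp [g, hq]
      exact (Category.comp_id _).symm
    · exact (isZero_tensor_left (hb p (by lia)) _).eq_of_src _ _

theorem bijective_whisker {I : Ideal A} (l : List A) (hl : Ideal.span {x | x ∈ l} = I) {P P' : DRing.Cx A}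
    (u : P ⟶ P') (b : ℤ) (hP : ∀ j, Module.Projective A (P.X j)) (hPb : ∀ j, b < j → IsZero (P.X j))
    (hP' : ∀ j, Module.Projective A (P'.X j)) (hPb' : ∀ j, b < j → IsZero (P'.X j))
    (huniv : ∀ E, DRing.IsDerivedComplete I E →
      Function.Bijective fun α : DRing.toD P' ⟶ E => DerivedCategory.Q.map u ≫ α)
    (F : DRing.Cx A) (c : ℤ) (hF : ∀ j, Module.Projective A (F.X j)) (hFc : ∀ j, c < j → IsZero (F.X j))
    {E : Dual.D A} (hE : DRing.IsDerivedComplete I E) :
    Function.Bijective fun α : DRing.toD (P' ⊗ F) ⟶ E => DerivedCategory.Q.map (u ▷ F) ≫ α := by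
  let cn := CochainComplex.mappingCone (𝟙 P)
  let i : P ⟶ P' ⊞ cn := biprod.lift u (CochainComplex.mappingCone.inr (𝟙 P))
  let r : ∀ n, (P' ⊞ cn).X n ⟶ P.X n := fun n =>
    (biprod.snd : P' ⊞ cn ⟶ cn).f n ≫ (CochainComplex.mappingCone.snd (𝟙 P)).v n n (add_zero n)
  have hr : ∀ n, i.f n ≫ r n = 𝟙 _ := fun n => by
    dsimp only [r, i]
    rw [← Category.assoc, ← HomologicalComplex.comp_f, biprod.lift_snd]
    simp [cn]
  let S : ShortComplex (DRing.Cx A) := ShortComplex.mk i (cokernel.π i) (cokernel.condition i)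
  have hSe : S.Exact := ShortComplex.exact_of_g_is_cokernel S (cokernelIsCokernel i)
  let σ : ∀ n, (S.map (eval (ModuleCat.{u} A) (ComplexShape.up ℤ) n)).Splitting := fun n =>
    ShortComplex.Splitting.ofExactOfRetraction _ (hSe.map (eval (ModuleCat.{u} A) (ComplexShape.up ℤ) n)) (r n) (hr n)
      (inferInstanceAs (Epi ((eval (ModuleCat.{u} A) (ComplexShape.up ℤ) n).map (cokernel.π i))))
  let e : ∀ n, (P' ⊞ cn).X n ≅ P'.X n ⊞ (P.X (n + 1) ⊞ P.X n) := fun n =>
    (eval (ModuleCat.{u} A) (ComplexShape.up ℤ) n).mapBiprod P' cn ≪≫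
      biprod.mapIso (Iso.refl _) (HomologicalComplex.homotopyCofiber.XIsoBiprod (𝟙 P) n (n + 1) rfl)
  have hX3b : ∀ n, b < n → IsZero (S.X₃.X n) := fun n hn => by
    haveI : Subsingleton ((S.map (eval (ModuleCat.{u} A) (ComplexShape.up ℤ) n)).X₂) :=
      ModuleCat.subsingleton_of_isZero
      (IsZero.of_iso ((biprod_isZero_iff _ _).2
        ⟨hPb' n hn, (biprod_isZero_iff _ _).2 ⟨hPb (n + 1) (by lia), hPb n hn⟩⟩) (e n))
    exact @ModuleCat.isZero_of_subsingleton _ _ _
      (Function.Surjective.subsingleton ((ModuleCat.epi_iff_surjective _).1 (σ n).shortExact.epi_g))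
  have hX3p : ∀ n, Module.Projective A (S.X₃.X n) := fun n => by
    haveI := hP' n; haveI := hP (n + 1); haveI := hP n
    let V₁ : ModuleCat.{u} A := P'.X n
    let V₂ : ModuleCat.{u} A := P.X (n + 1)
    let V₃ : ModuleCat.{u} A := P.X n
    haveI : Module.Projective A (V₁ × (V₂ × V₃)) := inferInstance
    haveI : Module.Projective A ((P' ⊞ cn).X n) := Module.Projective.of_equiv (M := (V₁ × (V₂ × V₃)))
      ((e n ≪≫ biprod.mapIso (Iso.refl _) (ModuleCat.biprodIsoProd _ _) ≪≫
        ModuleCat.biprodIsoProd _ _).toLinearEquiv.symm)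
    haveI : Module.Projective A ((S.map (eval (ModuleCat.{u} A) (ComplexShape.up ℤ) n)).X₂) :=
      show Module.Projective A ((P' ⊞ cn).X n) from inferInstance
    exact Module.Projective.of_split (σ n).s.hom ((eval (ModuleCat.{u} A) (ComplexShape.up ℤ) n).map (cokernel.π i)).hom
      (congrArg ModuleCat.Hom.hom (σ n).s_g)
  have hcn : IsIso (DerivedCategory.Q.map (biprod.fst : P' ⊞ cn ⟶ P')) := by
    let S' : ShortComplex (DRing.Cx A) := ShortComplex.mk (biprod.inl : P' ⟶ P' ⊞ cn) biprod.snd biprod.inl_snd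
    have hS' : S'.ShortExact := ShortComplex.Splitting.shortExact
      { r := biprod.fst, s := biprod.inr, f_r := biprod.inl_fst, s_g := biprod.inr_snd, id := biprod.total }
    haveI : IsIso (DerivedCategory.Q.map (biprod.inl : P' ⟶ P' ⊞ cn)) :=
      KFlat.isIso_Q_map _ (quasiIso_f_of_acyclic hS' (acyclic_mappingCone_id P))
    exact IsIso.of_isIso_fac_left (f := DerivedCategory.Q.map (biprod.inl : P' ⟶ P' ⊞ cn))
      (h := 𝟙 _) (by rw [← Functor.map_comp, biprod.inl_fst]; exact DerivedCategory.Q.map_id _)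
  have hi : ∀ E, DRing.IsDerivedComplete I E →
      Function.Bijective fun α : DRing.toD (P' ⊞ cn) ⟶ E => DerivedCategory.Q.map i ≫ α := fun E hE =>
    bijective_arrow_iso (DerivedCategory.Q.map u) _ (Iso.refl _) (asIso (DerivedCategory.Q.map biprod.fst)).symm
      (by simp [i, ← Functor.map_comp]) (huniv E hE)
  have hSS := shortExact_of_splitting S σ
  have hXorth : ∀ E, DRing.IsDerivedComplete I E → ∀ x : DRing.toD S.X₃ ⟶ E, x = 0 := by
    intro E hE x
    have h := (forall_shift_hom_subsingleton_iff (DerivedCategory.triangleOfSES_distinguished hSS) E).2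
      (fun n => hi _ fun f hf => (isC_of_mem hE hf).shift n) 0
    have := h.elim (x ≫ ((shiftFunctorZero (Dual.D A) ℤ).app E).inv) 0
    exact ((Preadditive.IsIso.comp_right_eq_zero _ _).1 this)
  have hXN := fun (N : ModuleCat.{u} A) (hN : ∀ f ∈ l, ∀ x : N, f • x = 0) =>
    exactAt_tensor_of_orth S.X₃ hX3p b hX3b hXorth N (by
      intro f hf x
      refine Submodule.mem_annihilator.1 ((?_ : I ≤ (⊤ : Submodule A N).annihilator) hf) x trivial
      rw [← hl, Ideal.span_le]
      exact fun g hg => Submodule.mem_annihilator.2 fun y _ => hN g hg y)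
  have hFk := KFlat.isKFlat_of_boundedAbove c hFc fun j => DRingPC.PR.toFL A (hF j)
  have horth : ∀ E, DRing.IsDerivedComplete I E → ∀ x : DRing.toD (S.X₃ ⊗ F) ⟶ E, x = 0 := fun E hE =>
    orth l (S.X₃ ⊗ F) (flat_tensorCx b c hX3b hFc (fun j => haveI := hX3p j; inferInstance)
        (fun j => haveI := hF j; inferInstance))
      (fun N hN j => acyclic_tensor_tensor S.X₃ F hFk N (hXN N hN) j) E
      fun f hf => isC_of_mem hE (hl ▸ Ideal.subset_span hf)
  let T := tensL 𝓣 F
  have hT := DerivedCategory.triangleOfSES_distinguished (shortExact_tensL 𝓣 S σ F)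
  have h := (forall_shift_hom_subsingleton_iff hT E).1
    (fun m => subsingleton_of_forall_eq 0 (horth _ fun f hf => (isC_of_mem hE hf).shift m)) 0
  have hbi : Function.Bijective fun α : DRing.toD (T.obj (P' ⊞ cn)) ⟶ E => DerivedCategory.Q.map (T.map i) ≫ α := by
    let z : E⟦(0 : ℤ)⟧ ≅ E := (shiftFunctorZero (Dual.D A) ℤ).app E
    refine ⟨fun x y hxy => ?_, fun x => ?_⟩
    · have : x ≫ z.inv = y ≫ z.inv := h.1
        ((Category.assoc _ _ _).symm.trans ((congrArg (· ≫ z.inv) hxy).trans (Category.assoc _ _ _)))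
      exact (cancel_mono z.inv).1 this
    · obtain ⟨y, hy⟩ := h.2 (x ≫ z.inv)
      exact ⟨y ≫ z.hom, (Category.assoc _ _ _).symm.trans ((congrArg (· ≫ z.hom) hy).trans (by simp))⟩
  haveI : IsIso (DerivedCategory.Q.map (T.map (biprod.fst : P' ⊞ cn ⟶ P'))) := by
    let S' : ShortComplex (DRing.Cx A) := ShortComplex.mk (biprod.inl : P' ⟶ P' ⊞ cn) biprod.snd biprod.inl_snd
    let σ' : S'.Splitting :=
      { r := biprod.fst, s := biprod.inr, f_r := biprod.inl_fst, s_g := biprod.inr_snd, id := biprod.total }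
    haveI : IsIso (DerivedCategory.Q.map (T.map (biprod.inl : P' ⟶ P' ⊞ cn))) :=
      KFlat.isIso_Q_map _ (quasiIso_f_of_acyclic (σ'.map T).shortExact
        (isZero_homology_iff.1 (hFk _ (isZero_homology_iff.2 (acyclic_mappingCone_id P)))))
    exact IsIso.of_isIso_fac_left (f := DerivedCategory.Q.map (T.map (biprod.inl : P' ⟶ P' ⊞ cn)))
      (h := 𝟙 _) (by rw [← Functor.map_comp, ← Functor.map_comp, biprod.inl_fst, T.map_id]; exact DerivedCategory.Q.map_id _)
  exact bijective_arrow_iso (DerivedCategory.Q.map (T.map i)) (DerivedCategory.Q.map (T.map u)) (Iso.refl _)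
    (asIso (DerivedCategory.Q.map (T.map biprod.fst)))
    (by
      simp only [Iso.refl_hom, Category.id_comp, asIso_hom]
      rw [← Functor.map_comp, ← T.map_comp, show i ≫ biprod.fst = u from biprod.lift_fst _ _])
    hbi

theorem completion_tensor_pc [IsNoetherianRing A] (I : Ideal A) [DRing.HasDerivedCompletion I]
    (F : DRing.Cx A) (c : ℤ) (hFc : DRing.VanishesAbove F c) (hFf : DRing.TermwiseFiniteFree F)
    [DRing.HasLTensorCx A F] (K : Dual.D A) (b : ℤ) (hK : ∀ i : ℤ, b < i → Subsingleton (Dual.HD A K i)) :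
    DRing.IsDerivedComplete I ((DRing.LTensorCx A F).obj ((DRing.derivedCompletion I).obj K).obj) ∧
      ∀ E : Dual.D A, DRing.IsDerivedComplete I E →
        Function.Bijective (fun φ : (DRing.LTensorCx A F).obj ((DRing.derivedCompletion I).obj K).obj ⟶ E =>
          (DRing.LTensorCx A F).map (DRing.toDerivedCompletion I K) ≫ φ) := by
  obtain ⟨l, hl⟩ := exists_list_of_fg (IsNoetherian.noetherian I)
  obtain ⟨s, hs⟩ := IsNoetherian.noetherian I
  let K' := (DRing.derivedCompletion I).obj K
  have hKb : ∀ i, b < i → Van K i := fun i hi => @ModuleCat.isZero_of_subsingleton _ _ _ (hK i hi)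
  haveI : K.IsLE b := (DerivedCategory.isLE_iff _ _).2 hKb
  haveI : K'.obj.IsLE b := (DerivedCategory.isLE_iff _ _).2 fun i hi =>
    van_completion s hs K i fun j _ => hKb _ (by lia)
  obtain ⟨P, hP, hPb, ⟨eP⟩⟩ := exists_projective_rep A K b
  obtain ⟨P', hP', hPb', ⟨eP'⟩⟩ := exists_projective_rep A K'.obj b
  obtain ⟨u, hu⟩ := exists_Q_map_eq (P := DRingPC.PR A) (DRingPC.PR.lift A) P hP b hPb P'
    (eP.hom ≫ DRing.toDerivedCompletion I K ≫ eP'.inv)
  have hPk := KFlat.isKFlat_of_boundedAbove b hPb fun j => DRingPC.PR.toFL A (hP j)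
  have hPk' := KFlat.isKFlat_of_boundedAbove b hPb' fun j => DRingPC.PR.toFL A (hP' j)
  have hFproj : ∀ j, Module.Projective A (F.X j) := fun j => haveI := (hFf j).2; Module.Projective.of_free
  have hFk := KFlat.isKFlat_of_boundedAbove c hFc fun j => DRingPC.PR.toFL A (hFproj j)
  have hFfl : ∀ j, Module.Flat A (F.X j) := fun j => haveI := hFproj j; inferInstance
  have huniv : ∀ E, DRing.IsDerivedComplete I E →
      Function.Bijective fun α : DRing.toD P' ⟶ E => DerivedCategory.Q.map u ≫ α := fun E hE =>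
    bijective_arrow_iso (DRing.toDerivedCompletion I K) _ eP.symm eP'.symm
      (by rw [hu]; simp) (unit_bijective K hE)
  constructor
  · rw [isDerivedComplete_iff]
    intro f hf i
    have hPt : ∀ j, Tele (smulEnd (P'.homology j) f) := fun j =>
      tele_of_linearEquiv f ((DH j).mapIso eP'.symm ≪≫ homologyQIso P' j).toLinearEquiv
        ((isDerivedComplete_iff I _).1 K'.property f hf j)
    let k : ℕ := (c + 1 - (i - 1 - b)).toNat
    let m : ℤ := c + 1 - k
    have h1 := tele_tensor_trunc P' (fun j => haveI := hP' j; inferInstance) b hPb' f hPt F c hFc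
      (fun j => (hFf j).1) k i
    let g := (tensR 𝓣 P').map (Stupid.incl F m)
    haveI := isIso_incl_tensor P' F b m (i - 1) hPb' (by simp only [m, k]; lia)
    haveI := isIso_incl_tensor P' F b m i hPb' (by simp only [m, k]; lia)
    haveI := isIso_incl_tensor P' F b m (i + 1) hPb' (by simp only [m, k]; lia)
    haveI : IsIso (HomologicalComplex.homologyMap g i) := by
      haveI : IsIso ((HomologicalComplex.shortComplexFunctor' (ModuleCat.{u} A) (ComplexShape.up ℤ) (i - 1) i (i + 1)).map g) := by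
        haveI : IsIso (((HomologicalComplex.shortComplexFunctor' (ModuleCat.{u} A) (ComplexShape.up ℤ) (i - 1) i (i + 1)).map g).τ₁) := ‹IsIso (g.f (i - 1))›
        haveI : IsIso (((HomologicalComplex.shortComplexFunctor' (ModuleCat.{u} A) (ComplexShape.up ℤ) (i - 1) i (i + 1)).map g).τ₂) := ‹IsIso (g.f i)›
        haveI : IsIso (((HomologicalComplex.shortComplexFunctor' (ModuleCat.{u} A) (ComplexShape.up ℤ) (i - 1) i (i + 1)).map g).τ₃) := ‹IsIso (g.f (i + 1))›
        exact ShortComplex.isIso_of_isIso _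
      exact (NatIso.isIso_map_iff (HomologicalComplex.homologyFunctorIso' (ModuleCat.{u} A) (ComplexShape.up ℤ) (i - 1) i (i + 1) (by simp) (by simp)) g).2
        (inferInstance : IsIso ((ShortComplex.homologyFunctor (ModuleCat.{u} A)).map _))
    exact tele_of_linearEquiv f ((asIso (HomologicalComplex.homologyMap g i)) ≪≫
      ((DH i).mapIso ((DRing.LTensorCx A F).mapIso eP'.symm ≪≫ ltensorCxValueIso F P' hPk') ≪≫
        homologyQIso (P' ⊗ F) i).symm).toLinearEquiv h1
  · intro E hE
    have hbij : Function.Bijective fun α : DRing.toD (P' ⊗ F) ⟶ E => DerivedCategory.Q.map (u ▷ F) ≫ α :=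
      bijective_whisker l hl u b hP hPb hP' hPb' huniv F c hFproj hFc hE
    refine bijective_arrow_iso (DerivedCategory.Q.map (u ▷ F)) _
      ((ltensorCxValueIso F P hPk).symm ≪≫ (DRing.LTensorCx A F).mapIso eP)
      ((ltensorCxValueIso F P' hPk').symm ≪≫ (DRing.LTensorCx A F).mapIso eP') ?_ hbij
    have hnat : (DRing.LTensorCx A F).map (DerivedCategory.Q.map u) ≫ (ltensorCxValueIso F P' hPk').hom =
        (ltensorCxValueIso F P hPk).hom ≫ DerivedCategory.Q.map (u ▷ F) :=
      ((DRing.tensorCxQ A F).totalLeftDerivedCounit DerivedCategory.Q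
        (HomologicalComplex.quasiIso (ModuleCat.{u} A) (ComplexShape.up ℤ))).naturality u
    simp only [Iso.trans_hom, Iso.symm_hom, Functor.mapIso_hom, Category.assoc]
    rw [Iso.inv_comp_eq, ← reassoc_of% hnat, Iso.hom_inv_id_assoc, ← Functor.map_comp, ← Functor.map_comp, hu]
    simp

end Groth.Agent.DComplete
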